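import Cfsg.Agent.RankOne.HalfStab
import Cfsg.Agent.RankOne.FieldCoords
import Cfsg.Agent.Classical.SL
import Mathlib

/-! Zassenhaus groups of degree `q + 1` with two-point stabiliser of order `(q - 1) / 2` and abelian
kernel are the groups `PSL(2, q)`. -/

set_option autoImplicit false
set_option linter.unusedSectionVars false

open MulAction
open scoped OnePoint

namespace Cfsg.Lib.RankOne

open Cfsg.Lib.OddChar.Zassenhaus Matrix

section Mobius

variable {F : Type*} [Field F] [DecidableEq F]

/-- The permutation of the projective line given by a matrix of determinant one. -/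
noncomputable def mobius : SpecialLinearGroup (Fin 2) F →* Equiv.Perm (OnePoint F) :=
  (MulAction.toPermHom (GL (Fin 2) F) (OnePoint F)).comp SpecialLinearGroup.toGL

theorem mobius_some (M : SpecialLinearGroup (Fin 2) F) (x : F) :
    mobius M (x : OnePoint F) = if M 1 0 * x + M 1 1 = 0 then (∞ : OnePoint F)
      else (((M 0 0 * x + M 0 1) / (M 1 0 * x + M 1 1) : F) : OnePoint F) :=
  OnePoint.smul_some_eq_ite

theorem mobius_infty (M : SpecialLinearGroup (Fin 2) F) :
    mobius M (∞ : OnePoint F) = if M 1 0 = 0 then (∞ : OnePoint F) else ((M 0 0 / M 1 0 : F) : OnePoint F) :=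
  OnePoint.smul_infty_eq_ite _

theorem mobius_ker : (mobius (F := F)).ker = Subgroup.center (SpecialLinearGroup (Fin 2) F) := by
  ext M
  rw [MonoidHom.mem_ker, Matrix.SpecialLinearGroup.mem_center_iff]
  have hdet : M 0 0 * M 1 1 - M 0 1 * M 1 0 = 1 := by
    have := M.2
    rwa [det_fin_two] at this
  constructor
  · intro h
    have hi := mobius_infty M
    rw [h, Equiv.Perm.one_apply] at hi
    have h10 : M 1 0 = 0 := by
      by_contra hne
      rw [if_neg hne] at hi
      exact OnePoint.infty_ne_coe _ hi
    have h11 : M 1 1 ≠ 0 := fun hz => by rw [hz, h10] at hdet; simp at hdet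
    have h0 := mobius_some M 0
    rw [h, Equiv.Perm.one_apply] at h0
    simp only [h10, mul_zero, zero_add, if_neg h11, OnePoint.coe_eq_coe] at h0
    have h01 : M 0 1 = 0 := (div_eq_zero_iff.1 h0.symm).resolve_right h11
    have h1 := mobius_some M 1
    rw [h, Equiv.Perm.one_apply] at h1
    simp only [h10, h01, mul_one, zero_add, add_zero, if_neg h11, OnePoint.coe_eq_coe] at h1
    have h00 : M 0 0 = M 1 1 := (div_eq_one_iff_eq h11).1 h1.symm
    refine ⟨M 0 0, ?_, ?_⟩
    · rw [Fintype.card_fin, sq]
      simp only [h10, h01, mul_zero, sub_zero] at hdet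
      rw [← h00] at hdet
      exact hdet
    · ext i j
      fin_cases i <;> fin_cases j <;> simp [scalar_apply, diagonal_apply, h10, h01, h00]
  · rintro ⟨r, hr, hM⟩
    have e : ∀ i j : Fin 2, M i j = if i = j then r else 0 := fun i j => by
      rw [← hM]; simp [scalar_apply, diagonal_apply]
    have hr0 : r ≠ 0 := fun hz => by simp [hz] at hr
    refine Equiv.ext fun x => ?_
    cases x using OnePoint.rec with
    | infty => rw [mobius_infty]; simp [e]
    | coe x => rw [mobius_some]; simp [e, hr0]

end Mobius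

variable {G Ω : Type*} [Group G] [Finite G] [MulAction G Ω] [Fintype Ω]
variable {a b : Ω} {H : Subgroup G}

theorem zassenhaus_psl (hZ : Cfsg.IsZassenhausGroup G Ω) (hab : a ≠ b)
    (hd : 2 * Nat.card (stab₂ G a b) + 2 = Fintype.card Ω)
    (hHa : H ≤ stabilizer G a) (hHcard : Nat.card H + 1 = Fintype.card Ω)
    (hHfix : ∀ u ∈ H, u ≠ 1 → ∀ c : Ω, u • c = c → c = a) (hHab : IsMulCommutative H) :
    ∃ (F : Type) (_ : Field F) (_ : Fintype F), Fintype.card F = Nat.card H ∧ ringChar F ≠ 2 ∧
      Nonempty (G ≃* ProjectiveSpecialLinearGroup (Fin 2) F) := by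
  classical
  have := hZ.1
  obtain ⟨h, hh⟩ : ∃ h, Fintype.card Ω = h + 1 :=
    ⟨_, (Nat.sub_add_cancel (Fintype.card_pos_iff.mpr ⟨a⟩)).symm⟩
  have hh2 := two_le hZ hab hh
  obtain ⟨hEcomm, hsw⟩ := half_stab_facts hZ hab hd hHa hHcard hHfix hHab
  have hn := kernel_normal hZ hab hh hHa hHcard hHfix
  have hfpf := fpf hab hZ hHa hHfix
  set E := stab₂ G a b with hE
  obtain ⟨F, _, _, ι, χ, hFcard, hι, hι0, hιadd, hχ, hsq, hχmul⟩ := exists_square_coords H E hHab hEcomm
    (fun u hu x hx => hn u hu.1 x hx) (fun u hu hu1 x hx hc => hfpf.eq_one hu hu1 hx hc) (by omega)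
  have hE0 : 0 < Nat.card E := Nat.card_pos
  have hq : Fintype.card F = 2 * Nat.card E + 1 := by rw [hFcard]; omega
  have hchar : ringChar F ≠ 2 := fun h2 => by
    obtain h' := FiniteField.even_card_iff_char_two.1 h2
    omega
  refine ⟨F, ‹_›, ‹_›, hFcard, hchar, ?_⟩
  have hneg : IsSquare (-1 : F) ↔ Even (Nat.card E) := by
    rw [FiniteField.isSquare_neg_one_iff, hq, Nat.even_iff]; omega
  have hnsmul : ∀ x y : F, ¬ IsSquare x → ¬ IsSquare y → IsSquare (x * y) := by
    intro x y hx hy
    have hx0 : x ≠ 0 := fun h' => hx (h' ▸ IsSquare.zero)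
    have hy0 : y ≠ 0 := fun h' => hy (h' ▸ IsSquare.zero)
    rw [← quadraticChar_one_iff_isSquare (mul_ne_zero hx0 hy0), map_mul,
      quadraticChar_neg_one_iff_not_isSquare.2 hx, quadraticChar_neg_one_iff_not_isSquare.2 hy]
    rfl
  have hnsns : ∀ x y : F, ¬ IsSquare x → y ≠ 0 → IsSquare y → ¬ IsSquare (x * y) := by
    intro x y hx hy0 hy hxy
    exact hx (by simpa [hy0] using hxy.div hy)
  -- coordinates of the points
  let θ : OnePoint F → Ω := fun x => OnePoint.rec a (fun y => (ι y : G) • b) x
  have hTa : ∀ x : F, (ι x : G) • a = a := fun x => hHa (ι x).2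
  have hTb : ∀ x : F, (ι x : G) • b ≠ a := fun x h' =>
    hab.symm (smul_left_cancel (ι x : G) (h'.trans (hTa x).symm))
  have hθ : Function.Bijective θ := by
    constructor
    · intro x y hxy
      cases x using OnePoint.rec with
      | infty =>
        cases y using OnePoint.rec with
        | infty => rfl
        | coe y => exact absurd hxy.symm (hTb y)
      | coe x =>
        cases y using OnePoint.rec with
        | infty => exact absurd hxy (hTb x)
        | coe y =>
          have hxy' : (ι x : G) • b = (ι y : G) • b := hxy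
          have h1 : ((ι y : G)⁻¹ * ι x) • b = b := by rw [mul_smul, hxy', inv_smul_smul]
          by_contra hne
          exact hab.symm (hHfix _ (mul_mem (inv_mem (ι y).2) (ι x).2)
            (fun h' => hne (congrArg _ (hι.1 (Subtype.ext (inv_mul_eq_one.1 h').symm)))) b h1)
    · intro c
      rcases eq_or_ne c a with rfl | hc
      · exact ⟨∞, rfl⟩
      · obtain ⟨u, hu, hub⟩ := exists_kernel_map hHa hHcard hHfix hab.symm hc
        obtain ⟨x, hx⟩ := hι.2 ⟨u, hu⟩
        exact ⟨x, by show (ι x : G) • b = c; rw [hx]; exact hub⟩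
  have hθ0 : θ ((0 : F) : OnePoint F) = b := by show (ι 0 : G) • b = b; rw [hι0]; exact one_smul G b
  have hT : ∀ z x : F, (ι z : G) • θ x = θ ((z + x : F) : OnePoint F) := fun z x => by
    show (ι z : G) • (ι x : G) • b = (ι (z + x) : G) • b
    rw [hιadd, ← mul_smul]; rfl
  have hM : ∀ (u : E) (x : F), (u : G) • θ x = θ ((χ u * x : F) : OnePoint F) := fun u x => by
    show (u : G) • (ι x : G) • b = (ι (χ u * x) : G) • b
    rw [hχmul, mul_smul, mul_smul, show (u : G)⁻¹ • b = b from inv_smul_eq_iff.2 u.2.2.symm]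
  -- the interchanging element
  obtain ⟨w, hwa, hwb⟩ := exists_map hZ hab hab.symm
  obtain ⟨hw2, hwinv, hwfix⟩ := hsw w hwa hwb
  have hww : ∀ c : Ω, w • w • c = c := fun c => by rw [← mul_smul, hw2, one_smul]
  have hw1 : ∀ x : F, x ≠ 0 → ∃ y : F, y ≠ 0 ∧ w • θ x = θ y := by
    intro x hx
    obtain ⟨p, hp⟩ := hθ.2 (w • θ x)
    cases p using OnePoint.rec with
    | infty =>
      exfalso
      apply hx
      have h1 : θ x = θ (0 : F) := smul_left_cancel w (by rw [hθ0, hwb]; exact hp.symm)
      exact OnePoint.coe_injective (hθ.1 h1)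
    | coe y =>
      refine ⟨y, fun hy => ?_, hp.symm⟩
      rw [hy, hθ0] at hp
      have h1 : θ x = θ ∞ := smul_left_cancel w (hp.symm.trans hwa.symm)
      exact OnePoint.coe_ne_infty x (hθ.1 h1)
  choose f hf0 hf using hw1
  let g : F → F := fun x => if hx : x = 0 then 0 else f x hx
  have hg0 : ∀ x : F, x ≠ 0 → g x ≠ 0 := fun x hx => by simp only [g, dif_neg hx]; exact hf0 x hx
  have hg : ∀ x : F, x ≠ 0 → w • θ x = θ (g x : F) := fun x hx => by
    simp only [g, dif_neg hx]; exact hf x hx
  have hgg : ∀ x : F, x ≠ 0 → g (g x) = x := fun x hx => by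
    apply OnePoint.coe_injective
    apply hθ.1
    rw [← hg _ (hg0 x hx), ← hg x hx, hww]
  have hχinv : ∀ u : E, χ u⁻¹ = (χ u)⁻¹ := fun u => by
    refine eq_inv_of_mul_eq_one_left ?_
    apply hι.1
    apply Subtype.ext
    have h1 := hχmul u 1
    rw [mul_one] at h1
    rw [hχmul, h1]
    simp [mul_assoc]
  have hgs : ∀ s x : F, s ≠ 0 → IsSquare s → x ≠ 0 → g (s * x) = s⁻¹ * g x := by
    intro s x hs hs2 hx
    obtain ⟨u, hu⟩ := hsq s hs hs2
    apply OnePoint.coe_injective
    apply hθ.1
    rw [← hg _ (mul_ne_zero hs hx), ← hu, ← hM, ← hχinv, ← hM, ← hg x hx, ← mul_smul, ← mul_smul]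
    congr 1
    rw [Subgroup.coe_inv, ← hwinv u u.2]
    calc w * (u : G) = w * u * (w * w) := by rw [hw2, mul_one]
      _ = w * u * w * w := by group
  let c : F → F := fun x => x * g x
  have hc0 : ∀ x : F, x ≠ 0 → c x ≠ 0 := fun x hx => mul_ne_zero hx (hg0 x hx)
  have hcg : ∀ x : F, x ≠ 0 → c (g x) = c x := fun x hx => by
    show g x * g (g x) = x * g x
    rw [hgg x hx, mul_comm]
  have hcs : ∀ s x : F, s ≠ 0 → IsSquare s → x ≠ 0 → c (s * x) = c x := fun s x hs hs2 hx => by
    show s * x * g (s * x) = x * g x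
    rw [hgs s x hs hs2 hx]
    field_simp
  set A := c 1 with hA
  have hA0 : A ≠ 0 := hc0 1 one_ne_zero
  have hA1 : g 1 = A := (one_mul (g 1)).symm
  have hcA : ∀ x : F, x ≠ 0 → IsSquare x → c x = A := fun x hx hx2 => by
    have := hcs x 1 hx hx2 one_ne_zero
    rwa [mul_one] at this
  have hfixpt : Even (Nat.card E) → ∃ r : F, r ≠ 0 ∧ g r = r := by
    intro hev
    obtain ⟨p, hp⟩ := hwfix.2 hev
    obtain ⟨x, rfl⟩ := hθ.2 p
    cases x using OnePoint.rec with
    | infty => exact absurd (hwa.symm.trans hp) hab.symm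
    | coe x =>
      have hx : x ≠ 0 := fun hx => by rw [hx, hθ0, hwb] at hp; exact hab hp
      exact ⟨x, hx, OnePoint.coe_injective (hθ.1 ((hg x hx).symm.trans hp))⟩
  obtain ⟨k, hk, hck⟩ : ∃ k : F, k ≠ 0 ∧ ∀ x : F, x ≠ 0 → g x = -(k * k) / x := by
    suffices key : (∀ x : F, x ≠ 0 → c x = A) ∧ IsSquare (-A) by
      obtain ⟨hall, k, hk⟩ := key
      refine ⟨k, fun hk0 => hA0 (by rw [hk0, mul_zero, neg_eq_zero] at hk; exact hk), fun x hx => ?_⟩
      rw [← hk, neg_neg, eq_div_iff hx, mul_comm]
      exact hall x hx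
    by_cases hA2 : IsSquare A
    · rcases Nat.even_or_odd (Nat.card E) with hev | hodd
      · have hAneg : IsSquare (-A) := by rw [neg_eq_neg_one_mul]; exact (hneg.2 hev).mul hA2
        refine ⟨fun x hx => ?_, hAneg⟩
        by_cases hx2 : IsSquare x
        · exact hcA x hx hx2
        -- a square followed by a non-square
        obtain ⟨y, hy0, hy2, hy1⟩ : ∃ y : F, y ≠ 0 ∧ IsSquare y ∧ ¬ IsSquare (y + 1) := by
          by_contra hcon
          push Not at hcon
          have hclosed : ∀ s t : F, IsSquare s → IsSquare t → IsSquare (s + t) := by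
            intro s t hs ht
            rcases eq_or_ne t 0 with rfl | ht0
            · rwa [add_zero]
            rcases eq_or_ne s 0 with rfl | hs0
            · rwa [zero_add]
            have h1 : IsSquare (s / t + 1) := hcon (s / t) (div_ne_zero hs0 ht0) (hs.div ht)
            have h2 := ht.mul h1
            rwa [mul_add, mul_div_cancel₀ s ht0, mul_one] at h2
          let K : AddSubgroup F :=
            { carrier := {s | IsSquare s}
              zero_mem' := IsSquare.zero
              add_mem' := fun hs ht => hclosed _ _ hs ht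
              neg_mem' := fun {s} hs => by
                show IsSquare (-s)
                rw [neg_eq_neg_one_mul]; exact (hneg.2 hev).mul hs }
          have hKtop : K ≠ ⊤ := fun h' => hx2 (show x ∈ K by rw [h']; trivial)
          have hKcard : Nat.card E + 1 ≤ Nat.card K := by
            have hS : Function.Injective (fun s : Option E => (match s with
                | none => (0 : K)
                | some u => ⟨χ u, (hχ u).2⟩)) := by
              rintro (_ | u) (_ | v) huv <;> have huv' := congrArg Subtype.val huv <;> simp only at huv'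
              · rfl
              · exact absurd huv'.symm (hχ v).1
              · exact absurd huv' (hχ u).1
              · have h1 := hχmul u 1
                rw [huv', hχmul v 1] at h1
                by_contra hne
                have hne' : (v : G)⁻¹ * u ≠ 1 := fun h' =>
                  hne (congrArg some (Subtype.ext (inv_mul_eq_one.1 h').symm))
                refine one_ne_zero (hι.1 ((Subtype.ext (hfpf.eq_one (mul_mem (inv_mem v.2) u.2) hne'
                  (ι 1).2 ?_) : ι 1 = 1).trans hι0.symm))
                calc (v : G)⁻¹ * u * ι 1 = (v : G)⁻¹ * ((u : G) * ι 1 * (u : G)⁻¹) * u := by group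
                  _ = (v : G)⁻¹ * ((v : G) * ι 1 * (v : G)⁻¹) * u := by rw [← h1]
                  _ = _ := by group
            have := Nat.card_le_card_of_injective _ hS
            rwa [Finite.card_option] at this
          have h2 := K.card_mul_index
          rw [Nat.card_eq_fintype_card (α := F), hq] at h2
          have h3 : 2 ≤ K.index := by
            have := AddSubgroup.index_ne_zero_of_finite (H := K)
            have : K.index ≠ 1 := fun h' => hKtop (AddSubgroup.index_eq_one.1 h')
            omega
          have := Nat.mul_le_mul hKcard h3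
          omega
        -- constants: `g (-A) = -1`
        set n := y + 1 with hn'
        have hn0 : n ≠ 0 := fun h' => hy1 (h' ▸ IsSquare.zero)
        have hAn : ¬ IsSquare (A * n) := fun h' => hy1 (by
          have := h'.div hA2; rwa [mul_div_cancel_left₀ n hA0] at this)
        set B := c n with hB
        have hxB : c x = B := by
          have h1 : IsSquare (x / n) := by
            have := (hnsmul x n hx2 hy1).div (IsSquare.mul_self n)
            rwa [show x * n / (n * n) = x / n by field_simp] at this
          have h2 := hcs (x / n) n (div_ne_zero hx hn0) h1 hn0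
          rwa [div_mul_cancel₀ x hn0] at h2
        rw [hxB]
        obtain ⟨u, hu⟩ := hsq (-A) (neg_ne_zero.2 hA0) hAneg
        have hgA : g A = 1 := by rw [← hA1, hgg 1 one_ne_zero]
        have hgnA : g (-A) = -1 := by
          have h1 : c (-A) = A := hcA _ (neg_ne_zero.2 hA0) hAneg
          have h2 : -A * g (-A) = A := h1
          have h3 : -A * g (-A) = -A * -1 := by rw [h2]; ring
          exact mul_left_cancel₀ (neg_ne_zero.2 hA0) h3
        have hLR : ∀ p : Ω, w • (ι 1 : G) • w • p = (ι A : G) • (u : G) • w • (ι A : G) • p := by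
          intro p
          have h0 : ∀ p, p = a ∨ p = b ∨ p = θ (-A : F) →
              w • (ι 1 : G) • w • p = (ι A : G) • (u : G) • w • (ι A : G) • p := by
            rintro p (h' | h' | h') <;> rw [h']
            · rw [hwa, hTa, hwa]
              rw [show (ι 1 : G) • b = θ (1 : F) from rfl, hg 1 one_ne_zero, hA1,
                show (u : G) • b = b from u.2.2]
              rfl
            · rw [hwb, hTa, hwa]
              rw [show (ι A : G) • b = θ A from rfl, hg A hA0, hgA, hM, hu, hT, mul_one,
                add_neg_cancel, hθ0]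
            · rw [hg _ (neg_ne_zero.2 hA0), hgnA, hT, hT, add_neg_cancel, add_neg_cancel, hθ0, hwb,
                show (u : G) • a = a from u.2.1, hTa]
          by_contra hne
          set L := w * (ι 1 : G) * w with hL
          set R := (ι A : G) * u * w * ι A with hR
          have h3 : ∀ p, p = a ∨ p = b ∨ p = θ (-A : F) → (R⁻¹ * L) • p = p := fun p hp => by
            rw [mul_smul, inv_smul_eq_iff, hL, hR, mul_smul, mul_smul, mul_smul, mul_smul, mul_smul]
            exact h0 p hp
          have h4 : R⁻¹ * L = 1 := eq_one_of_three hZ hab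
            (c := θ (-A : F)) (fun h' => OnePoint.coe_ne_infty _ (hθ.1 (h'.trans (rfl : a = θ ∞))))
            (fun h' => neg_ne_zero.2 hA0 (OnePoint.coe_injective (hθ.1 (h'.trans hθ0.symm))))
            (h3 a (Or.inl rfl)) (h3 b (Or.inr (Or.inl rfl))) (h3 _ (Or.inr (Or.inr rfl)))
          have h5 : R • p = L • p := by rw [inv_mul_eq_one.1 h4]
          rw [hL, hR, mul_smul, mul_smul, mul_smul, mul_smul, mul_smul] at h5
          exact hne h5.symm
        have hAy0 : A * y ≠ 0 := mul_ne_zero hA0 hy0
        have hgAy : g (A * y) = y⁻¹ := by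
          have h1 : A * y * g (A * y) = A := hcA _ hAy0 (hA2.mul hy2)
          field_simp at h1 ⊢
          linear_combination h1
        have hyy : y⁻¹ + 1 = n / y := by rw [hn']; field_simp; ring
        have hgn : g (n / y) = y * (g n) := by
          rw [div_eq_inv_mul, hgs y⁻¹ n (inv_ne_zero hy0) hy2.inv hn0, inv_inv]
        have hgn' : g (A * n) = A⁻¹ * g n := hgs A n hA0 hA2 hn0
        have hp := hLR (θ (A * y : F))
        rw [hg _ hAy0, hgAy, hT, add_comm (1 : F) y⁻¹, hyy, hg _ (div_ne_zero hn0 hy0), hgn, hT,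
          show A + A * y = A * n by rw [hn']; ring, hg _ (mul_ne_zero hA0 hn0), hgn', hM, hu, hT] at hp
        have hp' := OnePoint.coe_injective (hθ.1 hp)
        rw [show -A * (A⁻¹ * g n) = -g n by field_simp] at hp'
        show n * g n = A
        rw [hn'] at hp' ⊢
        linear_combination hp'
      · -- no fixed points
        exfalso
        obtain ⟨r, hr⟩ := hA2
        have hr0 : r ≠ 0 := fun h' => hA0 (by rw [hr, h', zero_mul])
        suffices hh' : ∃ r', r' ≠ 0 ∧ IsSquare r' ∧ A = r' * r' by
          obtain ⟨r', hr', hrs, hrr⟩ := hh'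
          have h1 : r' * g r' = r' * r' := (hcA r' hr' hrs).trans hrr
          have h2 : w • θ r' = θ r' := by rw [hg r' hr', mul_left_cancel₀ hr' h1]
          exact Nat.not_even_iff_odd.2 hodd (hwfix.1 ⟨_, h2⟩)
        by_cases hrs : IsSquare r
        · exact ⟨r, hr0, hrs, hr⟩
        · refine ⟨-r, neg_ne_zero.2 hr0, ?_, by rw [hr]; ring⟩
          rw [neg_eq_neg_one_mul]
          exact hnsmul _ _ (fun h' => Nat.not_even_iff_odd.2 hodd (hneg.1 h')) hrs
    · have hcAA : c A = A := by
        have h1 := hcg 1 one_ne_zero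
        rwa [hA1] at h1
      have hall : ∀ x : F, x ≠ 0 → c x = A := by
        intro x hx
        by_cases hx2 : IsSquare x
        · exact hcA x hx hx2
        have h1 : IsSquare (x / A) := by
          have := (hnsmul x A hx2 hA2).div (IsSquare.mul_self A)
          rwa [show x * A / (A * A) = x / A by field_simp] at this
        have h2 := hcs (x / A) A (div_ne_zero hx hA0) h1 hA0
        rw [div_mul_cancel₀ x hA0] at h2
        exact h2.trans hcAA
      refine ⟨hall, ?_⟩
      rcases Nat.even_or_odd (Nat.card E) with hev | hodd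
      · obtain ⟨r, hr, hgr⟩ := hfixpt hev
        exact absurd ⟨r, ((congrArg (r * ·) hgr).symm.trans (hall r hr)).symm⟩ hA2
      · rw [neg_eq_neg_one_mul]
        exact hnsmul _ _ (fun h' => Nat.not_even_iff_odd.2 hodd (hneg.1 h')) hA2
  -- the isomorphism
  let e := Equiv.ofBijective θ hθ
  let ψ : G →* Equiv.Perm (OnePoint F) :=
    e.symm.permCongrHom.toMonoidHom.comp (MulAction.toPermHom G Ω)
  have hψ : ∀ (x : G) (p : OnePoint F), θ (ψ x p) = x • θ p := fun x p => by
    show e (e.symm (x • e p)) = x • θ p
    rw [Equiv.apply_symm_apply]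
    rfl
  have hψinj : Function.Injective ψ := fun x y hxy => eq_of_smul_eq_smul fun d : Ω => by
    obtain ⟨p, rfl⟩ := hθ.2 d
    rw [← hψ, ← hψ, hxy]
  let U : F → SpecialLinearGroup (Fin 2) F := fun z => ⟨!![1, z; 0, 1], by simp [det_fin_two]⟩
  let D : (r : F) → r ≠ 0 → SpecialLinearGroup (Fin 2) F := fun r hr =>
    ⟨!![r, 0; 0, r⁻¹], by simp [det_fin_two, hr]⟩
  let W : SpecialLinearGroup (Fin 2) F := ⟨!![0, k; -k⁻¹, 0], by simp [det_fin_two, hk]⟩
  have hθinf : θ ∞ = a := rfl
  have hψU : ∀ z : F, ψ (ι z : G) = mobius (U z) := fun z => Equiv.ext fun p => hθ.1 (by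
    rw [hψ]
    cases p using OnePoint.rec with
    | infty => rw [mobius_infty]; simp [U, hθinf, hTa]
    | coe x => rw [mobius_some]; simp [U, hT, add_comm])
  have hψD : ∀ u : E, ψ (u : G) ∈ (mobius (F := F)).range := fun u => by
    obtain ⟨r, hr⟩ := (hχ u).2
    have hr0 : r ≠ 0 := fun h' => (hχ u).1 (by rw [hr, h', zero_mul])
    refine ⟨D r hr0, (Equiv.ext fun p => hθ.1 ?_).symm⟩
    rw [hψ]
    cases p using OnePoint.rec with
    | infty => rw [mobius_infty]; simp [D, hθinf, show (u : G) • a = a from u.2.1]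
    | coe x => rw [mobius_some]; simp [D, hr0, hM, hr, mul_comm, mul_left_comm]
  have hψW : ψ w = mobius W := Equiv.ext fun p => hθ.1 (by
    rw [hψ]
    cases p using OnePoint.rec with
    | infty => rw [mobius_infty]; simp [W, hθinf, hwa, hθ0, hk]
    | coe x =>
      rcases eq_or_ne x 0 with rfl | hx
      · rw [mobius_some]; simp [W, hθ0, hwb, hθinf]
      · rw [hg x hx, hck x hx, mobius_some]
        simp [W, hk, hx]
        field_simp)
  have hrange : ψ.range = (mobius (F := F)).range := by
    apply le_antisymm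
    · rintro _ ⟨x, rfl⟩
      have hGa : ∀ y : G, y • a = a → ψ y ∈ (mobius (F := F)).range := by
        intro y hy
        obtain ⟨u, hu, hub⟩ := exists_kernel_map hHa hHcard hHfix hab.symm
          (show y • b ≠ a from fun h' => hab.symm (smul_left_cancel y (h'.trans hy.symm)))
        obtain ⟨z, hz⟩ := hι.2 ⟨u, hu⟩
        have hz' : (ι z : G) = u := congrArg Subtype.val hz
        have hmem : u⁻¹ * y ∈ E := by
          refine Subgroup.mem_inf.2 ⟨mul_mem (inv_mem (hHa hu)) hy, mem_stabilizer_iff.2 ?_⟩
          rw [mul_smul, ← hub, inv_smul_smul]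
        rw [show y = (ι z : G) * ((⟨_, hmem⟩ : E) : G) by rw [hz']; group, map_mul]
        exact mul_mem ⟨U z, (hψU z).symm⟩ (hψD _)
      rcases eq_or_ne (x • a) a with hxa | hxa
      · exact hGa x hxa
      · obtain ⟨u, hu, hub⟩ := exists_kernel_map hHa hHcard hHfix hab.symm hxa
        obtain ⟨z, hz⟩ := hι.2 ⟨u, hu⟩
        have hz' : (ι z : G) = u := congrArg Subtype.val hz
        have hy : (w * u⁻¹ * x) • a = a := by
          rw [mul_smul, mul_smul, ← hub, inv_smul_smul, hwb]
        rw [show x = (ι z : G) * w * (w * u⁻¹ * x) by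
          rw [hz', show u * w * (w * u⁻¹ * x) = u * (w * w) * u⁻¹ * x by group, hw2]; group, map_mul, map_mul]
        exact mul_mem (mul_mem ⟨U z, (hψU z).symm⟩ ⟨W, hψW.symm⟩) (hGa _ hy)
    · rw [MonoidHom.range_eq_map, Subgroup.map_le_iff_le_comap]
      rw [Cfsg.Lib.Classical.eq_top_of_transvection_mem (ψ.range.comap (mobius (F := F))) fun i j hij z => ?_]
      have hneg1 : ∀ M N : SpecialLinearGroup (Fin 2) F, (M : Matrix (Fin 2) (Fin 2) F) = -(N : Matrix (Fin 2) (Fin 2) F) →
          mobius M = mobius N := fun M N hMN => by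
        have hmem : M * N⁻¹ ∈ (mobius (F := F)).ker := by
          rw [mobius_ker, Matrix.SpecialLinearGroup.mem_center_iff]
          refine ⟨-1, by simp, ?_⟩
          rw [Matrix.SpecialLinearGroup.coe_mul, hMN, Matrix.neg_mul, ← Matrix.SpecialLinearGroup.coe_mul, mul_inv_cancel,
            Matrix.SpecialLinearGroup.coe_one]
          ext p q
          simp [scalar_apply, diagonal_apply, one_apply]
          split_ifs <;> simp
        rwa [MonoidHom.mem_ker, map_mul, map_inv, mul_inv_eq_one] at hmem
      rw [Subgroup.mem_comap]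
      fin_cases i <;> fin_cases j <;> first | exact absurd rfl hij | skip
      · refine ⟨(ι z : G), (hψU z).trans ?_⟩
        congr 1
        ext p q
        fin_cases p <;> fin_cases q <;> simp [U, Matrix.SpecialLinearGroup.transvection_coe, Matrix.SpecialLinearGroup.coe_mul]
      · refine ⟨w * (ι (-(z * (k * k))) : G) * w, ?_⟩
        rw [map_mul, map_mul, hψU, hψW, ← map_mul, ← map_mul]
        apply hneg1
        rw [Matrix.SpecialLinearGroup.coe_mul, Matrix.SpecialLinearGroup.coe_mul, Matrix.SpecialLinearGroup.transvection_coe]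
        ext p q
        fin_cases p <;> fin_cases q <;>
          simp [U, W, Matrix.SpecialLinearGroup.transvection_coe, Matrix.SpecialLinearGroup.coe_mul, Matrix.mul_apply, Fin.sum_univ_two, hk]
        field_simp
  exact ⟨((MonoidHom.ofInjective hψinj).trans (MulEquiv.subgroupCongr hrange)).trans
    ((QuotientGroup.quotientKerEquivRange (mobius (F := F))).symm.trans
      (QuotientGroup.quotientMulEquivOfEq mobius_ker))⟩

end Cfsg.Lib.RankOne
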