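import Cfsg.Agent.RankOne.FieldCoords
import Mathlib

/-! An abelian group acted on irreducibly and without fixed points by an abelian group is the additive
group of a field, generated as a ring by the image of the acting group. -/

set_option autoImplicit false
set_option linter.style.haveILetI false
set_option linter.deprecated false

namespace Cfsg.Lib.RankOne

theorem exists_irreducible_coords {G : Type*} [Group G] [Finite G] (H E : Subgroup G)
    (hH : IsMulCommutative H) (hE : ∀ x ∈ E, ∀ y ∈ E, x * y = y * x)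
    (hn : ∀ u ∈ E, ∀ x ∈ H, u * x * u⁻¹ ∈ H)
    (hfpf : ∀ u ∈ E, u ≠ 1 → ∀ x ∈ H, u * x = x * u → x = 1)
    (hnt : 1 < Nat.card H)
    (hirr₀ : ∀ W : Subgroup G, W ≤ H → (∀ u ∈ E, ∀ x ∈ W, u * x * u⁻¹ ∈ W) → W = ⊥ ∨ W = H) :
    ∃ (F : Type) (_ : Field F) (_ : Fintype F) (ι : F → H) (χ : E → F),
      Fintype.card F = Nat.card H ∧ Function.Bijective ι ∧ ι 0 = 1 ∧
      (∀ x y : F, ι (x + y) = ι x * ι y) ∧ (∀ u : E, χ u ≠ 0) ∧ Function.Injective χ ∧
      (∀ u v : E, χ (u * v) = χ u * χ v) ∧
      (∀ (u : E) (x : F), (ι (χ u * x) : G) = (u : G) * ι x * (u : G)⁻¹) ∧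
      ∀ R : Subring F, (∀ u, χ u ∈ R) → ∀ a, a ∈ R := by
  classical
  letI : CommGroup H := { (inferInstance : Group H) with mul_comm := hH.is_comm.comm }
  let conjE : E → AddMonoid.End (Additive H) := fun u =>
    { toFun := fun x => Additive.ofMul ⟨(u : G) * (Additive.toMul x : H) * (u : G)⁻¹, hn u u.2 _ (Additive.toMul x).2⟩
      map_zero' := Additive.toMul.injective (Subtype.ext (by simp))
      map_add' := fun x y => Additive.toMul.injective (Subtype.ext (by simp [mul_assoc])) }
  have hconj : ∀ (u : E) (x : Additive H),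
      ((Additive.toMul (conjE u x) : H) : G) = (u : G) * (Additive.toMul x : H) * (u : G)⁻¹ := fun u x => rfl
  have hc : ∀ x ∈ Set.range conjE, ∀ y ∈ Set.range conjE, x * y = y * x := by
    rintro _ ⟨u, rfl⟩ _ ⟨v, rfl⟩
    refine AddMonoidHom.ext fun x => Additive.toMul.injective (Subtype.ext ?_)
    show (u : G) * ((v : G) * (Additive.toMul x : H) * (v : G)⁻¹) * (u : G)⁻¹ =
      (v : G) * ((u : G) * (Additive.toMul x : H) * (u : G)⁻¹) * (v : G)⁻¹
    calc _ = ((u : G) * v) * (Additive.toMul x : H) * ((u : G) * v)⁻¹ := by group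
      _ = ((v : G) * u) * (Additive.toMul x : H) * ((v : G) * u)⁻¹ := by rw [hE u u.2 v v.2]
      _ = _ := by group
  let S : Subring (AddMonoid.End (Additive H)) := Subring.closure (Set.range conjE)
  letI : CommRing S := Subring.closureCommRingOfComm hc
  have hScomm : ∀ φ ∈ S, ∀ u : E, φ * conjE u = conjE u * φ := fun φ hφ u =>
    congrArg Subtype.val (mul_comm (⟨φ, hφ⟩ : S) ⟨conjE u, Subring.subset_closure ⟨u, rfl⟩⟩)
  have horb : ∀ x : Additive H, x ≠ 0 → Function.Injective fun u : E => conjE u x := by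
    intro x hx u v huv
    have h1 : (u : G) * (Additive.toMul x : H) * (u : G)⁻¹ = (v : G) * (Additive.toMul x : H) * (v : G)⁻¹ := by
      rw [← hconj, ← hconj]
      exact congrArg (fun y => ((Additive.toMul y : H) : G)) huv
    by_contra hne
    refine hx (Additive.toMul.injective (Subtype.ext (hfpf ((v : G)⁻¹ * u) (mul_mem (inv_mem v.2) u.2)
      (fun h => hne (Subtype.ext (inv_mul_eq_one.1 h).symm)) _ (Additive.toMul x).2 ?_)))
    calc (v : G)⁻¹ * u * (Additive.toMul x : H) = (v : G)⁻¹ * ((u : G) * (Additive.toMul x : H) * (u : G)⁻¹) * u := by group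
      _ = (v : G)⁻¹ * ((v : G) * (Additive.toMul x : H) * (v : G)⁻¹) * u := by rw [h1]
      _ = _ := by group
  have hirr : ∀ K : AddSubgroup (Additive H), (∀ u : E, ∀ x ∈ K, conjE u x ∈ K) → K ≠ ⊥ → K = ⊤ := by
    intro K hK hKne
    let W : Subgroup G :=
      { carrier := {g | ∃ x ∈ K, ((Additive.toMul x : H) : G) = g}
        one_mem' := ⟨0, K.zero_mem, rfl⟩
        mul_mem' := by
          rintro _ _ ⟨x, hx, rfl⟩ ⟨y, hy, rfl⟩
          exact ⟨x + y, K.add_mem hx hy, rfl⟩
        inv_mem' := by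
          rintro _ ⟨x, hx, rfl⟩
          exact ⟨-x, K.neg_mem hx, rfl⟩ }
    rcases hirr₀ W (by rintro _ ⟨x, -, rfl⟩; exact (Additive.toMul x : H).2)
      (by rintro u hu _ ⟨x, hx, rfl⟩; exact ⟨_, hK ⟨u, hu⟩ x hx, hconj _ _⟩) with h | h
    · exfalso
      apply hKne
      rw [AddSubgroup.eq_bot_iff_forall]
      intro x hx
      have h1 : ((Additive.toMul x : H) : G) ∈ W := ⟨x, hx, rfl⟩
      rw [h, Subgroup.mem_bot] at h1
      exact Additive.toMul.injective (Subtype.ext h1)
    · rw [eq_top_iff]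
      intro x _
      obtain ⟨y, hy, hyx⟩ : ((Additive.toMul x : H) : G) ∈ W := by rw [h]; exact (Additive.toMul x : H).2
      rwa [← Additive.toMul.injective (Subtype.ext hyx)]
  have hinj : ∀ φ ∈ S, φ ≠ 0 → Function.Injective φ := by
    intro φ hφ hne
    have hker : AddMonoidHom.ker φ = ⊥ := by
      by_contra hk
      refine hne (AddMonoidHom.ker_eq_top_iff.1 (hirr _ (fun u x hx => ?_) hk))
      show φ (conjE u x) = 0
      have h1 := DFunLike.congr_fun (hScomm φ hφ u) x
      change φ (conjE u x) = conjE u (φ x) at h1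
      rw [h1, show φ x = 0 from hx, map_zero]
    exact (AddMonoidHom.ker_eq_bot_iff φ).1 hker
  have : Nontrivial (Additive H) := by
    rw [Finite.one_lt_card_iff_nontrivial] at hnt
    exact Additive.toMul.injective.nontrivial
  obtain ⟨x₀, hx₀⟩ := exists_ne (0 : Additive H)
  let ev : S →+ Additive H :=
    { toFun := fun φ => (φ : AddMonoid.End (Additive H)) x₀
      map_zero' := rfl
      map_add' := fun _ _ => rfl }
  have hev : Function.Bijective ev := by
    constructor
    · rw [injective_iff_map_eq_zero]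
      intro φ hφ
      by_contra hne
      exact hx₀ (hinj φ φ.2 (fun h => hne (Subtype.ext h)) (hφ.trans (map_zero _).symm))
    · rw [← AddMonoidHom.range_eq_top]
      refine hirr _ ?_ ?_
      · rintro u _ ⟨φ, rfl⟩
        exact ⟨⟨conjE u, Subring.subset_closure ⟨u, rfl⟩⟩ * φ, rfl⟩
      · intro h
        have h1 : ev 1 ∈ ev.range := ⟨1, rfl⟩
        rw [h, AddSubgroup.mem_bot] at h1
        exact hx₀ h1
  have : Finite S := Finite.of_injective ev hev.1
  have : Nontrivial S := hev.2.nontrivial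
  have : NoZeroDivisors S := ⟨fun {φ ψ} hφψ => by
    rw [or_iff_not_imp_left]
    intro hne
    apply Subtype.ext
    refine AddMonoidHom.ext fun x => hinj φ φ.2 (fun h => hne (Subtype.ext h)) ?_
    have h1 : (φ : AddMonoid.End (Additive H)) ((ψ : AddMonoid.End (Additive H)) x) = 0 :=
      DFunLike.congr_fun (congrArg Subtype.val hφψ : (φ : AddMonoid.End (Additive H)) * ψ = 0) x
    exact h1.trans (map_zero (φ : AddMonoid.End (Additive H))).symm⟩
  have : IsDomain S := NoZeroDivisors.to_isDomain S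
  letI : Fintype S := Fintype.ofFinite S
  letI : Field S := Fintype.fieldOfDomain S
  -- transport to a type in the bottom universe
  let e : Carrier (Fintype.card S) ≃ S :=
    (⟨Carrier.val, Carrier.mk, fun _ => rfl, fun _ => rfl⟩ : Carrier (Fintype.card S) ≃ Fin (Fintype.card S)).trans
      (Fintype.equivFin S).symm
  letI : Fintype (Carrier (Fintype.card S)) := Fintype.ofEquiv S e.symm
  letI instF : Field (Carrier (Fintype.card S)) := e.field
  let ρ : Carrier (Fintype.card S) ≃+* S :=
    { e with map_mul' := fun x y => (e.apply_symm_apply (e x * e y) :), map_add' := fun x y => (e.apply_symm_apply (e x + e y) :) }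
  let ι : Carrier (Fintype.card S) → H := fun x => Additive.toMul (ev (ρ x))
  let χ : E → Carrier (Fintype.card S) := fun u => ρ.symm ⟨conjE u, Subring.subset_closure ⟨u, rfl⟩⟩
  have hcardS : Fintype.card S = Nat.card H := by
    rw [← Nat.card_eq_fintype_card, Nat.card_congr (Equiv.ofBijective ev hev)]
    exact Nat.card_congr Additive.toMul
  have hι : Function.Bijective ι := Additive.toMul.bijective.comp (hev.comp ρ.bijective)
  have hι0 : ι 0 = 1 := by simp [ι]
  have hχmul : ∀ (u : E) (x : Carrier (Fintype.card S)), (ι (χ u * x) : G) = (u : G) * ι x * (u : G)⁻¹ := by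
    intro u x
    show ((Additive.toMul (ev (ρ (χ u * x))) : H) : G) = _
    rw [map_mul, show ρ (χ u) = ⟨conjE u, Subring.subset_closure ⟨u, rfl⟩⟩ from ρ.apply_symm_apply _]
    exact hconj u _
  have hχ0 : ∀ u : E, χ u ≠ 0 := by
    intro u h
    have h1 := hχmul u 1
    rw [h, zero_mul, hι0] at h1
    have h2 : ι 1 = 1 := Subtype.ext (by simpa using h1.symm)
    exact one_ne_zero (hι.1 (h2.trans hι0.symm))
  have hχone : ∀ u v : E, χ (u * v) = χ u * χ v := by
    intro u v
    have h : ∀ w : E, ι (χ w * 1) = ι (χ w) := fun w => by rw [mul_one]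
    apply hι.1
    apply Subtype.ext
    rw [← h (u * v), hχmul, hχmul, ← h v, hχmul, Subgroup.coe_mul]
    group
  have hχinj : Function.Injective χ := by
    intro u v h
    refine horb (Additive.ofMul (ι 1)) (fun h0 => one_ne_zero (hι.1 ((Additive.ofMul.injective h0).trans hι0.symm))) ?_
    apply Additive.toMul.injective
    apply Subtype.ext
    rw [hconj, hconj]
    show (u : G) * ι 1 * (u : G)⁻¹ = (v : G) * ι 1 * (v : G)⁻¹
    rw [← hχmul, ← hχmul, h]
  let F := Carrier (Fintype.card S)
  refine ⟨F, instF, inferInstance, ι, χ, ?_, hι, hι0, fun x y => ?_, hχ0, hχinj, hχone, hχmul, fun R hR a => ?_⟩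
  · rw [← hcardS]; exact Fintype.card_congr e
  · show Additive.toMul (ev (ρ (x + y))) = _
    rw [map_add, map_add]
    rfl
  · have h : ∀ φ (hφ : φ ∈ S), ρ.symm ⟨φ, hφ⟩ ∈ R := by
      intro φ hφ
      induction hφ using Subring.closure_induction with
      | mem φ hφ =>
        obtain ⟨u, rfl⟩ := hφ
        exact hR u
      | zero => exact (map_zero ρ.symm).symm ▸ R.zero_mem
      | one => exact (map_one ρ.symm).symm ▸ R.one_mem
      | add φ ψ hφ hψ h1 h2 =>
        rw [show (⟨φ + ψ, S.add_mem hφ hψ⟩ : S) = ⟨φ, hφ⟩ + ⟨ψ, hψ⟩ from rfl, map_add]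
        exact R.add_mem h1 h2
      | neg φ hφ h1 =>
        rw [show (⟨-φ, S.neg_mem hφ⟩ : S) = -⟨φ, hφ⟩ from rfl, map_neg]
        exact R.neg_mem h1
      | mul φ ψ hφ hψ h1 h2 =>
        rw [show (⟨φ * ψ, S.mul_mem hφ hψ⟩ : S) = ⟨φ, hφ⟩ * ⟨ψ, hψ⟩ from rfl, map_mul]
        exact R.mul_mem h1 h2
    have := h _ (ρ a).2
    rwa [show (⟨(ρ a : AddMonoid.End (Additive H)), (ρ a).2⟩ : S) = ρ a from rfl, ρ.symm_apply_apply] at this

end Cfsg.Lib.RankOne
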