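import Mathlib
import Cfsg.Prelude.Def_LieRecognition

/-! Elements inverted by an involution and pairs of involutions with odd product. -/

set_option autoImplicit false

namespace Cfsg.Lib.RankOne

variable {M : Type*} [Group M]

theorem inv_of_sq {s : M} (hs : s * s = 1) : s⁻¹ = s := inv_eq_of_mul_eq_one_right hs

theorem odd_sq_inj {x y : M} (hx : Odd (orderOf x)) (hy : Odd (orderOf y)) (h : x * x = y * y) : x = y := by
  obtain ⟨k, hk⟩ := hx.mul hy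
  have e : ∀ z : M, orderOf z ∣ orderOf x * orderOf y → (z * z) ^ (k + 1) = z := fun z hz => by
    rw [← pow_two, ← pow_mul, show 2 * (k + 1) = (2 * k + 1) + 1 by ring, ← hk, pow_succ,
      orderOf_dvd_iff_pow_eq_one.1 hz, one_mul]
  rw [← e x (dvd_mul_right _ _), h, e y (dvd_mul_left _ _)]

theorem eq_one_of_odd {x : M} (hx : Odd (orderOf x)) (h : x * x = 1) : x = 1 :=
  odd_sq_inj hx (by rw [orderOf_one]; exact odd_one) (by rw [h, one_mul])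

theorem eq_one_of_odd_inv {x : M} (hx : Odd (orderOf x)) (h : x⁻¹ = x) : x = 1 :=
  eq_one_of_odd hx (by nth_rw 1 [← h]; exact inv_mul_cancel x)

theorem orderOf_odd_mem [Finite M] {X : Subgroup M} (hX : Odd (Nat.card X)) {x : M} (hx : x ∈ X) :
    Odd (orderOf x) := hX.of_dvd_nat (Subgroup.orderOf_dvd_natCard X hx)

/-- A square root inside a subgroup of odd order. -/
theorem exists_sqrt [Finite M] {X : Subgroup M} (hX : Odd (Nat.card X)) {w : M} (hw : w ∈ X) :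
    ∃ z, z ∈ X ∧ z * z = w ∧ ∀ t : M, t * w * t⁻¹ = w⁻¹ → t * z * t⁻¹ = z⁻¹ := by
  obtain ⟨k, hk⟩ := orderOf_odd_mem hX hw
  refine ⟨w ^ (k + 1), X.pow_mem hw _, ?_, fun t ht => ?_⟩
  · rw [← pow_two, ← pow_mul, show (k + 1) * 2 = (2 * k + 1) + 1 by ring, ← hk, pow_succ, pow_orderOf_eq_one,
      one_mul]
  · rw [← conj_pow, ht, inv_pow]

/-- Factorisation by an involutory automorphism of a group of odd order. -/
theorem factor [Finite M] {t : M} (ht : t * t = 1) {X : Subgroup M} (hodd : Odd (Nat.card X))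
    (hnorm : ∀ x ∈ X, t * x * t⁻¹ ∈ X) {x : M} (hx : x ∈ X) :
    ∃! p : M × M, p.1 ∈ X ⊓ Subgroup.centralizer {t} ∧ p.2 ∈ Cfsg.invertedBy X t ∧ x = p.1 * p.2 := by
  have ht' := inv_of_sq ht
  have htt : ∀ y : M, t * (t * y * t⁻¹) * t⁻¹ = y := fun y => by
    calc t * (t * y * t⁻¹) * t⁻¹ = (t * t) * y * (t * t)⁻¹ := by group
      _ = y := by rw [ht]; group
  set w := (t * x * t⁻¹)⁻¹ * x with hw
  have hwX : w ∈ X := X.mul_mem (X.inv_mem (hnorm x hx)) hx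
  have hwi : t * w * t⁻¹ = w⁻¹ := by
    rw [hw, show t * ((t * x * t⁻¹)⁻¹ * x) * t⁻¹ = (t * (t * x * t⁻¹) * t⁻¹)⁻¹ * (t * x * t⁻¹) by
      simp only [mul_inv_rev, inv_inv, mul_assoc, inv_mul_cancel_left, mul_inv_cancel_left], htt]
    group
  obtain ⟨z, hz, hzz, hzi⟩ := exists_sqrt hodd hwX
  have hzi' := hzi t hwi
  refine ⟨(x * z⁻¹, z), ⟨Subgroup.mem_inf.2 ⟨X.mul_mem hx (X.inv_mem hz), ?_⟩, ⟨hz, hzi'⟩, by group⟩, ?_⟩
  · rw [Subgroup.mem_centralizer_singleton_iff]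
    have h1 : t * (x * z⁻¹) * t⁻¹ = x * z⁻¹ := by
      rw [show t * (x * z⁻¹) * t⁻¹ = (t * x * t⁻¹) * (t * z * t⁻¹)⁻¹ by group, hzi', inv_inv,
        show t * x * t⁻¹ = x * w⁻¹ by rw [hw]; group, ← hzz]
      group
    exact (mul_inv_eq_iff_eq_mul.1 h1).symm
  · rintro ⟨y, z'⟩ ⟨hy, ⟨hz', hzi2⟩, e⟩
    simp only at e hy hz' hzi2 ⊢
    have hyt := Subgroup.mem_centralizer_singleton_iff.1 (Subgroup.mem_inf.1 hy).2
    have hyt' : t * y * t⁻¹ = y := by rw [← hyt, mul_inv_cancel_right]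
    have h2 : z' * z' = w := by
      rw [hw, e, show t * (y * z') * t⁻¹ = (t * y * t⁻¹) * (t * z' * t⁻¹) by group, hyt', hzi2]
      group
    have h3 : z' = z := odd_sq_inj (orderOf_odd_mem hodd hz') (orderOf_odd_mem hodd hz) (h2.trans hzz.symm)
    rw [h3] at e ⊢
    rw [e, mul_inv_cancel_right]

theorem card_factor [Finite M] {t : M} (ht : t * t = 1) {X : Subgroup M} (hodd : Odd (Nat.card X))
    (hnorm : ∀ x ∈ X, t * x * t⁻¹ ∈ X) :
    Nat.card X = Nat.card ↥(X ⊓ Subgroup.centralizer {t}) * Nat.card (Cfsg.invertedBy X t) := by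
  rw [← Nat.card_prod]
  refine (Nat.card_eq_of_bijective (fun p : ↥(X ⊓ Subgroup.centralizer {t}) × Cfsg.invertedBy X t =>
    (⟨p.1.1 * p.2.1, X.mul_mem (Subgroup.mem_inf.1 p.1.2).1 p.2.2.1⟩ : X)) ⟨fun p q h => ?_, fun x => ?_⟩).symm
  · obtain ⟨r, -, hr⟩ := factor ht hodd hnorm (X.mul_mem (Subgroup.mem_inf.1 p.1.2).1 p.2.2.1)
    have h1 := hr (p.1.1, p.2.1) ⟨p.1.2, p.2.2, rfl⟩
    have h2 := hr (q.1.1, q.2.1) ⟨q.1.2, q.2.2, congrArg Subtype.val h⟩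
    have h3 := h1.trans h2.symm
    exact Prod.ext (Subtype.ext (congrArg Prod.fst h3)) (Subtype.ext (congrArg Prod.snd h3))
  · obtain ⟨⟨y, z⟩, ⟨hy, hz, e⟩, -⟩ := factor ht hodd hnorm x.2
    exact ⟨(⟨y, hy⟩, ⟨z, hz⟩), Subtype.ext e.symm⟩

/-- A group of odd order acted on by a four-group is generated by the three fixed-point groups. -/
theorem four_generation [Finite M] {s u : M} (hs : s * s = 1) (hu : u * u = 1) (hsu : s * u = u * s)
    {X : Subgroup M} (hodd : Odd (Nat.card X)) (hns : ∀ x ∈ X, s * x * s⁻¹ ∈ X) (hnu : ∀ x ∈ X, u * x * u⁻¹ ∈ X)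
    {x : M} (hx : x ∈ X) :
    ∃ a b c d : M, a * s = s * a ∧ b * u = u * b ∧ c * (s * u) = s * u * c ∧ d * u = u * d ∧
      a ∈ X ∧ b ∈ X ∧ c ∈ X ∧ d ∈ X ∧ x = a * b * c * d := by
  obtain ⟨⟨a, z⟩, ⟨ha, ⟨hz, hzi⟩, e⟩, -⟩ := factor hs hodd hns hx
  simp only at ha hz hzi e
  obtain ⟨⟨c, i⟩, ⟨hc, ⟨hi, hii⟩, e'⟩, -⟩ := factor hu hodd hnu hz
  simp only at hc hi hii e'
  have hcu : u * c * u⁻¹ = c := by
    rw [← Subgroup.mem_centralizer_singleton_iff.1 (Subgroup.mem_inf.1 hc).2, mul_inv_cancel_right]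
  have hcX := (Subgroup.mem_inf.1 hc).1
  have hsu' : ∀ y, s * (u * y * u⁻¹) * s⁻¹ = u * (s * y * s⁻¹) * u⁻¹ := fun y => by
    calc s * (u * y * u⁻¹) * s⁻¹ = (s * u) * y * (s * u)⁻¹ := by group
      _ = (u * s) * y * (u * s)⁻¹ := by rw [hsu]
      _ = _ := by group
  -- the inverse images under the two involutions
  have h1 : s * c * s⁻¹ * (s * i * s⁻¹) = i⁻¹ * c⁻¹ := by
    rw [show s * c * s⁻¹ * (s * i * s⁻¹) = s * (c * i) * s⁻¹ by group, ← e', hzi, e']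
    group
  have h2 : s * c * s⁻¹ * (s * i * s⁻¹)⁻¹ = i * c⁻¹ := by
    have h := hsu' z
    rw [hzi, e', show u * (c * i)⁻¹ * u⁻¹ = (u * i * u⁻¹)⁻¹ * (u * c * u⁻¹)⁻¹ by group, hii, hcu, inv_inv,
      show s * (u * (c * i) * u⁻¹) * s⁻¹ = s * ((u * c * u⁻¹) * (u * i * u⁻¹)) * s⁻¹ by group, hcu, hii] at h
    rw [← h]; group
  have hsiX := hns i hi
  have h3 : (s * i * s⁻¹) * (s * i * s⁻¹) = (c * i⁻¹ * c⁻¹) * (c * i⁻¹ * c⁻¹) := by
    calc (s * i * s⁻¹) * (s * i * s⁻¹) = (s * c * s⁻¹ * (s * i * s⁻¹)⁻¹)⁻¹ * (s * c * s⁻¹ * (s * i * s⁻¹)) := by group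
      _ = (i * c⁻¹)⁻¹ * (i⁻¹ * c⁻¹) := by rw [h1, h2]
      _ = _ := by group
  have h4 := odd_sq_inj (orderOf_odd_mem hodd hsiX)
    (orderOf_odd_mem hodd (X.mul_mem (X.mul_mem hcX (X.inv_mem hi)) (X.inv_mem hcX))) h3
  have h5 : s * c * s⁻¹ = c⁻¹ := by
    calc s * c * s⁻¹ = (s * c * s⁻¹ * (s * i * s⁻¹)) * (s * i * s⁻¹)⁻¹ := by group
      _ = (i⁻¹ * c⁻¹) * (c * i⁻¹ * c⁻¹)⁻¹ := by rw [h1, h4]
      _ = _ := by group
  obtain ⟨d, hd, hdd, hdi⟩ := exists_sqrt hodd hcX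
  have hds := hdi s h5
  have hdu : u * d * u⁻¹ = d := by
    refine odd_sq_inj (orderOf_odd_mem hodd (hnu d hd)) (orderOf_odd_mem hodd hd) ?_
    rw [hdd, show u * d * u⁻¹ * (u * d * u⁻¹) = u * (d * d) * u⁻¹ by group, hdd, hcu]
  set j := d * i * d⁻¹ with hj
  have hjs : s * j * s⁻¹ = j⁻¹ := by
    rw [hj, show s * (d * i * d⁻¹) * s⁻¹ = (s * d * s⁻¹) * (s * i * s⁻¹) * (s * d * s⁻¹)⁻¹ by group, hds, h4, ← hdd]
    group
  have hju : u * j * u⁻¹ = j⁻¹ := by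
    rw [hj, show u * (d * i * d⁻¹) * u⁻¹ = (u * d * u⁻¹) * (u * i * u⁻¹) * (u * d * u⁻¹)⁻¹ by group, hdu, hii]
    group
  have hjsu : j * (s * u) = s * u * j := by
    have h : s * (u * j * u⁻¹) * s⁻¹ = j := by
      rw [hju, show s * j⁻¹ * s⁻¹ = (s * j * s⁻¹)⁻¹ by group, hjs, inv_inv]
    conv_lhs => rw [← h]
    group
  refine ⟨a, d, j, d, Subgroup.mem_centralizer_singleton_iff.1 (Subgroup.mem_inf.1 ha).2,
    (mul_inv_eq_iff_eq_mul.1 hdu).symm, hjsu, (mul_inv_eq_iff_eq_mul.1 hdu).symm,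
    (Subgroup.mem_inf.1 ha).1, hd, X.mul_mem (X.mul_mem hd hi) (X.inv_mem hd), hd, ?_⟩
  rw [e, e', ← hdd, hj]
  group

theorem odd_mul_or_central [Finite M] {s u : M} (hs : s * s = 1) (hu : u * u = 1) :
    Odd (orderOf (s * u)) ∨ ∃ z : M, z ≠ 1 ∧ z * z = 1 ∧ Commute z s ∧ Commute z u := by
  rcases Nat.even_or_odd (orderOf (s * u)) with ⟨k, hk⟩ | h
  · right
    have hk0 : 0 < k := by have := orderOf_pos (s * u); omega
    have hz1 : (s * u) ^ k ≠ 1 := pow_ne_one_of_lt_orderOf hk0.ne' (by omega)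
    have hz2 : (s * u) ^ k * (s * u) ^ k = 1 := by rw [← pow_add, ← hk, pow_orderOf_eq_one]
    have key : ∀ y : M, y * (s * u) * y⁻¹ = (s * u)⁻¹ → Commute ((s * u) ^ k) y := fun y hy => by
      have h : y * (s * u) ^ k * y⁻¹ = (s * u) ^ k := by rw [← conj_pow, hy, inv_pow, inv_of_sq hz2]
      exact (mul_inv_eq_iff_eq_mul.1 h).symm
    refine ⟨_, hz1, hz2, key s ?_, key u ?_⟩
    · rw [mul_inv_rev, inv_of_sq hs, inv_of_sq hu, ← mul_assoc s s, hs, one_mul]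
    · rw [mul_inv_rev, inv_of_sq hs, inv_of_sq hu, mul_assoc u (s * u), mul_assoc s u, hu, mul_one]
  · exact Or.inl h

theorem flip_pow {g u : M} (e : u * g⁻¹ = g * u) (j : ℕ) : u * (g ^ j)⁻¹ = g ^ j * u := by
  induction j with
  | zero => simp
  | succ j ih => rw [pow_succ, mul_inv_rev, ← mul_assoc, e, mul_assoc, ih, ← mul_assoc, ← pow_succ', pow_succ]

theorem conj_of_odd_mul {s u : M} (hs : s * s = 1) (hu : u * u = 1) (h : Odd (orderOf (s * u))) :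
    ∃ g ∈ Subgroup.closure ({s, u} : Set M), g * u * g⁻¹ = s := by
  obtain ⟨k, hk⟩ := h
  have hmem : s * u ∈ Subgroup.closure ({s, u} : Set M) :=
    Subgroup.mul_mem _ (Subgroup.subset_closure (Set.mem_insert s {u}))
      (Subgroup.subset_closure (Set.mem_insert_of_mem s (Set.mem_singleton u)))
  refine ⟨(s * u) ^ (k + 1), Subgroup.pow_mem _ hmem _, ?_⟩
  have e : u * (s * u)⁻¹ = s * u * u := by
    rw [mul_inv_rev, inv_of_sq hs, inv_of_sq hu, ← mul_assoc, hu, one_mul, mul_assoc, hu, mul_one]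
  have h2 : (s * u) ^ (k + 1 + (k + 1)) = s * u := by
    rw [show k + 1 + (k + 1) = (2 * k + 1) + 1 by omega, ← hk, pow_succ, pow_orderOf_eq_one, one_mul]
  rw [mul_assoc, flip_pow e, ← mul_assoc, ← pow_add, h2, mul_assoc, hu, mul_one]

theorem inverted_centralised {s u x : M} (hsu : Odd (orderOf (s * u))) (hxs : s * x * s⁻¹ = x)
    (hxu : u * x * u⁻¹ = x⁻¹) (hx : Odd (orderOf x)) : x = 1 := by
  obtain ⟨k, hk⟩ := hsu
  set g := s * u
  have hg : g * x * g⁻¹ = x⁻¹ := by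
    rw [show g * x * g⁻¹ = s * (u * x * u⁻¹) * s⁻¹ by simp only [g]; group, hxu,
      show s * x⁻¹ * s⁻¹ = (s * x * s⁻¹)⁻¹ by group, hxs]
  have h2 : ∀ j, g ^ (2 * j) * x * (g ^ (2 * j))⁻¹ = x := fun j => by
    induction j with
    | zero => simp
    | succ j ih =>
      calc g ^ (2 * (j + 1)) * x * (g ^ (2 * (j + 1)))⁻¹
          = g * (g * (g ^ (2 * j) * x * (g ^ (2 * j))⁻¹) * g⁻¹) * g⁻¹ := by
            rw [show 2 * (j + 1) = 2 * j + 1 + 1 by ring, pow_succ', pow_succ']; group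
        _ = g * x⁻¹ * g⁻¹ := by rw [ih, hg]
        _ = (g * x * g⁻¹)⁻¹ := by group
        _ = x := by rw [hg, inv_inv]
  refine eq_one_of_odd_inv hx ?_
  have h3 : g ^ (2 * k + 1) = 1 := by rw [← hk]; exact pow_orderOf_eq_one g
  have h4 : g * (g ^ (2 * k) * x * (g ^ (2 * k))⁻¹) * g⁻¹ = g ^ (2 * k + 1) * x * (g ^ (2 * k + 1))⁻¹ := by
    rw [pow_succ']; group
  rw [h2, hg, h3] at h4
  simpa using h4

end Cfsg.Lib.RankOne
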