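import Cfsg.Agent.RankOne.More
import Cfsg.Agent.LinearPerm.OddTransitive
import Cfsg.Agent.Coprime.Fitting
import Cfsg.Agent.Components.GenFitting

/-!
The rank-one set-up: the two-point stabiliser acts on the involutions of the point stabiliser as a group of odd
order transitive on the nonzero vectors of an elementary abelian `2`-group.  Consequences: the inverted elements
form a cyclic normal subgroup, and `V / W` embeds in the Galois group of a finite field.
-/

set_option autoImplicit false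
set_option linter.style.haveILetI false
set_option linter.unusedSectionVars false

namespace Cfsg.Lib.RankOne

open MulAction

variable {G Ω : Type*} [Group G] [Finite G] [MulAction G Ω] {a : Ω} {t : G} {Q : Subgroup G}
  (hS : Cfsg.IsRankOneSetup G Ω a t Q)
  (h2 : ∃ x y : G, x ≠ 1 ∧ y ≠ 1 ∧ x ≠ y ∧ x * x = 1 ∧ y * y = 1 ∧ x * y = y * x)

/-- The involutions fixing `a` and the identity. -/
def involGroup : Subgroup G where
  carrier := {u | u = 1 ∨ u ∈ Cfsg.involutionsIn (stabilizer G a : Set G)}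
  one_mem' := Or.inl rfl
  mul_mem' := by
    rintro u v (rfl | hu) (rfl | hv)
    · exact Or.inl (mul_one 1)
    · rw [one_mul]; exact Or.inr hv
    · rw [mul_one]; exact Or.inr hu
    · exact invol_closed hS h2 hu hv
  inv_mem' := by
    rintro u (rfl | hu)
    · exact Or.inl inv_one
    · rw [inv_of_sq hu.2.2]; exact Or.inr hu

theorem mem_involGroup {u : G} :
    u ∈ involGroup hS h2 ↔ u = 1 ∨ u ∈ Cfsg.involutionsIn (stabilizer G a : Set G) := Iff.rfl

theorem involGroup_sq {u : G} (hu : u ∈ involGroup hS h2) : u * u = 1 := by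
  rcases hu with rfl | hu
  · exact one_mul 1
  · exact hu.2.2

instance involCommGroup : CommGroup (involGroup hS h2) :=
  { (inferInstance : Group (involGroup hS h2)) with
    mul_comm := fun u v => Subtype.ext (by
      rcases u.2 with hu | hu
      · show (u : G) * v = v * u
        rw [hu, one_mul, mul_one]
      rcases v.2 with hv | hv
      · show (u : G) * v = v * u
        rw [hv, one_mul, mul_one]
      exact (invol_central hS h2 hu).2 v (invol_central hS h2 hv).1) }

/-- The elementary abelian group of the involutions fixing `a`, written additively. -/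
abbrev Vec := Additive (involGroup hS h2)

theorem vec_two (e : Vec hS h2) : 2 • e = 0 := by
  rw [two_nsmul]
  exact congrArg Additive.ofMul (Subtype.ext (involGroup_sq hS h2 (Additive.toMul e).2) :
    Additive.toMul e * Additive.toMul e = 1)

/-- The vector given by an element of the group of involutions. -/
abbrev vec (u : involGroup hS h2) : Vec hS h2 := Additive.ofMul u

/-- The group element underlying a vector. -/
abbrev toG (e : Vec hS h2) : G := ((Additive.toMul e : involGroup hS h2) : G)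

theorem conj_involGroup {d u : G} (hd : d • a = a) (hu : u ∈ involGroup hS h2) :
    d * u * d⁻¹ ∈ involGroup hS h2 := by
  rcases hu with rfl | hu
  · rw [mul_one, mul_inv_cancel]; exact one_mem _
  · exact Or.inr (conj_invol hS hd hu)

/-- Conjugation by the two-point stabiliser. -/
def conjEnd : twoStab Ω a t →* AddMonoid.End (Vec hS h2) where
  toFun d := MonoidHom.toAdditive (MonoidHom.mk'
    (fun u : involGroup hS h2 => (⟨(d : G) * u * (d : G)⁻¹,
      conj_involGroup hS h2 (Subgroup.mem_inf.1 d.2).1 u.2⟩ : involGroup hS h2))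
    (fun u v => Subtype.ext (by
      show (d : G) * (u * v) * (d : G)⁻¹ = (d : G) * u * (d : G)⁻¹ * ((d : G) * v * (d : G)⁻¹)
      group)))
  map_one' := by
    apply AddMonoidHom.ext
    intro e
    refine congrArg Additive.ofMul (Subtype.ext ?_)
    show ((1 : twoStab Ω a t) : G) * (toG hS h2 e) * ((1 : twoStab Ω a t) : G)⁻¹ = _
    rw [OneMemClass.coe_one, inv_one, one_mul, mul_one]
    rfl
  map_mul' c d := by
    apply AddMonoidHom.ext
    intro e
    refine congrArg Additive.ofMul (Subtype.ext ?_)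
    show ((c * d : twoStab Ω a t) : G) * (toG hS h2 e) * ((c * d : twoStab Ω a t) : G)⁻¹ =
      (c : G) * ((d : G) * (toG hS h2 e) * (d : G)⁻¹) * (c : G)⁻¹
    rw [Subgroup.coe_mul]
    group

theorem conjEnd_vec (d : twoStab Ω a t) (u : involGroup hS h2) :
    ((Additive.toMul (conjEnd hS h2 d (vec hS h2 u)) : involGroup hS h2) : G) = d * u * (d : G)⁻¹ := rfl

/-- The same, with invertible values. -/
def conjUnits : twoStab Ω a t →* (AddMonoid.End (Vec hS h2))ˣ := (conjEnd hS h2).toHomUnits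

theorem conjUnits_coe (d : twoStab Ω a t) :
    ((conjUnits hS h2 d : (AddMonoid.End (Vec hS h2))ˣ) : AddMonoid.End (Vec hS h2)) = conjEnd hS h2 d := rfl

include hS in
theorem mem_ker_iff {d : twoStab Ω a t} :
    d ∈ (conjUnits hS h2).ker ↔ (d : G) ∈ twoStab Ω a t ⊓ Subgroup.centralizer {t} ⊓
      Subgroup.centralizer (Cfsg.invertedBy (twoStab Ω a t) t) := by
  rw [cent_all hS, Subgroup.mem_inf, MonoidHom.mem_ker]
  constructor
  · refine fun h => ⟨d.2, Subgroup.mem_centralizer_iff.2 fun s hs => ?_⟩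
    have h1 := conjEnd_vec hS h2 d ⟨s, Or.inr hs⟩
    rw [← conjUnits_coe hS h2, h, Units.val_one] at h1
    exact eq_mul_inv_iff_mul_eq.1 h1
  · rintro ⟨-, h⟩
    refine Units.ext (AddMonoidHom.ext fun e => ?_)
    refine congrArg Additive.ofMul (Subtype.ext ?_)
    show (d : G) * (toG hS h2 e) * (d : G)⁻¹ = (toG hS h2 e)
    rcases (Additive.toMul e).2 with hu | hu
    · rw [show toG hS h2 e = 1 from hu, mul_one, mul_inv_cancel]
    · rw [← Subgroup.mem_centralizer_iff.1 h _ hu, mul_inv_cancel_right]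

include hS h2 in
/-- `t` inverts each of its commutators with the two-point stabiliser, so the inverted elements form a cyclic
subgroup normal in the two-point stabiliser. -/
theorem inverted_subgroup :
    ∃ C : Subgroup G, (C : Set G) = Cfsg.invertedBy (twoStab Ω a t) t ∧ IsCyclic C ∧
      ∀ d ∈ twoStab Ω a t, ∀ c ∈ C, d * c * d⁻¹ ∈ C := by
  classical
  set D : Subgroup G := twoStab Ω a t
  set K : Set G := Cfsg.invertedBy D t
  have hodd : Odd (Nat.card D) := hS.odd_card
  have htt : ∀ y : G, t * (t * y * t⁻¹) * t⁻¹ = y := fun y => by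
    calc t * (t * y * t⁻¹) * t⁻¹ = (t * t) * y * (t * t)⁻¹ := by group
      _ = y := by rw [hS.mul_self]; group
  let φ := conjUnits hS h2
  let π : D →* D ⧸ φ.ker := QuotientGroup.mk' φ.ker
  have hπ : ∀ {c d : D}, π c = π d ↔ c⁻¹ * d ∈ φ.ker := fun {c d} => QuotientGroup.eq
  -- the action of the factor group
  letI : DistribMulAction (D ⧸ φ.ker) (Vec hS h2) :=
    DistribMulAction.compHom (Vec hS h2) ((Units.coeHom _).comp (QuotientGroup.kerLift φ))
  have hact : ∀ (d : D) (e : Vec hS h2), π d • e = conjEnd hS h2 d e := fun _ _ => rfl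
  haveI : FaithfulSMul (D ⧸ φ.ker) (Vec hS h2) := ⟨fun {x y} h =>
    QuotientGroup.kerLift_injective φ (Units.ext (AddMonoidHom.ext h))⟩
  obtain ⟨⟨s, r⟩, ⟨hs, hr, he⟩, -⟩ := partner hS
  set es : Vec hS h2 := vec hS h2 ⟨s, Or.inr hs⟩
  have hes : es ≠ 0 := fun h => hs.2.1 (congrArg (toG hS h2) h)
  haveI : Nontrivial (Vec hS h2) := ⟨⟨es, 0, hes⟩⟩
  have htrans : ∀ e e' : Vec hS h2, e ≠ 0 → e' ≠ 0 → ∃ q : D ⧸ φ.ker, q • e = e' := by
    intro e e' hne hne'
    have hmem : ∀ e : Vec hS h2, e ≠ 0 →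
        (toG hS h2 e) ∈ Cfsg.involutionsIn (stabilizer G a : Set G) :=
      fun e h => ((Additive.toMul e).2).resolve_left fun h1 => h (congrArg Additive.ofMul (Subtype.ext h1))
    obtain ⟨k, hk, hke⟩ := conj_surj hS (hmem e hne) (hmem e' hne')
    refine ⟨π ⟨k⁻¹, inv_mem hk.1⟩, ?_⟩
    rw [hact]
    refine congrArg Additive.ofMul (Subtype.ext ?_ :
      (⟨_, _⟩ : involGroup hS h2) = Additive.toMul e')
    show k⁻¹ * (toG hS h2 e) * k⁻¹⁻¹ = _
    rw [inv_inv]; exact hke
  have hqodd : Odd (Nat.card (D ⧸ φ.ker)) := hodd.of_dvd_nat (Subgroup.card_quotient_dvd_card _)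
  obtain ⟨hFcyc, hFsemi, hFcomm⟩ := Cfsg.Lib.LinearPerm.OddTrans.main (vec_two hS h2) hqodd htrans
  set F := Cfsg.fittingSubgroup (D ⧸ φ.ker)
  have hFab : ∀ x ∈ F, ∀ y ∈ F, x * y = y * x := fun x hx y hy =>
    congrArg Subtype.val ((IsCyclic.isMulCommutative (α := F)).is_comm.comm ⟨x, hx⟩ ⟨y, hy⟩)
  -- conjugation by `t`
  let T : D ≃* D :=
    { toFun := fun d => ⟨t * d * t⁻¹, conj_D hS d.2⟩
      invFun := fun d => ⟨t * d * t⁻¹, conj_D hS d.2⟩
      left_inv := fun d => Subtype.ext (htt d)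
      right_inv := fun d => Subtype.ext (htt d)
      map_mul' := fun c d => Subtype.ext (by
        show t * (c * d : G) * t⁻¹ = t * c * t⁻¹ * (t * d * t⁻¹)
        group) }
  have hkerT : ∀ d, d ∈ φ.ker → T d = d := fun d hd => by
    have h := (Subgroup.mem_inf.1 ((mem_ker_iff hS h2).1 hd)).1
    refine Subtype.ext ?_
    show t * (d : G) * t⁻¹ = d
    rw [← Subgroup.mem_centralizer_singleton_iff.1 (Subgroup.mem_inf.1 h).2, mul_inv_cancel_right]
  have hmapT : φ.ker.map (T : D →* D) = φ.ker := by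
    refine le_antisymm ?_ fun d hd => ⟨d, hd, hkerT d hd⟩
    rintro _ ⟨d, hd, rfl⟩
    show T d ∈ φ.ker
    rw [hkerT d hd]; exact hd
  let τ : D ⧸ φ.ker ≃* D ⧸ φ.ker := QuotientGroup.congr φ.ker φ.ker T hmapT
  have hτ : ∀ d, τ (π d) = π (T d) := fun d => QuotientGroup.congr_mk φ.ker φ.ker T hmapT d
  have hττ : ∀ x, τ (τ x) = x := fun x => by
    obtain ⟨d, rfl⟩ := QuotientGroup.mk'_surjective φ.ker x
    rw [hτ, hτ]
    exact congrArg π (Subtype.ext (htt d))
  have hτF : ∀ x ∈ F, τ x ∈ F := fun x hx => by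
    exact (Cfsg.Lib.Components.fitting_map_equiv τ).le (Subgroup.mem_map_of_mem _ hx)
  have hkill : ∀ k : D, (k : G) ∈ K → k ∈ φ.ker → k = 1 := fun k hk hker => by
    have h := congrArg Subtype.val (hkerT k hker)
    refine Subtype.ext (eq_one_of_odd_inv (orderOf_odd_mem hodd k.2) ?_)
    exact hk.2.symm.trans h
  -- the fixed points of `τ`
  have hfix : ∀ d : D, τ (π d) = π d → (d : G) ∈ Subgroup.centralizer {t} := by
    intro d hd
    obtain ⟨⟨v, k⟩, ⟨hv, hk, e⟩, -⟩ := factor hS.mul_self hodd (fun x hx => conj_D hS hx) d.2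
    simp only at hv hk e
    obtain ⟨hvD, hvt⟩ := Subgroup.mem_inf.1 hv
    have hkK : (⟨k, hk.1⟩ : D) * ⟨k, hk.1⟩ ∈ φ.ker := by
      rw [hτ] at hd
      have h1 := hπ.1 hd
      have h2 : (T d)⁻¹ * d = (⟨k, hk.1⟩ : D) * ⟨k, hk.1⟩ := Subtype.ext (by
        show (t * (d : G) * t⁻¹)⁻¹ * d = k * k
        have hv' : t * v * t⁻¹ = v := by
          rw [← Subgroup.mem_centralizer_singleton_iff.1 hvt, mul_inv_cancel_right]
        rw [e, show t * (v * k) * t⁻¹ = (t * v * t⁻¹) * (t * k * t⁻¹) by group, hv', hk.2]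
        group)
      rwa [h2] at h1
    have h3 := hkill _ (show k * k ∈ K from ⟨mul_mem hk.1 hk.1, by
      rw [show t * (k * k) * t⁻¹ = (t * k * t⁻¹) * (t * k * t⁻¹) by group, hk.2, mul_inv_rev]⟩) hkK
    rw [e, eq_one_of_odd (orderOf_odd_mem hodd hk.1) (congrArg Subtype.val h3), mul_one]
    exact hvt
  have hinv : ∀ x ∈ F, τ x = x⁻¹ := by
    intro x hx
    have h1 : x * τ x = 1 := by
      obtain ⟨d, hd⟩ := QuotientGroup.mk'_surjective φ.ker (x * τ x)
      have hdd : τ (π d) = π d := by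
        rw [show π d = x * τ x from hd, map_mul, hττ, hFab _ (hτF x hx) x hx]
      have h3 : (d : G) ∈ twoStab Ω a t ⊓ Subgroup.centralizer {s} :=
        cent_eq hS hs hr he ▸ Subgroup.mem_inf.2 ⟨d.2, hfix d hdd⟩
      refine hFsemi _ (mul_mem hx (hτF x hx)) es hes ?_
      rw [← hd]
      show π d • es = es
      rw [hact]
      refine congrArg Additive.ofMul (Subtype.ext ?_ : (⟨_, _⟩ : involGroup hS h2) = ⟨s, Or.inr hs⟩)
      show (d : G) * s * (d : G)⁻¹ = s
      rw [Subgroup.mem_centralizer_singleton_iff.1 (Subgroup.mem_inf.1 h3).2, mul_inv_cancel_right]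
    exact eq_inv_of_mul_eq_one_right h1
  haveI : Group.IsSolvable (D ⧸ φ.ker) := by
    refine (Group.isSolvable_def _).2 ⟨2, ?_⟩
    rw [derivedSeries_succ, derivedSeries_one, eq_bot_iff, Subgroup.commutator_le]
    intro x hx y hy
    rw [Subgroup.mem_bot, commutatorElement_eq_one_iff_mul_comm]
    exact hFab x (hFcomm hx) y (hFcomm hy)
  have hKF : ∀ k : D, (k : G) ∈ K → π k ∈ F := by
    intro k hk
    apply Cfsg.Lib.Coprime.centralizer_fitting_le
    rw [Subgroup.mem_centralizer_iff]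
    intro f hf
    set y := π k
    have hy : τ y = y⁻¹ := by
      rw [hτ, ← map_inv]
      exact congrArg π (Subtype.ext hk.2)
    have hyf : y * f * y⁻¹ ∈ F := (inferInstance : F.Normal).conj_mem f hf y
    have h1 := hinv _ hyf
    rw [map_mul, map_mul, map_inv, hy, hinv f hf] at h1
    have h2 : Commute (y * y) f⁻¹ := by
      show y * y * f⁻¹ = f⁻¹ * (y * y)
      calc y * y * f⁻¹ = y * (y * f * y⁻¹)⁻¹ * y := by group
        _ = y * (y⁻¹ * f⁻¹ * y⁻¹⁻¹) * y := by rw [h1]
        _ = _ := by group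
    obtain ⟨j, hj⟩ := orderOf_odd_mem hodd k.2
    have hyy : (y * y) ^ (j + 1) = y := by
      have h : ((k : G) * k) ^ (j + 1) = k := by
        rw [← pow_two, ← pow_mul, show 2 * (j + 1) = (2 * j + 1) + 1 by ring, ← hj, pow_succ, pow_orderOf_eq_one,
          one_mul]
      rw [← map_mul, ← map_pow]
      exact congrArg π (Subtype.ext (by simpa using h))
    have h3 := h2.inv_right.pow_left (j + 1)
    rw [hyy, inv_inv] at h3
    exact h3.eq.symm
  -- commutativity
  let P : Subgroup D := F.comap π ⊓ Subgroup.centralizer (φ.ker : Set D)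
  have hKP : ∀ k : D, (k : G) ∈ K → k ∈ P := fun k hk => by
    refine Subgroup.mem_inf.2 ⟨hKF k hk, Subgroup.mem_centralizer_iff.2 fun w hw => Subtype.ext ?_⟩
    exact (Subgroup.mem_centralizer_iff.1 (Subgroup.mem_inf.1 ((mem_ker_iff hS h2).1 hw)).2 _ hk).symm
  let ψ : P →* F :=
    { toFun := fun p => ⟨π p.1, (Subgroup.mem_inf.1 p.2).1⟩
      map_one' := Subtype.ext (map_one π)
      map_mul' := fun p q => Subtype.ext (map_mul π p.1 q.1) }
  have hψ : ψ.ker ≤ Subgroup.center P := by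
    intro p hp
    rw [Subgroup.mem_center_iff]
    intro q
    refine Subtype.ext ?_
    have hp' : p.1 ∈ φ.ker := (QuotientGroup.eq_one_iff _).1 (congrArg Subtype.val hp)
    exact (Subgroup.mem_centralizer_iff.1 (Subgroup.mem_inf.1 q.2).2 _ hp').symm
  have hKcomm : ∀ k ∈ K, ∀ l ∈ K, k * l = l * k := by
    intro k hk l hl
    have h := (MonoidHom.isMulCommutative_of_isCyclic_of_ker_le_center ψ hψ).is_comm.comm
      ⟨⟨k, hk.1⟩, hKP _ hk⟩ ⟨⟨l, hl.1⟩, hKP _ hl⟩
    exact congrArg (fun z : P => ((z.1 : D) : G)) h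
  let C : Subgroup G :=
    { carrier := K
      one_mem' := ⟨one_mem _, by rw [inv_one, mul_one, mul_inv_cancel]⟩
      mul_mem' := fun {x y} hx hy => ⟨mul_mem hx.1 hy.1, by
        rw [show t * (x * y) * t⁻¹ = (t * x * t⁻¹) * (t * y * t⁻¹) by group, hx.2, hy.2, hKcomm x hx y hy,
          mul_inv_rev]⟩
      inv_mem' := fun {x} hx => ⟨inv_mem hx.1, by
        rw [show t * x⁻¹ * t⁻¹ = (t * x * t⁻¹)⁻¹ by group, hx.2]⟩ }
  refine ⟨C, rfl, ?_, ?_⟩
  · let χ : C →* F :=
      { toFun := fun c => ⟨π ⟨c, c.2.1⟩, hKF _ c.2⟩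
        map_one' := Subtype.ext (map_one π)
        map_mul' := fun c d => Subtype.ext (map_mul π ⟨(c : G), c.2.1⟩ ⟨(d : G), d.2.1⟩) }
    refine isCyclic_of_injective χ ((injective_iff_map_eq_one χ).2 fun c hc => ?_)
    have h := hkill ⟨c, c.2.1⟩ c.2 ((QuotientGroup.eq_one_iff _).1 (congrArg Subtype.val hc))
    exact Subtype.ext (show (c : G) = 1 from congrArg Subtype.val h)
  · intro d hd c hc
    obtain ⟨⟨v, k⟩, ⟨hv, hk, e⟩, -⟩ := factor hS.mul_self hodd (fun x hx => conj_D hS hx) hd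
    simp only at hv hk e
    obtain ⟨hvD, hvt⟩ := Subgroup.mem_inf.1 hv
    have hv' : t * v * t⁻¹ = v := by
      rw [← Subgroup.mem_centralizer_singleton_iff.1 hvt, mul_inv_cancel_right]
    have h1 : d * c * d⁻¹ = v * c * v⁻¹ := by
      rw [e, show v * k * c * (v * k)⁻¹ = v * (k * c) * k⁻¹ * v⁻¹ by group, hKcomm k hk c hc]
      group
    rw [h1]
    refine ⟨mul_mem (mul_mem hvD hc.1) (inv_mem hvD), ?_⟩
    rw [show t * (v * c * v⁻¹) * t⁻¹ = (t * v * t⁻¹) * (t * c * t⁻¹) * (t * v * t⁻¹)⁻¹ by group, hv', hc.2]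
    group

end Cfsg.Lib.RankOne
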