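import Mathlib

/-! Automorphisms of cyclic and generalised quaternion `2`-groups. -/

set_option autoImplicit false

namespace Cfsg.Lib.RankOne

theorem mulAut_cyclic_two {R : Type*} [Group R] [Finite R] [IsCyclic R] {k : ℕ} (hR : Nat.card R = 2 ^ k)
    (φ : MulAut R) (hφ : Odd (orderOf φ)) : φ = 1 := by
  have h1 : orderOf φ ∣ 2 ^ (k - 1) := by
    have h2 := orderOf_dvd_natCard φ
    rw [IsCyclic.card_mulAut, hR] at h2
    rcases Nat.eq_zero_or_pos k with rfl | hk
    · simpa using h2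
    · rwa [Nat.totient_prime_pow Nat.prime_two hk, Nat.mul_one] at h2
  rw [← orderOf_eq_one_iff]
  exact Nat.eq_one_of_dvd_coprimes ((Nat.prime_two.coprime_iff_not_dvd.2 hφ.not_two_dvd_nat).symm.pow_right (k - 1))
    dvd_rfl h1

/-- An automorphism of odd order stabilising a cyclic subgroup of index two is trivial. -/
theorem odd_auto_trivial {R : Type*} [Group R] [Finite R] {k : ℕ} (M : Subgroup R) [IsCyclic M]
    (hM : Nat.card M = 2 ^ k) (hidx : M.index = 2) (φ : MulAut R) (hφ : Odd (orderOf φ))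
    (hst : ∀ m ∈ M, φ m ∈ M) : φ = 1 := by
  classical
  have hbij : Function.Bijective fun m : M => (⟨φ m, hst m m.2⟩ : M) :=
    Finite.injective_iff_bijective.1 fun m n h => Subtype.ext (φ.injective (congrArg Subtype.val h))
  let ψ : MulAut M := { Equiv.ofBijective _ hbij with map_mul' := fun m n => Subtype.ext (map_mul φ _ _) }
  have hpow : ∀ (i : ℕ) (m : M), (((ψ ^ i) m : M) : R) = (φ ^ i) m := by
    intro i
    induction i with
    | zero => intro m; rfl
    | succ i ih => intro m; rw [pow_succ, pow_succ, MulAut.mul_apply, MulAut.mul_apply, ih]; rfl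
  have hψ : ψ = 1 := by
    refine mulAut_cyclic_two hM ψ (hφ.of_dvd_nat (orderOf_dvd_of_pow_eq_one ?_))
    exact MulEquiv.ext fun m => Subtype.ext (by rw [hpow, pow_orderOf_eq_one]; rfl)
  have hfix : ∀ m ∈ M, φ m = m := fun m hm => by
    have h := congrArg Subtype.val (DFunLike.congr_fun hψ ⟨m, hm⟩)
    exact h
  refine MulEquiv.ext fun y => ?_
  by_cases hy : y ∈ M
  · exact hfix y hy
  have hm : y⁻¹ * φ y ∈ M := by
    rw [Subgroup.mul_mem_iff_of_index_two hidx, inv_mem_iff]
    refine iff_of_false hy fun h => hy ?_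
    obtain ⟨m, hm⟩ := hbij.2 ⟨φ y, h⟩
    exact φ.injective (congrArg Subtype.val hm) ▸ m.2
  have key : ∀ i : ℕ, (φ ^ i) y = y * (y⁻¹ * φ y) ^ i := by
    intro i
    induction i with
    | zero => simp
    | succ i ih =>
      rw [pow_succ', MulAut.mul_apply, ih, map_mul, map_pow, hfix _ hm, pow_succ', ← mul_assoc, mul_inv_cancel_left]
  have h1 := key (orderOf φ)
  rw [pow_orderOf_eq_one, MulAut.one_apply, left_eq_mul] at h1
  obtain ⟨i, hi⟩ : ∃ i, orderOf (⟨y⁻¹ * φ y, hm⟩ : M) = 2 ^ i := by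
    obtain ⟨i, -, hi⟩ := (Nat.dvd_prime_pow Nat.prime_two).1 (hM ▸ orderOf_dvd_natCard (⟨y⁻¹ * φ y, hm⟩ : M))
    exact ⟨i, hi⟩
  have h2 : orderOf (y⁻¹ * φ y) = 1 := Nat.eq_one_of_dvd_coprimes
    ((Nat.prime_two.coprime_iff_not_dvd.2 hφ.not_two_dvd_nat).symm.pow_right i)
    (orderOf_dvd_of_pow_eq_one h1) (by rw [← hi, ← Subgroup.orderOf_coe])
  rw [orderOf_eq_one_iff, inv_mul_eq_one] at h2
  exact h2.symm

theorem quaternion_two_elements : ∀ x : QuaternionGroup 2, x * x ≠ 1 →
    x = QuaternionGroup.a 1 ∨ x = QuaternionGroup.a 3 ∨ x = QuaternionGroup.xa 0 ∨ x = QuaternionGroup.xa 2 ∨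
      x = QuaternionGroup.xa 1 ∨ x = QuaternionGroup.xa 3 := by decide

theorem quaternion_two_involutions : ∀ x : QuaternionGroup 2, x * x = 1 → x = 1 ∨ x = QuaternionGroup.a 2 := by decide

theorem quaternion_two_classes : ∀ p q : QuaternionGroup 2,
    ((if p = QuaternionGroup.a 1 ∨ p = QuaternionGroup.a 3 then (0 : Fin 3)
      else if p = QuaternionGroup.xa 0 ∨ p = QuaternionGroup.xa 2 then 1 else 2) =
      if q = QuaternionGroup.a 1 ∨ q = QuaternionGroup.a 3 then (0 : Fin 3)
      else if q = QuaternionGroup.xa 0 ∨ q = QuaternionGroup.xa 2 then 1 else 2) →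
    p * p ≠ 1 → q * q ≠ 1 → q = p ∨ q = p⁻¹ := by decide

/-- An automorphism of odd order of a cyclic or quaternion `2`-group is trivial, or the group is
quaternion of order eight and the automorphism has order three. -/
theorem odd_auto_quaternion {R : Type*} [Group R] [Finite R] (hR : IsPGroup 2 R)
    (hc : IsCyclic R ∨ ∃ n : ℕ, Nonempty (R ≃* QuaternionGroup (2 ^ n)))
    (φ : MulAut R) (hφ : Odd (orderOf φ)) (hne : φ ≠ 1) :
    Nonempty (R ≃* QuaternionGroup 2) ∧ φ ^ 3 = 1 := by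
  classical
  have : Fact (Nat.Prime 2) := ⟨Nat.prime_two⟩
  obtain ⟨k, hk⟩ := IsPGroup.iff_card.1 hR
  rcases hc with hc | ⟨n, ⟨eq⟩⟩
  · exact absurd (mulAut_cyclic_two hk φ hφ) hne
  have hcard : Nat.card R = 4 * 2 ^ n := by
    rw [Nat.card_congr eq.toEquiv, Nat.card_eq_fintype_card, QuaternionGroup.card]
  let M : Subgroup R := Subgroup.zpowers (eq.symm (QuaternionGroup.a 1))
  have hMc : Nat.card M = 2 ^ (n + 1) := by
    rw [Nat.card_zpowers, MulEquiv.orderOf_eq, QuaternionGroup.orderOf_a_one, pow_succ']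
  have hMi : M.index = 2 := by
    have h := M.card_mul_index
    rw [hMc, hcard, show 4 * 2 ^ n = 2 ^ (n + 1) * 2 by ring] at h
    exact Nat.eq_of_mul_eq_mul_left (by positivity) h
  rcases Nat.lt_or_ge 1 n with hn | hn
  · -- the cyclic subgroup of index two is characteristic
    exfalso
    refine hne (odd_auto_trivial M hMc hMi φ hφ fun m hm => ?_)
    obtain ⟨i, rfl⟩ := Subgroup.mem_zpowers_iff.1 hm
    rw [map_zpow]
    refine M.zpow_mem ?_ i
    have ho : orderOf (eq (φ (eq.symm (QuaternionGroup.a 1)))) = 2 * 2 ^ n := by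
      rw [MulEquiv.orderOf_eq, MulEquiv.orderOf_eq φ, MulEquiv.orderOf_eq, QuaternionGroup.orderOf_a_one]
    rcases hx : eq (φ (eq.symm (QuaternionGroup.a 1))) with i | i
    · refine Subgroup.mem_zpowers_iff.2 ⟨(i.val : ℤ), ?_⟩
      rw [zpow_natCast, ← map_pow, QuaternionGroup.a_one_pow, ZMod.natCast_zmod_val, ← hx, MulEquiv.symm_apply_apply]
    · rw [hx, QuaternionGroup.orderOf_xa] at ho
      have h4 : 2 ^ 2 ≤ 2 ^ n := Nat.pow_le_pow_right (by norm_num) hn
      omega
  obtain rfl | rfl : n = 0 ∨ n = 1 := by omega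
  · exfalso
    have : IsCyclic (QuaternionGroup (2 ^ 0)) := QuaternionGroup.quaternionGroup_one_isCyclic
    have : IsCyclic R := eq.symm.isCyclic.mp this
    exact hne (mulAut_cyclic_two hk φ hφ)
  refine ⟨⟨eq⟩, ?_⟩
  -- at most three cyclic subgroups of order four
  let v : ℕ → R := fun i => (φ ^ i) (eq.symm (QuaternionGroup.a 1))
  have hv4 : ∀ i, v i * v i ≠ 1 := fun i h => by
    rw [← map_mul, MulEquiv.map_eq_one_iff, ← map_mul, MulEquiv.map_eq_one_iff] at h
    exact absurd h (by decide)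
  let cls : ℕ → Fin 3 := fun i =>
    if eq (v i) = QuaternionGroup.a 1 ∨ eq (v i) = QuaternionGroup.a 3 then 0
    else if eq (v i) = QuaternionGroup.xa 0 ∨ eq (v i) = QuaternionGroup.xa 2 then 1 else 2
  have hcls : ∀ i j, cls i = cls j → v j = v i ∨ v j = (v i)⁻¹ := by
    intro i j h
    suffices eq (v j) = eq (v i) ∨ eq (v j) = (eq (v i))⁻¹ by
      rcases this with h | h
      · exact Or.inl (eq.injective h)
      · exact Or.inr (eq.injective (by rw [h, map_inv]))
    exact quaternion_two_classes (eq (v i)) (eq (v j)) h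
      (fun h' => hv4 i (by rwa [← map_mul, MulEquiv.map_eq_one_iff] at h'))
      (fun h' => hv4 j (by rwa [← map_mul, MulEquiv.map_eq_one_iff] at h'))
  obtain ⟨i, j, hij, h⟩ : ∃ i j : Fin 4, i < j ∧ cls i = cls j := by
    obtain ⟨i, j, hne', h⟩ := Fintype.exists_ne_map_eq_of_card_lt (fun i : Fin 4 => cls i) (by simp)
    rcases lt_or_gt_of_ne hne' with hl | hl
    · exact ⟨i, j, hl, h⟩
    · exact ⟨j, i, hl, h.symm⟩
  obtain ⟨d, hd0, hd3, hd⟩ : ∃ d : ℕ, 0 < d ∧ d ≤ 3 ∧ (j : ℕ) = i + d := ⟨j - i, by omega, by omega, by omega⟩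
  have hφd : φ ^ d = 1 := by
    refine odd_auto_trivial M hMc hMi _ (hφ.of_dvd_nat (orderOf_dvd_of_pow_eq_one ?_)) fun m hm => ?_
    · rw [← pow_mul, mul_comm, pow_mul, pow_orderOf_eq_one, one_pow]
    obtain ⟨l, rfl⟩ := Subgroup.mem_zpowers_iff.1 hm
    rw [map_zpow]
    refine M.zpow_mem ?_ l
    rcases hcls i j h with h' | h'
    · rw [show v j = (φ ^ (i : ℕ)) ((φ ^ d) (eq.symm (QuaternionGroup.a 1))) by
        show (φ ^ (j : ℕ)) _ = _; rw [hd, pow_add, MulAut.mul_apply]] at h'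
      rw [(φ ^ (i : ℕ)).injective h']
      exact Subgroup.mem_zpowers _
    · rw [show v j = (φ ^ (i : ℕ)) ((φ ^ d) (eq.symm (QuaternionGroup.a 1))) by
        show (φ ^ (j : ℕ)) _ = _; rw [hd, pow_add, MulAut.mul_apply],
        show (v i)⁻¹ = (φ ^ (i : ℕ)) (eq.symm (QuaternionGroup.a 1))⁻¹ from (map_inv _ _).symm] at h'
      rw [(φ ^ (i : ℕ)).injective h']
      exact M.inv_mem (Subgroup.mem_zpowers _)
  obtain rfl | rfl | rfl : d = 1 ∨ d = 2 ∨ d = 3 := by omega
  · rw [pow_one] at hφd; rw [hφd, one_pow]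
  · have h2 : orderOf φ = 1 := Nat.eq_one_of_dvd_coprimes
      (Nat.prime_two.coprime_iff_not_dvd.2 hφ.not_two_dvd_nat) (orderOf_dvd_of_pow_eq_one hφd) dvd_rfl
    rw [orderOf_eq_one_iff.1 h2, one_pow]
  · exact hφd

/-- A normal subgroup of a quaternion group of order eight, stable under a non-trivial automorphism
of odd order acting trivially on the cosets, is everything. -/
theorem eq_top_of_odd_auto {R : Type*} [Group R] [Finite R] (eq : R ≃* QuaternionGroup 2)
    (φ : MulAut R) (hφ : Odd (orderOf φ)) (hne : φ ≠ 1) (R₀ : Subgroup R) (hmod : ∀ r, r⁻¹ * φ r ∈ R₀) :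
    R₀ = ⊤ := by
  have : Fact (Nat.Prime 2) := ⟨Nat.prime_two⟩
  have hcard : Nat.card R = 2 ^ 3 := by
    rw [Nat.card_congr eq.toEquiv, Nat.card_eq_fintype_card, QuaternionGroup.card]; rfl
  by_contra hR₀
  obtain ⟨k, hk, hkc⟩ := (Nat.dvd_prime_pow Nat.prime_two).1 (hcard ▸ R₀.card_subgroup_dvd_card)
  have hk3 : k ≤ 2 := by
    by_contra h
    apply hR₀
    apply Subgroup.eq_top_of_card_eq
    rw [hkc, hcard, show k = 3 by omega]
  obtain ⟨M, hMc, hle⟩ := Sylow.exists_subgroup_card_pow_prime_le 2 (n := k) (m := 2)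
    (hcard ▸ pow_dvd_pow 2 (by norm_num)) R₀ hkc hk3
  have hcyc : IsCyclic M := by
    by_contra hnc
    have hexp : ∀ m : M, m * m = 1 := by
      intro m
      obtain ⟨i, hi, hio⟩ := (Nat.dvd_prime_pow Nat.prime_two).1 (hMc ▸ orderOf_dvd_natCard m)
      by_cases hi2 : i = 2
      · exact absurd (isCyclic_of_orderOf_eq_card m (by rw [hio, hi2, hMc])) hnc
      · rw [← sq, ← orderOf_dvd_iff_pow_eq_one, hio]
        exact (pow_dvd_pow 2 (show i ≤ 1 by omega)).trans (by norm_num)
    have : Nat.card M ≤ 2 := by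
      have hinj : Function.Injective fun m : M => eq (m : R) := eq.injective.comp Subtype.val_injective
      have hsub : Set.range (fun m : M => eq (m : R)) ⊆ ({1, QuaternionGroup.a 2} : Set _) := by
        rintro _ ⟨m, rfl⟩
        exact quaternion_two_involutions _ (by
          show eq (m : R) * eq (m : R) = 1
          rw [← map_mul, show (m : R) * m = 1 from congrArg Subtype.val (hexp m), map_one])
      rw [← Nat.card_range_of_injective hinj, Nat.card_coe_set_eq]
      exact (Set.ncard_le_ncard hsub).trans (by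
        rw [Set.ncard_pair (by decide)])
    omega
  have hidx : M.index = 2 := by
    have h := M.card_mul_index
    rw [hMc, hcard] at h
    omega
  refine hne (odd_auto_trivial M hMc hidx φ hφ fun m hm => ?_)
  rw [← mul_inv_cancel_left m (φ m)]
  exact M.mul_mem hm (hle (hmod m))

/-- An involutive automorphism of a quaternion group fixing every homomorphism to a group of order two
fixes an element of order four. -/
theorem exists_fixed_of_involutive {n : ℕ} (hn : 1 ≤ n) (α : MulAut (QuaternionGroup (2 ^ n)))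
    (h2 : ∀ g, α (α g) = g)
    (hhom : ∀ f : QuaternionGroup (2 ^ n) →* Multiplicative (ZMod 2), ∀ g, f (α g) = f g) :
    ∃ g, α g = g ∧ g * g ≠ 1 := by
  classical
  have hdvd : 2 ∣ 2 * 2 ^ n := dvd_mul_right 2 _
  let π : ZMod (2 * 2 ^ n) →+* ZMod 2 := ZMod.castHom hdvd (ZMod 2)
  have hπn : ((2 ^ n : ℕ) : ZMod 2) = 0 := by
    rw [ZMod.natCast_eq_zero_iff]
    exact dvd_pow_self 2 (by omega)
  have hπn' : π ((2 ^ n : ℕ) : ZMod (2 * 2 ^ n)) = 0 := by rw [map_natCast, hπn]
  let fA : QuaternionGroup (2 ^ n) →* Multiplicative (ZMod 2) := MonoidHom.mk'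
    (fun g => Multiplicative.ofAdd (match g with | .a _ => 0 | .xa _ => 1)) (by
      rintro (i | i) (j | j) <;> simp [← ofAdd_add] <;> decide)
  let fB : QuaternionGroup (2 ^ n) →* Multiplicative (ZMod 2) := MonoidHom.mk'
    (fun g => Multiplicative.ofAdd (match g with | .a i => π i | .xa i => π i)) (by
      rintro (i | i) (j | j) <;>
        simp only [QuaternionGroup.a_mul_a, QuaternionGroup.a_mul_xa, QuaternionGroup.xa_mul_a,
          QuaternionGroup.xa_mul_xa, ← ofAdd_add, map_add, map_sub, hπn'] <;>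
        congr 1 <;> generalize π i = p <;> generalize π j = q <;> revert p q <;> decide)
  obtain ⟨r, hr⟩ : ∃ r, α (QuaternionGroup.a 1) = QuaternionGroup.a r := by
    rcases hx : α (QuaternionGroup.a 1) with r | r
    · exact ⟨r, rfl⟩
    · have h := hhom fA (QuaternionGroup.a 1)
      rw [hx] at h
      simp [fA] at h
  obtain ⟨s, hs⟩ : ∃ s, α (QuaternionGroup.xa 0) = QuaternionGroup.xa s := by
    rcases hx : α (QuaternionGroup.xa 0) with r | r
    · have h := hhom fA (QuaternionGroup.xa 0)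
      rw [hx] at h
      simp [fA] at h
      exact absurd h (by decide)
    · exact ⟨r, rfl⟩
  have hrπ : π r = 1 := by
    have h := hhom fB (QuaternionGroup.a 1)
    rw [hr] at h
    simpa [fB] using h
  have hsπ : π s = 0 := by
    have h := hhom fB (QuaternionGroup.xa 0)
    rw [hs] at h
    simpa [fB] using h
  have ha : ∀ i, α (QuaternionGroup.a i) = QuaternionGroup.a (r * i) := by
    intro i
    rw [← ZMod.natCast_zmod_val i, ← QuaternionGroup.a_one_pow, map_pow, hr]
    induction i.val with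
    | zero => rw [pow_zero, QuaternionGroup.one_def, Nat.cast_zero, mul_zero]
    | succ m ih => rw [pow_succ, ih, QuaternionGroup.a_mul_a]; push_cast; congr 1; ring
  have hxa : ∀ i, α (QuaternionGroup.xa i) = QuaternionGroup.xa (s + r * i) := fun i => by
    rw [show QuaternionGroup.xa i = QuaternionGroup.xa (0 : ZMod (2 * 2 ^ n)) * QuaternionGroup.a i by simp,
      map_mul, hs, ha, QuaternionGroup.xa_mul_a]
  have hval : ∀ x : ZMod (2 * 2 ^ n), π x = (x.val : ZMod 2) := fun x => by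
    conv_lhs => rw [← ZMod.natCast_zmod_val x]
    exact map_natCast π _
  have hrv : r.val % 2 = 1 := by
    have h := hrπ
    rw [hval, ← Nat.cast_one, ZMod.natCast_eq_natCast_iff'] at h
    simpa using h
  have hsv : s.val % 2 = 0 := by
    have h := hsπ
    rw [hval, ← Nat.cast_zero, ZMod.natCast_eq_natCast_iff'] at h
    simpa using h
  rcases (show r.val % 4 = 1 ∨ r.val % 4 = 3 by omega) with h4 | h4
  · obtain ⟨q, hq⟩ : ∃ q, r.val = 4 * q + 1 := ⟨r.val / 4, by omega⟩
    obtain ⟨m, rfl⟩ : ∃ m, n = m + 1 := ⟨n - 1, by omega⟩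
    refine ⟨QuaternionGroup.a ((2 ^ m : ℕ) : ZMod (2 * 2 ^ (m + 1))), ?_, ?_⟩
    · rw [ha, ← ZMod.natCast_zmod_val r, hq, ← Nat.cast_mul, show (4 * q + 1) * 2 ^ m = (2 * 2 ^ (m + 1)) * q + 2 ^ m by ring,
        Nat.cast_add, Nat.cast_mul, ZMod.natCast_self, zero_mul, zero_add]
    · rw [QuaternionGroup.a_mul_a, QuaternionGroup.one_def, ← Nat.cast_add]
      intro h
      rw [QuaternionGroup.a.injEq, ZMod.natCast_eq_zero_iff] at h
      have h0 : 0 < 2 ^ m := Nat.two_pow_pos m
      have := Nat.le_of_dvd (by omega) h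
      rw [pow_succ] at this
      omega
  · obtain ⟨u, hu⟩ : ∃ u, r.val = 2 * u + 1 := ⟨r.val / 2, by omega⟩
    obtain ⟨t, ht⟩ : ∃ t, s.val = 2 * t := ⟨s.val / 2, by omega⟩
    have hcop : u.Coprime (2 * 2 ^ n) := by
      rw [show 2 * 2 ^ n = 2 ^ (n + 1) by rw [pow_succ']]
      exact ((Nat.prime_two.coprime_iff_not_dvd.2 (by omega)).symm).pow_right _
    refine ⟨QuaternionGroup.xa (-(t : ZMod (2 * 2 ^ n)) * ((u : ZMod (2 * 2 ^ n))⁻¹)), ?_, ?_⟩
    · rw [hxa, ← ZMod.natCast_zmod_val r, ← ZMod.natCast_zmod_val s, hu, ht]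
      congr 1
      have h1 := ZMod.coe_mul_inv_eq_one u hcop
      push_cast
      linear_combination (-2 * (t : ZMod (2 * 2 ^ n))) * h1
    · rw [QuaternionGroup.xa_mul_xa, add_sub_cancel_right, QuaternionGroup.one_def]
      intro h
      rw [QuaternionGroup.a.injEq, ZMod.natCast_eq_zero_iff] at h
      have h0 : 0 < 2 ^ n := Nat.two_pow_pos n
      have := Nat.le_of_dvd h0 h
      omega

end Cfsg.Lib.RankOne
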