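import Cfsg.Agent.RankOne.InvertedCyclic

/-!
The rank-one set-up: the centraliser of `t` modulo the centraliser of the inverted elements embeds in the
Galois group of the finite field spanned by the inverted elements acting on the involutions.
-/

set_option autoImplicit false
set_option linter.style.haveILetI false
set_option linter.unusedSectionVars false

namespace Cfsg.Lib.RankOne

open MulAction

variable {G Ω : Type*} [Group G] [Finite G] [MulAction G Ω] {a : Ω} {t : G} {Q : Subgroup G}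
  (hS : Cfsg.IsRankOneSetup G Ω a t Q)
  (h2 : ∃ x y : G, x ≠ 1 ∧ y ≠ 1 ∧ x ≠ y ∧ x * x = 1 ∧ y * y = 1 ∧ x * y = y * x)

include hS h2 in
/-- `C_D(t)` is generated by the centraliser of the inverted elements and one further element. -/
theorem centralizer_quotient_cyclic :
    ∃ v ∈ twoStab Ω a t ⊓ Subgroup.centralizer {t},
      (twoStab Ω a t ⊓ Subgroup.centralizer {t} ⊓
        Subgroup.centralizer (Cfsg.invertedBy (twoStab Ω a t) t)) ⊔ Subgroup.closure {v} =
        twoStab Ω a t ⊓ Subgroup.centralizer {t} := by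
  classical
  obtain ⟨C, hC, hCcyc, hCn⟩ := inverted_subgroup hS h2
  have hCD : C ≤ twoStab Ω a t := fun c hc => ((Set.ext_iff.1 hC c).1 hc).1
  set E := Vec hS h2
  haveI : Finite (AddMonoid.End E) := Finite.of_injective _ DFunLike.coe_injective
  let φ := conjEnd hS h2
  let ψ : C →* AddMonoid.End E := φ.comp (Subgroup.inclusion hCD)
  let L : Subring (AddMonoid.End E) := Subring.closure (Set.range ψ)
  have hgen : ∀ c : C, ψ c ∈ L := fun c => Subring.subset_closure (Set.mem_range_self c)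
  haveI hCcomm : IsMulCommutative C := IsCyclic.isMulCommutative
  haveI : IsMulCommutative L := Subring.isMulCommutative_closure (by
    rintro _ ⟨c, rfl⟩ _ ⟨d, rfl⟩
    rw [← map_mul, ← map_mul, mul_comm'])
  letI : CommRing L := { (inferInstance : Ring L) with mul_comm := mul_comm' }
  obtain ⟨⟨s, r⟩, ⟨hs, -, -⟩, -⟩ := partner hS
  set es : E := vec hS h2 ⟨s, Or.inr hs⟩
  have hes : es ≠ 0 := fun h => hs.2.1 (congrArg (toG hS h2) h)
  have horb : ∀ e : E, e ≠ 0 → ∃ c : C, ψ c es = e := by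
    intro e he
    have hm : toG hS h2 e ∈ Cfsg.involutionsIn (stabilizer G a : Set G) :=
      ((Additive.toMul e).2).resolve_left fun h => he (congrArg Additive.ofMul (Subtype.ext h))
    obtain ⟨k, hk, hke⟩ := conj_surj hS hs hm
    refine ⟨(⟨k, (Set.ext_iff.1 hC k).2 hk⟩ : C)⁻¹, congrArg Additive.ofMul (Subtype.ext ?_ :
      (⟨_, _⟩ : involGroup hS h2) = Additive.toMul e)⟩
    show k⁻¹ * s * k⁻¹⁻¹ = _
    rw [inv_inv]; exact hke
  have hcomm : ∀ (x : L) (c : C) (e : E), (x : AddMonoid.End E) (ψ c e) = ψ c ((x : AddMonoid.End E) e) :=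
    fun x c e => DFunLike.congr_fun (congrArg Subtype.val (mul_comm' x ⟨ψ c, hgen c⟩) :
      (x : AddMonoid.End E) * ψ c = ψ c * x) e
  have heval : ∀ x : L, (x : AddMonoid.End E) es = 0 → x = 0 := by
    intro x hx
    refine Subtype.ext (AddMonoidHom.ext fun e => ?_)
    rcases eq_or_ne e 0 with rfl | he
    · exact map_zero _
    · obtain ⟨c, rfl⟩ := horb e he
      show (x : AddMonoid.End E) (ψ c es) = 0
      rw [hcomm, hx, map_zero]
  haveI : NoZeroDivisors L := by
    refine ⟨fun {x y} hxy => or_iff_not_imp_left.2 fun hx => ?_⟩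
    obtain ⟨c, hc⟩ := horb _ (fun h => hx (heval x h))
    have hxc : x = ⟨ψ c, hgen c⟩ := sub_eq_zero.1 (heval _ (by
      show (x : AddMonoid.End E) es - ψ c es = 0
      rw [hc, sub_self]))
    have h : (⟨ψ c⁻¹, hgen _⟩ : L) * (x * y) = y := by
      rw [← mul_assoc, hxc, show (⟨ψ c⁻¹, hgen _⟩ : L) * ⟨ψ c, hgen c⟩ = 1 from Subtype.ext (by
        show ψ c⁻¹ * ψ c = 1
        rw [← map_mul, inv_mul_cancel, map_one]), one_mul]
    rw [← h, hxy, mul_zero]
  haveI : Nontrivial L := ⟨⟨1, 0, fun h => hes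
    (DFunLike.congr_fun (congrArg Subtype.val h) es : es = 0)⟩⟩
  haveI : IsDomain L := NoZeroDivisors.to_isDomain L
  letI : Field L := (Finite.isDomain_to_isField L).toField
  haveI : CharP L 2 := (CharP.charP_iff_prime_eq_zero Nat.prime_two).2 (Subtype.ext (AddMonoidHom.ext fun e => by
    rw [Subring.coe_zero, show (((2 : ℕ) : L) : AddMonoid.End E) = 1 + 1 by push_cast; exact one_add_one_eq_two.symm]
    show e + e = 0
    rw [← two_nsmul]; exact vec_two hS h2 e))
  haveI := Fact.mk Nat.prime_two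
  letI : Algebra (ZMod 2) L := ZMod.algebra L 2
  set V := twoStab Ω a t ⊓ Subgroup.centralizer {t}
  let u : V →* (AddMonoid.End E)ˣ := (conjUnits hS h2).comp (Subgroup.inclusion inf_le_left)
  have hstab : ∀ (v : V) (x : AddMonoid.End E), x ∈ L →
      (u v : AddMonoid.End E) * x * ((u v)⁻¹ : (AddMonoid.End E)ˣ) ∈ L := by
    intro v x hx
    induction hx using Subring.closure_induction with
    | mem x hx =>
      obtain ⟨c, rfl⟩ := hx
      have hm : (v : G) * c * (v : G)⁻¹ ∈ C := hCn _ (Subgroup.mem_inf.1 v.2).1 _ c.2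
      convert hgen ⟨_, hm⟩ using 1
      rw [← map_inv]
      show φ _ * φ _ * φ _ = φ _
      rw [← map_mul, ← map_mul]
      rfl
    | zero => rw [mul_zero, zero_mul]; exact zero_mem L
    | one => rw [mul_one, Units.mul_inv]; exact one_mem L
    | add x y _ _ hx hy => rw [mul_add, add_mul]; exact add_mem hx hy
    | neg x _ hx =>
      convert neg_mem hx using 1
      refine AddMonoidHom.ext fun e => ?_
      exact map_neg (u v : AddMonoid.End E) (x _)
    | mul x y _ _ hx hy =>
      have h := mul_mem hx hy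
      simp only [mul_assoc, Units.inv_mul_cancel_left] at h ⊢
      exact h
  let conjHom : V → (L ≃+* L) := fun v =>
    { toFun := fun x => ⟨_, hstab v x x.2⟩
      invFun := fun x => ⟨_, hstab v⁻¹ x x.2⟩
      left_inv := fun x => Subtype.ext (by
        simp only [map_inv, inv_inv, mul_assoc, Units.inv_mul_cancel_left]
        rw [Units.inv_mul, mul_one])
      right_inv := fun x => Subtype.ext (by
        simp only [map_inv, inv_inv, mul_assoc, Units.mul_inv_cancel_left]
        rw [Units.mul_inv, mul_one])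
      map_mul' := fun x y => Subtype.ext (by
        simp only [Subring.coe_mul, mul_assoc, Units.inv_mul_cancel_left])
      map_add' := fun x y => Subtype.ext (by simp only [Subring.coe_add, mul_add, add_mul]) }
  let Γ : V →* (L ≃ₐ[ZMod 2] L) :=
    { toFun := fun v => AlgEquiv.ofRingEquiv (f := conjHom v) fun z => RingHom.congr_fun
        (RingHom.ext_zmod ((conjHom v : L →+* L).comp (algebraMap (ZMod 2) L)) (algebraMap (ZMod 2) L)) z
      map_one' := AlgEquiv.ext fun x => Subtype.ext (by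
        show (u 1 : AddMonoid.End E) * x * ((u 1)⁻¹ : (AddMonoid.End E)ˣ) = x
        rw [map_one, inv_one, Units.val_one, one_mul, mul_one])
      map_mul' := fun v w => AlgEquiv.ext fun x => Subtype.ext (by
        show (u (v * w) : AddMonoid.End E) * x * ((u (v * w))⁻¹ : (AddMonoid.End E)ˣ) =
          (u v : AddMonoid.End E) * ((u w : AddMonoid.End E) * x * ((u w)⁻¹ : (AddMonoid.End E)ˣ)) *
            ((u v)⁻¹ : (AddMonoid.End E)ˣ)
        rw [map_mul, mul_inv_rev, Units.val_mul, Units.val_mul]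
        simp only [mul_assoc]) }
  obtain ⟨g, hg⟩ := IsCyclic.exists_generator (α := Γ.range)
  obtain ⟨v, hv⟩ := g.2
  refine ⟨v, v.2, le_antisymm (sup_le inf_le_left ((Subgroup.closure_le _).2 (Set.singleton_subset_iff.2 v.2)))
    fun x hx => ?_⟩
  obtain ⟨i, hi⟩ := hg ⟨Γ ⟨x, hx⟩, ⟨_, rfl⟩⟩
  have hker : Γ (⟨x, hx⟩ * (v ^ i)⁻¹) = 1 := by
    rw [map_mul, map_inv, map_zpow, hv]
    exact mul_inv_eq_one.2 (congrArg Subtype.val hi).symm
  set w := (⟨x, hx⟩ : V) * (v ^ i)⁻¹ with hw
  have hwK : (w : G) ∈ Subgroup.centralizer (Cfsg.invertedBy (twoStab Ω a t) t) := by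
    rw [Subgroup.mem_centralizer_iff]
    intro k hk
    have hwD := (Subgroup.mem_inf.1 w.2).1
    set c : C := ⟨k, (Set.ext_iff.1 hC k).2 hk⟩
    have h1 : (u w : AddMonoid.End E) * ψ c * ((u w)⁻¹ : (AddMonoid.End E)ˣ) = ψ c :=
      congrArg Subtype.val (DFunLike.congr_fun hker (⟨ψ c, hgen c⟩ : L))
    let dw : twoStab Ω a t := ⟨w, hwD⟩
    let dk : twoStab Ω a t := ⟨k, hk.1⟩
    have h2' : conjUnits hS h2 (dw * dk * dw⁻¹ * dk⁻¹) = 1 := by
      rw [map_mul, map_inv (conjUnits hS h2) dk, mul_inv_eq_one, map_mul, map_mul, map_inv]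
      exact Units.ext h1
    have h3 := (mem_ker_iff hS h2).1 (MonoidHom.mem_ker.2 h2')
    have hm : (dw * dk * dw⁻¹ * dk⁻¹ : twoStab Ω a t).1 ∈ C :=
      mul_mem (hCn _ hwD _ c.2) (inv_mem c.2)
    have hi' := ((Set.ext_iff.1 hC _).1 hm).2
    have ht' := Subgroup.mem_centralizer_singleton_iff.1 (Subgroup.mem_inf.1 (Subgroup.mem_inf.1 h3).1).2
    rw [← ht', mul_inv_cancel_right] at hi'
    have h4 := eq_one_of_odd_inv (orderOf_odd_mem hS.odd_card (hCD hm)) hi'.symm
    rw [Subgroup.coe_mul, Subgroup.coe_mul, Subgroup.coe_mul, InvMemClass.coe_inv, InvMemClass.coe_inv,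
      mul_inv_eq_one, mul_inv_eq_iff_eq_mul] at h4
    exact h4.symm
  have hxw : x = (w : G) * (v : G) ^ i := by
    have h : (⟨x, hx⟩ : V) = w * v ^ i := by rw [hw, inv_mul_cancel_right]
    simpa using congrArg Subtype.val h
  rw [hxw]
  exact Subgroup.mul_mem_sup (Subgroup.mem_inf.2 ⟨w.2, hwK⟩) (zpow_mem (Subgroup.subset_closure (Set.mem_singleton _)) i)

end Cfsg.Lib.RankOne
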