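import Cfsg.Agent.RankOne.Basic
import Cfsg.Agent.Coprime.SolvableBasics

/-! The rank-one set-up: fixed-point sets, the structure of the root group, the odd core. -/

set_option autoImplicit false
set_option linter.unusedSectionVars false

open MulAction

namespace Cfsg.Lib.RankOne

variable {G Ω : Type*} [Group G] [Finite G] [MulAction G Ω] {a : Ω} {t : G} {Q : Subgroup G}
variable (hS : Cfsg.IsRankOneSetup G Ω a t Q)
include hS

theorem bruhat {g : G} (hg : g ∉ stabilizer G a) :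
    ∃! p : G × G, p.1 ∈ stabilizer G a ∧ p.2 ∈ Q ∧ g = p.1 * t * p.2 := by
  have hga : g⁻¹ • a ≠ a := fun h => hg (by
    show g • a = a
    conv_lhs => rw [← h]
    rw [smul_inv_smul])
  obtain ⟨y, hy, hyu⟩ := regular hS hga (ta_ne hS)
  have hy' : (y : G) • g⁻¹ • a = t • a := hy
  refine ⟨(g * (t * y)⁻¹, y), ⟨?_, y.2, by group⟩, ?_⟩
  · show (g * (t * (y : G))⁻¹) • a = a
    rw [mul_inv_rev, t_inv hS, mul_smul, mul_smul, ← hy', inv_smul_smul, smul_inv_smul]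
  · rintro ⟨p1, p2⟩ ⟨h1, h2, e⟩
    simp only at h1 h2 e
    have hp2 : p2 • g⁻¹ • a = t • a := by
      rw [e, mul_inv_rev, mul_inv_rev, mul_smul, mul_smul, inv_smul_eq_iff.2 (show p1 • a = a from h1).symm,
        smul_inv_smul, t_inv hS]
    have h3 : p2 = (y : G) := congrArg Subtype.val (hyu ⟨p2, h2⟩ hp2)
    refine Prod.ext ?_ h3
    show p1 = _
    rw [← h3, e]; group

theorem coords {h f h' f' g g' : G} (hh : h ∈ twoStab Ω a t) (hf : f ∈ Q) (hh' : h' ∈ twoStab Ω a t) (hf' : f' ∈ Q)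
    (hg : g ∈ Q) (hg' : g' ∈ Q) (e : g * h * t * f = g' * h' * t * f') : g = g' ∧ h = h' ∧ f = f' := by
  have hmem : ∀ g h : G, g ∈ Q → h ∈ twoStab Ω a t → g * h ∈ stabilizer G a := fun g h hg hh =>
    mul_mem (hS.le hg) (Subgroup.mem_inf.1 hh).1
  have hn : g * h * t * f ∉ stabilizer G a := fun hm => hS.not_mem (by
    have := mul_mem (mul_mem (inv_mem (hmem g h hg hh)) hm) (inv_mem (hS.le hf))
    rwa [show (g * h)⁻¹ * (g * h * t * f) * f⁻¹ = t by group] at this)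
  obtain ⟨p, -, hp⟩ := bruhat hS hn
  have h1 := hp (g * h, f) ⟨hmem g h hg hh, hf, rfl⟩
  have h2 := hp (g' * h', f') ⟨hmem g' h' hg' hh', hf', e⟩
  have h3 := h1.trans h2.symm
  have e1 : g * h = g' * h' := congrArg Prod.fst h3
  refine ⟨?_, ?_, congrArg Prod.snd h3⟩
  all_goals
    have hm : g'⁻¹ * g ∈ Q ⊓ stabilizer G (t • a) := by
      refine ⟨Q.mul_mem (Q.inv_mem hg') hg, ?_⟩
      rw [show g'⁻¹ * g = h' * h⁻¹ by rw [eq_mul_inv_iff_mul_eq, mul_assoc, e1, inv_mul_cancel_left]]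
      exact (stabilizer G (t • a)).mul_mem (Subgroup.mem_inf.1 hh').2 ((stabilizer G (t • a)).inv_mem (Subgroup.mem_inf.1 hh).2)
    rw [hS.inf_eq_bot, Subgroup.mem_bot, inv_mul_eq_one] at hm
  · exact hm.symm
  · exact mul_left_cancel (hm ▸ e1)

theorem conj_D' {x : G} (hx : x ∈ twoStab Ω a t) : t * x * t ∈ twoStab Ω a t := by
  have := conj_D hS hx
  rwa [t_inv hS] at this

theorem transport (x g h f : G) (hg : g ∈ Q) (hh : h ∈ twoStab Ω a t) (hf : f ∈ Q) (heq : t * x * t = g * h * t * f) :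
    (∀ g₁ h₁ f₁ : G, g₁ ∈ Q → h₁ ∈ twoStab Ω a t → f₁ ∈ Q → t * x⁻¹ * t = g₁ * h₁ * t * f₁ →
        f₁ = g⁻¹ ∧ h₁ = t * h⁻¹ * t) ∧
      (x ∈ Q → ∀ g₂ h₂ f₂ : G, g₂ ∈ Q → h₂ ∈ twoStab Ω a t → f₂ ∈ Q → t * f * t = g₂ * h₂ * t * f₂ →
        f₂ = x ∧ h₂ = h⁻¹) ∧
      ∀ c ∈ twoStab Ω a t, ∀ g₃ h₃ f₃ : G, g₃ ∈ Q → h₃ ∈ twoStab Ω a t → f₃ ∈ Q →
        t * (c⁻¹ * x * c) * t = g₃ * h₃ * t * f₃ →
          f₃ = (t * c * t)⁻¹ * f * (t * c * t) ∧ h₃ = (t * c * t)⁻¹ * h * c := by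
  have ht := t_inv hS
  refine ⟨fun g₁ h₁ f₁ hg₁ hh₁ hf₁ e => ?_, fun hx g₂ h₂ f₂ hg₂ hh₂ hf₂ e => ?_,
    fun c hc g₃ h₃ f₃ hg₃ hh₃ hf₃ e => ?_⟩
  · have e' : t * x⁻¹ * t = f⁻¹ * (t * h⁻¹ * t) * t * g⁻¹ := by
      calc t * x⁻¹ * t = (t * x * t)⁻¹ := by rw [mul_inv_rev, mul_inv_rev, ht]; simp only [mul_assoc]
        _ = f⁻¹ * t⁻¹ * h⁻¹ * g⁻¹ := by rw [heq]; group
        _ = f⁻¹ * t * h⁻¹ * (t * t) * g⁻¹ := by rw [ht, hS.mul_self, mul_one]
        _ = _ := by simp only [mul_assoc]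
    obtain ⟨-, e2, e3⟩ := coords hS hh₁ hf₁ (conj_D' hS (inv_mem hh)) (Q.inv_mem hg) hg₁ (Q.inv_mem hf)
      (e.symm.trans e')
    exact ⟨e3, e2⟩
  · have e' : t * f * t = h⁻¹ * g⁻¹ * h * h⁻¹ * t * x := by
      calc t * f * t = t * t * h⁻¹ * g⁻¹ * (g * h * t * f) * t := by rw [hS.mul_self]; group
        _ = t * t * h⁻¹ * g⁻¹ * (t * x * t) * t := by rw [heq]
        _ = t * t * h⁻¹ * g⁻¹ * t * x * (t * t) := by simp only [mul_assoc]
        _ = _ := by rw [hS.mul_self]; group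
    have hgc : h⁻¹ * g⁻¹ * h ∈ Q := by
      have := hS.conj_mem h⁻¹ (inv_mem (Subgroup.mem_inf.1 hh).1) g⁻¹ (Q.inv_mem hg)
      rwa [inv_inv] at this
    obtain ⟨-, e2, e3⟩ := coords hS hh₂ hf₂ (inv_mem hh) hx hg₂ hgc (e.symm.trans e')
    exact ⟨e3, e2⟩
  · set d := t * c * t with hd
    have hdD : d ∈ twoStab Ω a t := conj_D' hS hc
    have htd : t * c = d * t := by rw [hd, mul_assoc, hS.mul_self, mul_one]
    have hdt : c * t = t * d := by rw [hd, ← mul_assoc, ← mul_assoc, hS.mul_self, one_mul]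
    have htc : t * c⁻¹ = d⁻¹ * t := by
      calc t * c⁻¹ = d⁻¹ * (d * t) * c⁻¹ := by group
        _ = _ := by rw [← htd]; group
    have e' : t * (c⁻¹ * x * c) * t = d⁻¹ * g * d * (d⁻¹ * h * c) * t * (d⁻¹ * f * d) := by
      calc t * (c⁻¹ * x * c) * t = (t * c⁻¹) * x * (c * t) := by simp only [mul_assoc]
        _ = d⁻¹ * (t * x * t) * d := by rw [htc, hdt]; simp only [mul_assoc]
        _ = d⁻¹ * (g * h * t * f) * d := by rw [heq]
        _ = d⁻¹ * g * d * (d⁻¹ * h) * (t * d) * (d⁻¹ * f * d) := by group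
        _ = _ := by rw [← hdt]; group
    have hq : ∀ y ∈ Q, d⁻¹ * y * d ∈ Q := fun y hy => by
      have := hS.conj_mem d⁻¹ (inv_mem (Subgroup.mem_inf.1 hdD).1) y hy
      rwa [inv_inv] at this
    obtain ⟨-, e2, e3⟩ := coords hS hh₃ hf₃ (mul_mem (mul_mem (inv_mem hdD) hh) hc) (hq f hf) hg₃ (hq g hg)
      (e.symm.trans e')
    exact ⟨e3, e2⟩

theorem product_formula (x y gx hx fx gy hy fy : G) (hxy : x * y ≠ 1) (hxQ : x ∈ Q) (hyQ : y ∈ Q)
    (hgx : gx ∈ Q) (hhx : hx ∈ twoStab Ω a t) (hfx : fx ∈ Q) (ex : t * x * t = gx * hx * t * fx)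
    (hgy : gy ∈ Q) (hhy : hy ∈ twoStab Ω a t) (hfy : fy ∈ Q) (ey : t * y * t = gy * hy * t * fy) :
    fx * gy ≠ 1 ∧
      ∀ gz hz fz g' h' f' : G, gz ∈ Q → hz ∈ twoStab Ω a t → fz ∈ Q → t * (fx * gy) * t = gz * hz * t * fz →
        g' ∈ Q → h' ∈ twoStab Ω a t → f' ∈ Q → t * (x * y) * t = g' * h' * t * f' →
          f' = (t * hy * t)⁻¹ * fz * (t * hy * t) * fy ∧ h' = hx * hz * hy := by
  have key : t * (x * y) * t = gx * hx * (t * (fx * gy) * t) * (t * hy * t) * fy := by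
    calc t * (x * y) * t = (t * x * t) * (t * y * t) := by
          rw [show t * x * t * (t * y * t) = t * x * (t * t) * y * t by simp only [mul_assoc], hS.mul_self]; group
      _ = gx * hx * t * fx * (gy * hy * t * fy) := by rw [ex, ey]
      _ = gx * hx * t * (fx * gy) * (t * t) * hy * t * fy := by rw [hS.mul_self]; group
      _ = _ := by simp only [mul_assoc]
  have hmem : gx * hx * (t * hy * t) * fy ∈ stabilizer G a :=
    mul_mem (mul_mem (mul_mem (hS.le hgx) (Subgroup.mem_inf.1 hhx).1) (Subgroup.mem_inf.1 (conj_D' hS hhy)).1) (hS.le hfy)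
  refine ⟨fun h => ?_, fun gz hz fz g' h' f' hgz hhz hfz ez hg' hh' hf' e' => ?_⟩
  · rw [h, mul_one, hS.mul_self, mul_one] at key
    rw [← key] at hmem
    have h1 : (x * y) • t • a = t • a := by
      have h2 : (t * (x * y) * t) • a = a := hmem
      rwa [mul_smul, mul_smul, smul_eq_iff_eq_inv_smul, t_inv hS] at h2
    have h3 : x * y ∈ Q ⊓ stabilizer G (t • a) := ⟨Q.mul_mem hxQ hyQ, h1⟩
    rw [hS.inf_eq_bot, Subgroup.mem_bot] at h3
    exact hxy h3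
  · set d := t * hy * t with hd
    have hdD : d ∈ twoStab Ω a t := conj_D' hS hhy
    have htd : t * d = hy * t := by rw [hd, ← mul_assoc, ← mul_assoc, hS.mul_self, one_mul]
    have e2 : t * (x * y) * t = gx * (hx * gz * hx⁻¹) * (hx * hz * hy) * t * (d⁻¹ * fz * d * fy) := by
      rw [key, ez]
      calc gx * hx * (gz * hz * t * fz) * d * fy = gx * (hx * gz * hx⁻¹) * (hx * hz) * (t * d) * (d⁻¹ * fz * d * fy) := by
            group
        _ = _ := by rw [htd]; group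
    have hq1 : gx * (hx * gz * hx⁻¹) ∈ Q := Q.mul_mem hgx (hS.conj_mem hx (Subgroup.mem_inf.1 hhx).1 gz hgz)
    have hq2 : d⁻¹ * fz * d * fy ∈ Q := by
      refine Q.mul_mem ?_ hfy
      have := hS.conj_mem d⁻¹ (inv_mem (Subgroup.mem_inf.1 hdD).1) fz hfz
      rwa [inv_inv] at this
    obtain ⟨-, h1, h2⟩ := coords hS hh' hf' (mul_mem (mul_mem hhx hhz) hhy) hq2 hg' hq1 (e'.symm.trans e2)
    exact ⟨h2, h1⟩

variable {X : Set G}

/-- The common fixed points. -/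
def FixX (Ω : Type*) [MulAction G Ω] (X : Set G) (p : Ω) : Prop := ∀ x ∈ X, x • p = p

theorem fix_trans_a (hX : X ⊆ (twoStab Ω a t : Set G)) {b c : Ω} (hb : b ≠ a) (hc : c ≠ a)
    (fb : FixX Ω X b) (fc : FixX Ω X c) : ∃ y ∈ Q ⊓ Subgroup.centralizer X, y • b = c := by
  obtain ⟨y, hy, hyu⟩ := regular hS hb hc
  refine ⟨y, Subgroup.mem_inf.2 ⟨y.2, Subgroup.mem_centralizer_iff.2 fun x hx => ?_⟩, hy⟩
  have hxD := Subgroup.mem_inf.1 (hX hx)
  have h := congrArg Subtype.val (hyu ⟨x * y * x⁻¹, hS.conj_mem x hxD.1 y y.2⟩ (by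
    show (x * (y : G) * x⁻¹) • b = c
    rw [mul_smul, mul_smul, inv_smul_eq_iff.2 (fb x hx).symm, show (y : G) • b = c from hy, fc x hx]))
  exact mul_inv_eq_iff_eq_mul.1 h

theorem fix_trans_pt (hX : X ⊆ (twoStab Ω a t : Set G)) {p b c : Ω} (fp : FixX Ω X p) (hb : b ≠ p) (hc : c ≠ p)
    (fb : FixX Ω X b) (fc : FixX Ω X c) : ∃ g ∈ Subgroup.centralizer X, g • p = p ∧ g • b = c := by
  rcases eq_or_ne b c with rfl | hbc
  · exact ⟨1, one_mem _, one_smul _ _, one_smul _ _⟩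
  obtain ⟨g, g1, g2⟩ := trans₂ hS hb.symm (ta_ne hS).symm
  let X' : Set G := (fun x => g * x * g⁻¹) '' X
  have hfix : ∀ q, FixX Ω X q → FixX Ω X' (g • q) := by
    rintro q hq _ ⟨x, hx, rfl⟩
    show (g * x * g⁻¹) • g • q = g • q
    rw [mul_smul, mul_smul, inv_smul_smul, hq x hx]
  have hX' : X' ⊆ (twoStab Ω a t : Set G) := fun y hy =>
    Subgroup.mem_inf.2 ⟨g1 ▸ hfix p fp y hy, g2 ▸ hfix b fb y hy⟩
  obtain ⟨y, hy, hyb⟩ := fix_trans_a hS hX' (show g • b ≠ a by rw [g2]; exact ta_ne hS)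
    (show g • c ≠ a from fun h => hc (MulAction.injective g (h.trans g1.symm))) (hfix b fb) (hfix c fc)
  obtain ⟨hyQ, hyc⟩ := Subgroup.mem_inf.1 hy
  refine ⟨g⁻¹ * y * g, Subgroup.mem_centralizer_iff.2 fun x hx => ?_, ?_, ?_⟩
  · have h := Subgroup.mem_centralizer_iff.1 hyc _ ⟨x, hx, rfl⟩
    calc x * (g⁻¹ * y * g) = g⁻¹ * ((g * x * g⁻¹) * y) * g := by group
      _ = g⁻¹ * (y * (g * x * g⁻¹)) * g := by rw [h]
      _ = _ := by group
  · rw [mul_smul, mul_smul, g1, fix_a hS hyQ, ← g1, inv_smul_smul]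
  · rw [mul_smul, mul_smul, hyb, inv_smul_smul]

theorem fix_two_trans (hX : X ⊆ (twoStab Ω a t : Set G))
    (h3 : ∃ b c d : Ω, b ≠ c ∧ b ≠ d ∧ c ≠ d ∧ FixX Ω X b ∧ FixX Ω X c ∧ FixX Ω X d)
    {b₁ b₂ c₁ c₂ : Ω} (f1 : FixX Ω X b₁) (f2 : FixX Ω X b₂) (f3 : FixX Ω X c₁) (f4 : FixX Ω X c₂)
    (hb : b₁ ≠ b₂) (hc : c₁ ≠ c₂) : ∃ g ∈ Subgroup.centralizer X, g • b₁ = c₁ ∧ g • b₂ = c₂ := by
  obtain ⟨g, hg, hg1⟩ : ∃ g ∈ Subgroup.centralizer X, g • b₁ = c₁ := by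
    rcases eq_or_ne b₁ c₁ with rfl | hne
    · exact ⟨1, one_mem _, one_smul _ _⟩
    obtain ⟨u, v, w, huv, huw, hvw, fu, fv, fw⟩ := h3
    obtain ⟨r, hr, hr1, hr2⟩ : ∃ r, FixX Ω X r ∧ r ≠ b₁ ∧ r ≠ c₁ := by
      by_cases h1 : u ≠ b₁ ∧ u ≠ c₁
      · exact ⟨u, fu, h1⟩
      by_cases h2 : v ≠ b₁ ∧ v ≠ c₁
      · exact ⟨v, fv, h2⟩
      refine ⟨w, fw, ?_, ?_⟩ <;> intro h <;> subst h <;>
        simp only [ne_eq, not_and_or, not_not] at h1 h2 <;> grind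
    obtain ⟨g, hg, -, hgb⟩ := fix_trans_pt hS hX hr hr1.symm hr2.symm f1 f3
    exact ⟨g, hg, hgb⟩
  have fgb : FixX Ω X (g • b₂) := fun x hx => by
    rw [← mul_smul, Subgroup.mem_centralizer_iff.1 hg x hx, mul_smul, f2 x hx]
  obtain ⟨k, hk, k1, k2⟩ := fix_trans_pt hS hX f3
    (show g • b₂ ≠ c₁ from fun h => hb (MulAction.injective g (hg1.trans h.symm))) hc.symm fgb f4
  exact ⟨k * g, mul_mem hk hg, by rw [mul_smul, hg1, k1], by rw [mul_smul, k2]⟩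

/-- An involution exchanging the two points inside the centraliser. -/
theorem exists_swap (hX : X ⊆ (twoStab Ω a t : Set G))
    (h3 : ∃ b c d : Ω, b ≠ c ∧ b ≠ d ∧ c ≠ d ∧ FixX Ω X b ∧ FixX Ω X c ∧ FixX Ω X d) :
    ∃ u ∈ Subgroup.centralizer X, u ≠ 1 ∧ u * u = 1 ∧ u • a = t • a ∧ u • t • a = a := by
  obtain ⟨g, hg, g1, g2⟩ := fix_two_trans hS hX h3 (b₁ := a) (b₂ := t • a) (c₁ := t • a) (c₂ := a)
    (fun x hx => (Subgroup.mem_inf.1 (hX hx)).1) (fun x hx => (Subgroup.mem_inf.1 (hX hx)).2)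
    (fun x hx => (Subgroup.mem_inf.1 (hX hx)).2) (fun x hx => (Subgroup.mem_inf.1 (hX hx)).1)
    (ta_ne hS).symm (ta_ne hS)
  have hgg : g * g ∈ twoStab Ω a t :=
    Subgroup.mem_inf.2 ⟨show (g * g) • a = a by rw [mul_smul, g1, g2],
      show (g * g) • t • a = t • a by rw [mul_smul, g2, g1]⟩
  obtain ⟨k, hk⟩ := orderOf_odd_mem hS.odd_card hgg
  have hu : ∀ j, (g ^ (2 * j)) ∈ twoStab Ω a t := fun j => by
    rw [pow_mul, pow_two]; exact Subgroup.pow_mem _ hgg j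
  have h1 : g ^ (2 * k + 1) • a = t • a := by
    rw [pow_succ', mul_smul, show g ^ (2 * k) • a = a from (Subgroup.mem_inf.1 (hu k)).1, g1]
  have h2 : g ^ (2 * k + 1) • t • a = a := by
    rw [pow_succ', mul_smul, show g ^ (2 * k) • t • a = t • a from (Subgroup.mem_inf.1 (hu k)).2, g2]
  refine ⟨g ^ (2 * k + 1), Subgroup.pow_mem _ hg _, fun h => ta_ne hS ?_, ?_, h1, h2⟩
  · rw [h, one_smul] at h1; exact h1.symm
  · rw [← pow_add, ← two_mul, pow_mul, pow_two, ← hk]; exact pow_orderOf_eq_one _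

theorem cent_inv_in_Q (hX : X ⊆ (twoStab Ω a t : Set G))
    (h3 : ∃ b c d : Ω, b ≠ c ∧ b ≠ d ∧ c ≠ d ∧ FixX Ω X b ∧ FixX Ω X c ∧ FixX Ω X d) :
    ∃ s ∈ Subgroup.centralizer X ⊓ Q, s ≠ 1 ∧ s * s = 1 := by
  obtain ⟨u, hu, hu1, hu2, hua, -⟩ := exists_swap hS hX h3
  obtain ⟨p, hp⟩ := exists_fix hS hu2
  have fp : FixX Ω X p := fun x hx => commute_fix hS hu1 hu2 (Subgroup.mem_centralizer_iff.1 hu x hx) hp
  have hpa : p ≠ a := fun h => ta_ne hS (by rw [← hua, ← h, hp])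
  obtain ⟨g, hg, g1, -⟩ := fix_two_trans hS hX h3 (b₁ := p) (b₂ := a) (c₁ := a) (c₂ := p)
    fp (fun x hx => (Subgroup.mem_inf.1 (hX hx)).1) (fun x hx => (Subgroup.mem_inf.1 (hX hx)).1) fp hpa hpa.symm
  have h2 : g * u * g⁻¹ * (g * u * g⁻¹) = 1 := by
    rw [show g * u * g⁻¹ * (g * u * g⁻¹) = g * (u * u) * g⁻¹ by group, hu2]; group
  refine ⟨g * u * g⁻¹, Subgroup.mem_inf.2 ⟨mul_mem (mul_mem hg hu) (inv_mem hg), inv_mem_Q hS ?_ h2⟩,
    fun h => hu1 (by rwa [mul_inv_eq_one, mul_eq_left] at h), h2⟩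
  show (g * u * g⁻¹) • a = a
  rw [← g1, mul_smul, mul_smul, inv_smul_smul, hp]

theorem cent_even (hX : X ⊆ (twoStab Ω a t : Set G))
    (h3 : ∃ b c d : Ω, b ≠ c ∧ b ≠ d ∧ c ≠ d ∧ FixX Ω X b ∧ FixX Ω X c ∧ FixX Ω X d) :
    Even (Nat.card ↥(Subgroup.centralizer X ⊓ Q)) := by
  obtain ⟨s, hs, hs1, hs2⟩ := cent_inv_in_Q hS hX h3
  rw [even_iff_two_dvd, ← orderOf_eq_prime (p := 2) (by rw [pow_two, hs2]) hs1]
  exact Subgroup.orderOf_dvd_natCard _ hs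

theorem cent_sup (hX : X ⊆ (twoStab Ω a t : Set G)) :
    (Subgroup.centralizer X ⊓ Q) ⊔ (Subgroup.centralizer X ⊓ twoStab Ω a t) =
      Subgroup.centralizer X ⊓ stabilizer G a := by
  refine le_antisymm (sup_le (inf_le_inf_left _ hS.le) (inf_le_inf_left _ inf_le_left)) fun g hg => ?_
  obtain ⟨hgc, hga⟩ := Subgroup.mem_inf.1 hg
  have fgb : FixX Ω X (g • t • a) := fun x hx => by
    rw [← mul_smul, Subgroup.mem_centralizer_iff.1 hgc x hx, mul_smul,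
      show x • t • a = t • a from (Subgroup.mem_inf.1 (hX hx)).2]
  obtain ⟨y, hy, hyb⟩ := fix_trans_a hS hX (ta_ne hS)
    (show g • t • a ≠ a from fun h => ta_ne hS (MulAction.injective g (h.trans (show g • a = a from hga).symm)))
    (fun x hx => (Subgroup.mem_inf.1 (hX hx)).2) fgb
  obtain ⟨hyQ, hyc⟩ := Subgroup.mem_inf.1 hy
  rw [← mul_inv_cancel_left y g]
  refine Subgroup.mul_mem_sup (Subgroup.mem_inf.2 ⟨hyc, hyQ⟩)
    (Subgroup.mem_inf.2 ⟨mul_mem (inv_mem hyc) hgc, Subgroup.mem_inf.2 ⟨mul_mem (inv_mem (hS.le hyQ)) hga, ?_⟩⟩)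
  show (y⁻¹ * g) • t • a = t • a
  rw [mul_smul, inv_smul_eq_iff, hyb]

theorem conj_into_t (hX : X ⊆ (twoStab Ω a t : Set G))
    (h3 : ∃ b c d : Ω, b ≠ c ∧ b ≠ d ∧ c ≠ d ∧ FixX Ω X b ∧ FixX Ω X c ∧ FixX Ω X d) :
    ∃ k ∈ twoStab Ω a t, ∀ x ∈ X, (k * x * k⁻¹) * t = t * (k * x * k⁻¹) := by
  obtain ⟨u, hu, hu1, hu2, hua, -⟩ := exists_swap hS hX h3
  obtain ⟨d, ⟨hd, hdi⟩, rfl⟩ := (swap_iff hS).1 ⟨hu1, hu2, hua⟩
  obtain ⟨k, hk, hkk, hki⟩ := exists_sqrt hS.odd_card hd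
  have hki' := hki t hdi
  have e : k⁻¹ * (d * t) * k = t := by
    have h1 : t * k = k⁻¹ * t := by rw [← hki', inv_mul_cancel_right]
    rw [← hkk, show k⁻¹ * (k * k * t) * k = k * (t * k) by group, h1, mul_inv_cancel_left]
  refine ⟨k⁻¹, inv_mem hk, fun x hx => ?_⟩
  have h := Subgroup.mem_centralizer_iff.1 hu x hx
  calc k⁻¹ * x * k⁻¹⁻¹ * t = k⁻¹ * x * k * (k⁻¹ * (d * t) * k) := by rw [e, inv_inv]
    _ = k⁻¹ * (x * (d * t)) * k := by group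
    _ = k⁻¹ * (d * t * x) * k := by rw [h]
    _ = k⁻¹ * (d * t) * k * (k⁻¹ * x * k⁻¹⁻¹) := by group
    _ = _ := by rw [e]

theorem cent_inverted {x : G} (hx : x ∈ Cfsg.invertedBy (twoStab Ω a t) t) (hx1 : x ≠ 1) :
    Q ⊓ Subgroup.centralizer {x} = ⊥ := by
  rw [Subgroup.eq_bot_iff_forall]
  intro y hy
  obtain ⟨hyQ, hyc⟩ := Subgroup.mem_inf.1 hy
  by_contra hy1
  have hX : ({x} : Set G) ⊆ (twoStab Ω a t : Set G) := Set.singleton_subset_iff.2 hx.1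
  have hcx := Subgroup.mem_centralizer_singleton_iff.1 hyc
  have h3 : ∃ b c d : Ω, b ≠ c ∧ b ≠ d ∧ c ≠ d ∧ FixX Ω {x} b ∧ FixX Ω {x} c ∧ FixX Ω {x} d := by
    refine ⟨a, t • a, y • t • a, (ta_ne hS).symm, fun h => ta_ne hS (MulAction.injective y (h.symm.trans (fix_a hS hyQ).symm)),
      fun h => hy1 ?_, ?_, ?_, ?_⟩
    · obtain ⟨w, -, hw⟩ := regular hS (ta_ne hS) (ta_ne hS)
      exact congrArg Subtype.val ((hw ⟨y, hyQ⟩ h.symm).trans (hw 1 (one_smul _ _)).symm)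
    all_goals
      intro z hz
      rw [Set.mem_singleton_iff.1 hz]
    · exact (Subgroup.mem_inf.1 hx.1).1
    · exact (Subgroup.mem_inf.1 hx.1).2
    · rw [← mul_smul, ← hcx, mul_smul, show x • t • a = t • a from (Subgroup.mem_inf.1 hx.1).2]
  obtain ⟨s, hs, hs1, hs2⟩ := cent_inv_in_Q hS hX h3
  obtain ⟨hsc, hsQ⟩ := Subgroup.mem_inf.1 hs
  refine hx1 (inverted_centralised (odd_of_fix hS hs1 hs2 hS.ne_one hS.mul_self (fix_a hS hsQ) (ta_ne hS)) ?_ hx.2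
    (orderOf_odd_mem hS.odd_card hx.1))
  rw [Subgroup.mem_centralizer_singleton_iff.1 hsc, mul_inv_cancel_right]

theorem cent_all : twoStab Ω a t ⊓ Subgroup.centralizer {t} ⊓
      Subgroup.centralizer (Cfsg.invertedBy (twoStab Ω a t) t) =
    twoStab Ω a t ⊓ Subgroup.centralizer (Cfsg.involutionsIn (stabilizer G a : Set G)) := by
  obtain ⟨⟨s, r⟩, ⟨hs, hr, e⟩, -⟩ := partner hS
  have heq := cent_eq hS hs hr e
  ext x
  simp only [Subgroup.mem_inf]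
  constructor
  · rintro ⟨⟨hxD, hxt⟩, hxI⟩
    refine ⟨hxD, Subgroup.mem_centralizer_iff.2 fun s' hs' => ?_⟩
    have hxs : x ∈ twoStab Ω a t ⊓ Subgroup.centralizer {s} := heq ▸ Subgroup.mem_inf.2 ⟨Subgroup.mem_inf.2 hxD, hxt⟩
    have hxs' := Subgroup.mem_centralizer_singleton_iff.1 (Subgroup.mem_inf.1 hxs).2
    obtain ⟨k, hk, rfl⟩ := conj_surj hS hs hs'
    have hxk : Commute k x := Subgroup.mem_centralizer_iff.1 hxI k hk
    have h1 : Commute s x := hxs'.symm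
    exact (hxk.inv_left.mul_left h1).mul_left hxk
  · rintro ⟨hxD, hxJ⟩
    have hxs : x ∈ twoStab Ω a t ⊓ Subgroup.centralizer {s} := Subgroup.mem_inf.2 ⟨Subgroup.mem_inf.2 hxD,
      Subgroup.mem_centralizer_singleton_iff.2 (Subgroup.mem_centralizer_iff.1 hxJ s hs).symm⟩
    have hxt : x ∈ twoStab Ω a t ⊓ Subgroup.centralizer {t} := heq ▸ hxs
    refine ⟨⟨hxD, (Subgroup.mem_inf.1 hxt).2⟩, Subgroup.mem_centralizer_iff.2 fun k hk => ?_⟩
    have htx : Commute x t := Subgroup.mem_centralizer_singleton_iff.1 (Subgroup.mem_inf.1 hxt).2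
    have hk1 : k⁻¹ * s * k ∈ Cfsg.involutionsIn (stabilizer G a : Set G) := by
      have := conj_invol hS (x := k⁻¹) (inv_smul_eq_iff.2 (Subgroup.mem_inf.1 hk.1).1.symm) hs
      rwa [inv_inv] at this
    have h2 := Subgroup.mem_centralizer_iff.1 hxJ _ hk1
    have hy : k * x * k⁻¹ ∈ twoStab Ω a t ⊓ Subgroup.centralizer {s} := by
      refine Subgroup.mem_inf.2 ⟨mul_mem (mul_mem hk.1 (Subgroup.mem_inf.2 hxD)) (inv_mem hk.1),
        Subgroup.mem_centralizer_singleton_iff.2 ?_⟩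
      calc k * x * k⁻¹ * s = k * (x * (k⁻¹ * s * k)) * k⁻¹ := by group
        _ = k * (k⁻¹ * s * k * x) * k⁻¹ := by rw [h2]
        _ = _ := by group
    rw [← heq] at hy
    have hyt : Commute (k * x * k⁻¹) t := Subgroup.mem_centralizer_singleton_iff.1 (Subgroup.mem_inf.1 hy).2
    have h3 : k⁻¹ * x * k = k * x * k⁻¹ := by
      calc k⁻¹ * x * k = (t * k * t⁻¹) * x * (t * k * t⁻¹)⁻¹ := by rw [hk.2, inv_inv]
        _ = t * (k * (t⁻¹ * x * t) * k⁻¹) * t⁻¹ := by group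
        _ = t * (k * x * k⁻¹) * t⁻¹ := by rw [mul_assoc t⁻¹, htx.eq, inv_mul_cancel_left]
        _ = _ := by rw [← hyt.eq, mul_inv_cancel_right]
    have h4 : Commute (k * k) x := by
      show k * k * x = x * (k * k)
      calc k * k * x = k * (k * x * k⁻¹) * k := by group
        _ = k * (k⁻¹ * x * k) * k := by rw [h3]
        _ = _ := by group
    obtain ⟨j, hj⟩ := orderOf_odd_mem hS.odd_card hk.1
    have h5 : (k * k) ^ (j + 1) = k := by
      rw [← pow_two, ← pow_mul, show 2 * (j + 1) = (2 * j + 1) + 1 by ring, ← hj, pow_succ, pow_orderOf_eq_one, one_mul]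
    have h6 := h4.pow_left (j + 1)
    rwa [h5] at h6

theorem core_eq (h2 : ∃ x y : G, x ≠ 1 ∧ y ≠ 1 ∧ x ≠ y ∧ x * x = 1 ∧ y * y = 1 ∧ x * y = y * x) :
    Cfsg.pPrimeCore 2 G = (stabilizer G a).normalCore := by
  obtain ⟨x, y, hx1, hy1, hxy, hx2, hy2, hc⟩ := h2
  obtain ⟨p, hp⟩ := exists_fix hS hx2
  have hyp : y • p = p := commute_fix hS hx1 hx2 hc.symm hp
  obtain ⟨g, hg⟩ := trans₁ hS p a
  refine le_antisymm (sSup_le ?_) ?_
  · rintro N ⟨hN, hcop⟩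
    refine (Subgroup.normal_le_normalCore (hN := hN)).2 fun z hz => ?_
    have hodd : Odd (Nat.card N) := Nat.coprime_two_right.1 hcop
    have hz' : g⁻¹ * z * g ∈ N := by simpa [mul_assoc] using hN.conj_mem z hz g⁻¹
    obtain ⟨a', b', c', d', e1, e2, e3, e4, -, -, -, -, e⟩ :=
      four_generation hx2 hy2 hc hodd (fun w hw => hN.conj_mem w hw x) (fun w hw => hN.conj_mem w hw y) hz'
    have hxy1 : x * y ≠ 1 := fun h => hxy (by
      calc x = x * (y * y) := by rw [hy2, mul_one]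
        _ = y := by rw [← mul_assoc, h, one_mul])
    have hxy2 : x * y * (x * y) = 1 := by
      calc x * y * (x * y) = x * (y * x) * y := by simp only [mul_assoc]
        _ = 1 := by rw [← hc, ← mul_assoc, hx2, one_mul, hy2]
    have hxyp : (x * y) • p = p := by rw [mul_smul, hyp, hp]
    have hzp : (g⁻¹ * z * g) • p = p := by
      rw [e, mul_smul, mul_smul, mul_smul, commute_fix hS hy1 hy2 e4 hyp, commute_fix hS hxy1 hxy2 e3 hxyp,
        commute_fix hS hy1 hy2 e2 hyp, commute_fix hS hx1 hx2 e1 hp]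
    show z • a = a
    rw [mul_smul, mul_smul, hg, inv_smul_eq_iff, hg] at hzp
    exact hzp
  · refine le_sSup ⟨Subgroup.normalCore_normal _, Nat.coprime_two_right.2 ?_⟩
    refine hS.odd_card.of_dvd_nat (Subgroup.card_dvd_of_le fun z hz => Subgroup.mem_inf.2
      ⟨Subgroup.normalCore_le _ hz, ?_⟩)
    have h := Subgroup.normalCore_le _ ((Subgroup.normalCore_normal (stabilizer G a)).conj_mem z hz t⁻¹)
    have h' : (t⁻¹ * z * t⁻¹⁻¹) • a = a := h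
    rwa [inv_inv, mul_smul, mul_smul, inv_smul_eq_iff] at h'

theorem exists_inverted_ne (h2 : ∃ x y : G, x ≠ 1 ∧ y ≠ 1 ∧ x ≠ y ∧ x * x = 1 ∧ y * y = 1 ∧ x * y = y * x) :
    ∃ k ∈ Cfsg.invertedBy (twoStab Ω a t) t, k ≠ 1 := by
  obtain ⟨x, y, hx1, hy1, hxy, hx2, hy2, hc⟩ := h2
  obtain ⟨p, hp⟩ := exists_fix hS hx2
  have hyp : y • p = p := commute_fix hS hx1 hx2 hc.symm hp
  obtain ⟨g, hg⟩ := trans₁ hS p a
  have hm : ∀ w, w ≠ 1 → w * w = 1 → w • p = p → g * w * g⁻¹ ∈ Cfsg.involutionsIn (stabilizer G a : Set G) := by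
    intro w hw1 hw2 hwp
    refine ⟨?_, fun h => hw1 (by rwa [mul_inv_eq_one, mul_eq_left] at h), ?_⟩
    · show (g * w * g⁻¹) • a = a
      rw [← hg, mul_smul, mul_smul, inv_smul_smul, hwp]
    · rw [show g * w * g⁻¹ * (g * w * g⁻¹) = g * (w * w) * g⁻¹ by group, hw2]; group
  obtain ⟨k, hk, he⟩ := conj_surj hS (hm x hx1 hx2 hp) (hm y hy1 hy2 hyp)
  refine ⟨k, hk, fun h => hxy ?_⟩
  rw [h, inv_one, one_mul, mul_one] at he
  exact mul_left_cancel (mul_right_cancel he)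

theorem nilpotent_Q (h2 : ∃ x y : G, x ≠ 1 ∧ y ≠ 1 ∧ x ≠ y ∧ x * x = 1 ∧ y * y = 1 ∧ x * y = y * x) :
    Group.IsNilpotent Q := by
  obtain ⟨k, ⟨hkD, hki⟩, hk1⟩ := exists_inverted_ne hS h2
  obtain ⟨r, hr, hrd⟩ := Nat.exists_prime_and_dvd (n := orderOf k) (fun h => hk1 (orderOf_eq_one_iff.1 h))
  set x := k ^ (orderOf k / r)
  have ho : orderOf x = r := orderOf_pow_orderOf_div (orderOf_pos k).ne' hrd
  have hx : x ∈ Cfsg.invertedBy (twoStab Ω a t) t :=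
    ⟨Subgroup.pow_mem _ hkD _, by rw [← conj_pow, hki, inv_pow]⟩
  have hx1 : x ≠ 1 := fun h => hr.ne_one (by rw [← ho, h, orderOf_one])
  let φ : Q →* Q := MonoidHom.mk'
    (fun q => ⟨x * q * x⁻¹, hS.conj_mem x (Subgroup.mem_inf.1 hx.1).1 q q.2⟩)
    fun p q => Subtype.ext (by show x * (↑p * ↑q) * x⁻¹ = x * ↑p * x⁻¹ * (x * ↑q * x⁻¹); group)
  have hit : ∀ n, ∀ q : Q, ((φ^[n] q : Q) : G) = x ^ n * q * (x ^ n)⁻¹ := fun n => by
    induction n with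
    | zero => intro q; simp
    | succ n ih =>
      intro q
      rw [Function.iterate_succ_apply', show ((φ (φ^[n] q) : Q) : G) = x * ((φ^[n] q : Q) : G) * x⁻¹ from rfl, ih,
        pow_succ']
      group
  refine Cfsg.Lib.Thompson.isNilpotent_of_fpf φ ?_ hr ?_
  · intro q hq
    have h : x * (q : G) * x⁻¹ = q := congrArg Subtype.val hq
    have hm : (q : G) ∈ Q ⊓ Subgroup.centralizer {x} := Subgroup.mem_inf.2
      ⟨q.2, Subgroup.mem_centralizer_singleton_iff.2 (mul_inv_eq_iff_eq_mul.1 h).symm⟩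
    rw [cent_inverted hS hx hx1, Subgroup.mem_bot] at hm
    exact Subtype.ext hm
  · funext q
    refine Subtype.ext ?_
    rw [hit, ← ho, pow_orderOf_eq_one]; simp

theorem invol_central (h2 : ∃ x y : G, x ≠ 1 ∧ y ≠ 1 ∧ x ≠ y ∧ x * x = 1 ∧ y * y = 1 ∧ x * y = y * x)
    {s : G} (hs : s ∈ Cfsg.involutionsIn (stabilizer G a : Set G)) : s ∈ Q ∧ ∀ x ∈ Q, s * x = x * s := by
  refine ⟨inv_mem_Q hS hs.1 hs.2.2, ?_⟩
  have := nilpotent_Q hS h2
  have : Fact (Nat.Prime 2) := ⟨Nat.prime_two⟩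
  obtain ⟨P⟩ : Nonempty (Sylow 2 Q) := inferInstance
  have hPn : (P : Subgroup Q).Normal := by
    have h := ((Group.isNilpotent_of_finite_tfae (G := Q)).out 0 3).1 ‹_›
    exact h 2 inferInstance P
  have hne : (P : Subgroup Q) ≠ ⊥ := by
    intro h
    have hd := P.dvd_card_of_dvd_card (even_iff_two_dvd.1 hS.even_card)
    rw [h, Subgroup.card_bot] at hd
    exact absurd hd (by decide)
  have h := Cfsg.Lib.Coprime.inf_center_ne_bot (P : Subgroup Q) hne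
  obtain ⟨⟨w, hw⟩, hw1⟩ := Subgroup.ne_bot_iff_exists_ne_one.1 h
  have hpg : IsPGroup 2 ↥((P : Subgroup Q) ⊓ Subgroup.center Q) := P.isPGroup'.to_le inf_le_left
  have : Nontrivial ↥((P : Subgroup Q) ⊓ Subgroup.center Q) := ⟨⟨_, 1, hw1⟩⟩
  obtain ⟨n, hn, hc⟩ := hpg.nontrivial_iff_card.1 ‹_›
  obtain ⟨z, hz⟩ := exists_prime_orderOf_dvd_card' (G := ↥((P : Subgroup Q) ⊓ Subgroup.center Q)) 2
    (by rw [hc]; exact dvd_pow_self 2 hn.ne')
  have hz1 : (z.1 : G) ≠ 1 := fun h => by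
    have : z = 1 := Subtype.ext (Subtype.ext h)
    rw [this, orderOf_one] at hz
    exact absurd hz (by decide)
  have hz2 : (z.1 : G) * z.1 = 1 := by
    have h := pow_orderOf_eq_one z
    rw [hz, pow_two] at h
    exact congrArg (fun w => (w.1 : G)) h
  have hzs : (z.1 : G) ∈ Cfsg.involutionsIn (stabilizer G a : Set G) := ⟨hS.le z.1.2, hz1, hz2⟩
  obtain ⟨k, hk, rfl⟩ := conj_surj hS hzs hs
  intro q hq
  have hq' : k * q * k⁻¹ ∈ Q := hS.conj_mem k (Subgroup.mem_inf.1 hk.1).1 q hq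
  have hc' : (k * q * k⁻¹) * z.1 = z.1 * (k * q * k⁻¹) :=
    congrArg Subtype.val (Subgroup.mem_center_iff.1 (Subgroup.mem_inf.1 z.2).2 ⟨_, hq'⟩)
  calc k⁻¹ * z.1 * k * q = k⁻¹ * ((z.1 : G) * (k * q * k⁻¹)) * k := by group
    _ = k⁻¹ * (k * q * k⁻¹ * z.1) * k := by rw [hc']
    _ = _ := by group

theorem invol_closed (h2 : ∃ x y : G, x ≠ 1 ∧ y ≠ 1 ∧ x ≠ y ∧ x * x = 1 ∧ y * y = 1 ∧ x * y = y * x)
    {s s' : G} (hs : s ∈ Cfsg.involutionsIn (stabilizer G a : Set G))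
    (hs' : s' ∈ Cfsg.involutionsIn (stabilizer G a : Set G)) :
    s * s' = 1 ∨ s * s' ∈ Cfsg.involutionsIn (stabilizer G a : Set G) := by
  by_cases h : s * s' = 1
  · exact Or.inl h
  refine Or.inr ⟨mul_mem hs.1 hs'.1, h, ?_⟩
  have hc := (invol_central hS h2 hs').2 s (inv_mem_Q hS hs.1 hs.2.2)
  calc s * s' * (s * s') = s * (s' * s) * s' := by simp only [mul_assoc]
    _ = 1 := by rw [hc, ← mul_assoc, hs.2.2, one_mul, hs'.2.2]

theorem real_elements (h2 : ∃ x y : G, x ≠ 1 ∧ y ≠ 1 ∧ x ≠ y ∧ x * x = 1 ∧ y * y = 1 ∧ x * y = y * x)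
    (u v : G) (hu1 : u ≠ 1) (hu2 : u * u = 1) (hv1 : v ≠ 1) (hv2 : v * v = 1) (hx : (u * v) * (u * v) ≠ 1) :
    (∃ g : G, ∃ u' ∈ Cfsg.involutionsIn (stabilizer G a : Set G), g * (u * v) * g⁻¹ = u' * t) ∧
      Odd (Nat.card ↥(Subgroup.centralizer {u * v})) := by
  obtain ⟨p, hp⟩ := exists_fix hS hu2
  have conj_inv : ∀ g w : G, w ≠ 1 → w * w = 1 → g * w * g⁻¹ ≠ 1 ∧ g * w * g⁻¹ * (g * w * g⁻¹) = 1 :=
    fun g w hw1 hw2 => ⟨fun h => hw1 (by rwa [mul_inv_eq_one, mul_eq_left] at h),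
      by rw [show g * w * g⁻¹ * (g * w * g⁻¹) = g * (w * w) * g⁻¹ by group, hw2]; group⟩
  have hvp : v • p ≠ p := by
    intro hvp
    obtain ⟨g, hg⟩ := trans₁ hS p a
    have hm : ∀ w : G, w ≠ 1 → w * w = 1 → w • p = p →
        g * w * g⁻¹ ∈ Cfsg.involutionsIn (stabilizer G a : Set G) := by
      intro w hw1 hw2 hwp
      refine ⟨?_, conj_inv g w hw1 hw2⟩
      show (g * w * g⁻¹) • a = a
      rw [← hg, mul_smul, mul_smul, inv_smul_smul, hwp]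
    have hu' := hm u hu1 hu2 hp
    have hv' := hm v hv1 hv2 hvp
    rcases invol_closed hS h2 hu' hv' with h | h
    · apply hx
      rw [show g * u * g⁻¹ * (g * v * g⁻¹) = g * (u * v) * g⁻¹ by group, mul_inv_eq_one, mul_eq_left] at h
      rw [h, one_mul]
    · apply hx
      have h' := h.2.2
      rw [show g * u * g⁻¹ * (g * v * g⁻¹) * (g * u * g⁻¹ * (g * v * g⁻¹)) = g * ((u * v) * (u * v)) * g⁻¹ by group,
        mul_inv_eq_one, mul_eq_left] at h'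
      exact h'
  refine ⟨?_, ?_⟩
  · obtain ⟨g, g1, g2⟩ := trans₂ hS hvp.symm (ta_ne hS).symm
    obtain ⟨hw1, hw2⟩ := conj_inv g v hv1 hv2
    have hwa : (g * v * g⁻¹) • a = t • a := by
      rw [← g2]
      conv_lhs => rw [← g1]
      rw [mul_smul, mul_smul, inv_smul_smul]
    obtain ⟨d, ⟨hd, hdi⟩, he⟩ := (swap_iff hS).1 ⟨hw1, hw2, hwa⟩
    obtain ⟨k, hk, hkk, hki⟩ := exists_sqrt hS.odd_card hd
    have e : k⁻¹ * (d * t) * k = t := by
      have h1 : t * k = k⁻¹ * t := by rw [← hki t hdi, inv_mul_cancel_right]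
      rw [← hkk, show k⁻¹ * (k * k * t) * k = k * (t * k) by group, h1, mul_inv_cancel_left]
    refine ⟨k⁻¹ * g, (k⁻¹ * g) * u * (k⁻¹ * g)⁻¹, ⟨?_, conj_inv _ u hu1 hu2⟩, ?_⟩
    · show ((k⁻¹ * g) * u * (k⁻¹ * g)⁻¹) • a = a
      have h1 : (k⁻¹ * g) • p = a := by
        rw [mul_smul, g1, inv_smul_eq_iff, show k • a = a from (Subgroup.mem_inf.1 hk).1]
      conv_lhs => rw [← h1]
      rw [mul_smul, mul_smul, inv_smul_smul, hp, h1]
    · rw [← he] at e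
      conv_rhs => rw [← e]
      group
  · by_contra hne
    rw [Nat.not_odd_iff_even, even_iff_two_dvd] at hne
    have : Fact (Nat.Prime 2) := ⟨Nat.prime_two⟩
    obtain ⟨w, hw⟩ := exists_prime_orderOf_dvd_card' (G := ↥(Subgroup.centralizer {u * v})) 2 hne
    have hw1 : (w : G) ≠ 1 := fun h => by
      rw [← Subgroup.orderOf_coe, h, orderOf_one] at hw
      exact absurd hw (by decide)
    have hw2 : (w : G) * w = 1 := by
      have h := pow_orderOf_eq_one w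
      rw [hw, pow_two] at h
      exact congrArg Subtype.val h
    have hwz : Commute (w : G) (u * v) := Subgroup.mem_centralizer_singleton_iff.1 w.2
    obtain ⟨q, hq⟩ := exists_fix hS hw2
    have huz : u * (u * v) * u⁻¹ = (u * v)⁻¹ := by
      rw [mul_inv_rev, inv_of_sq hu2, inv_of_sq hv2, ← mul_assoc u u, hu2, one_mul]
    have hzq : (u * v) • q = q := commute_fix hS hw1 hw2 hwz.symm hq
    have huq : u • q ≠ q := by
      intro h
      rw [mul_smul, smul_eq_iff_eq_inv_smul, inv_of_sq hu2, h] at hzq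
      exact hvp ((inv_fix_unique hS hu1 hu2 hp h) ▸ hzq)
    have hodd_z : Odd (orderOf (u * v)) := odd_of_fix hS hu1 hu2 hv1 hv2 hp hvp
    have h := inverted_centralised (odd_of_fix hS hw1 hw2 hu1 hu2 hq huq)
      (by rw [hwz.eq, mul_inv_cancel_right]) huz hodd_z
    exact hx (by rw [h, one_mul])

end Cfsg.Lib.RankOne
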