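import Mathlib

/-! Additive and quadratic maps of finite fields of characteristic two through automorphisms. -/

set_option autoImplicit false

namespace Cfsg.Lib.RankOne

variable {F : Type*} [Field F] [Fintype F] [CharP F 2]

theorem aut_indep : LinearIndependent F (fun σ : F ≃+* F => ((σ : F →+* F) : F → F)) := by
  have h := (linearIndependent_monoidHom F F).comp (fun σ : F ≃+* F => ((σ : F →+* F) : F →* F))
    (fun σ τ h => RingEquiv.ext fun x => DFunLike.congr_fun h x)
  exact h

theorem aut_span : ∀ f : F →+ F, ∃ c : (F ≃+* F) → F, ∀ x : F, f x = ∑ᶠ σ : F ≃+* F, c σ * σ x := by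
  classical
  let : Algebra (ZMod 2) F := ZMod.algebra F 2
  have : Finite (F ≃+* F) := Finite.of_injective (fun e => (e : F → F)) DFunLike.coe_injective
  let : Fintype (F ≃+* F) := Fintype.ofFinite _
  have : Fact (Nat.Prime 2) := ⟨Nat.prime_two⟩
  let S : ((F ≃+* F) → F) → (F →+ F) := fun c => ∑ σ : F ≃+* F, (AddMonoidHom.mulLeft (c σ)).comp σ.toAddMonoidHom
  have hS : ∀ c x, S c x = ∑ σ : F ≃+* F, c σ * σ x := fun c x => by
    simp [S]
  have hinj : Function.Injective S := by
    intro c d h
    funext σ
    refine sub_eq_zero.1 (Fintype.linearIndependent_iff.1 (aut_indep (F := F)) (c - d) (funext fun x => ?_) σ)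
    have := congrArg (fun g : F →+ F => g x) h
    simp only [hS] at this
    simp [sub_mul, Finset.sum_sub_distrib, this]
  set n := Module.finrank (ZMod 2) F
  have hcardF : Nat.card F = 2 ^ n := by rw [Module.natCard_eq_pow_finrank (K := ZMod 2), Nat.card_zmod]
  have hfin : Finite (F →+ F) := Finite.of_injective (fun e => (e : F → F)) DFunLike.coe_injective
  have haut : Nat.card (F ≃+* F) = n := by
    refine Eq.trans ?_ (IsGalois.card_aut_eq_finrank (ZMod 2) F)
    refine Nat.card_congr
      { toFun := fun e => AlgEquiv.ofRingEquiv (f := e) fun r => by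
          exact DFunLike.congr_fun (Subsingleton.elim ((e : F →+* F).comp (algebraMap (ZMod 2) F)) (algebraMap (ZMod 2) F)) r
        invFun := fun e => e.toRingEquiv
        left_inv := fun _ => RingEquiv.ext fun _ => rfl
        right_inv := fun _ => AlgEquiv.ext fun _ => rfl }
  have hhom : Nat.card (F →+ F) = Nat.card F ^ n := by
    let e : (F →+ F) ≃ (F →ₗ[ZMod 2] F) :=
      { toFun := fun f => f.toZModLinearMap 2
        invFun := fun f => f.toAddMonoidHom
        left_inv := fun _ => AddMonoidHom.ext fun _ => rfl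
        right_inv := fun _ => LinearMap.ext fun _ => rfl }
    rw [Nat.card_congr e]
    rw [Nat.card_congr ((Module.finBasis (ZMod 2) F).constr ℕ).toEquiv.symm, Nat.card_fun, Nat.card_fin]
  have hb : Function.Bijective S := by
    refine hinj.bijective_of_nat_card_le ?_
    rw [Nat.card_fun, haut, hhom]
  intro f
  obtain ⟨c, hc⟩ := hb.2 f
  exact ⟨c, fun x => by rw [← hc, hS, finsum_eq_sum_of_fintype]⟩

theorem aut_data :
    LinearIndependent F (fun σ : F ≃+* F => ((σ : F →+* F) : F → F)) ∧
      (∀ f : F →+ F, ∃ (s : Finset (F ≃+* F)) (c : (F ≃+* F) → F), ∀ x : F, f x = ∑ σ ∈ s, c σ * σ x) ∧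
      ∀ B : F →+ F →+ F, ∃ (s : Finset ((F ≃+* F) × (F ≃+* F))) (c : (F ≃+* F) × (F ≃+* F) → F),
        ∀ x y : F, B x y = ∑ p ∈ s, c p * (p.1 x * p.2 y) := by
  classical
  have : Finite (F ≃+* F) := Finite.of_injective (fun e => (e : F → F)) DFunLike.coe_injective
  let : Fintype (F ≃+* F) := Fintype.ofFinite _
  have sp : ∀ f : F →+ F, ∃ c : (F ≃+* F) → F, ∀ x : F, f x = ∑ σ : F ≃+* F, c σ * σ x := fun f =>
    (aut_span f).imp fun c h x => by rw [h, finsum_eq_sum_of_fintype]
  refine ⟨aut_indep, fun f => (sp f).elim fun c h => ⟨Finset.univ, c, h⟩, fun B => ?_⟩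
  choose c hc using fun y : F => sp (B.flip y)
  have hadd : ∀ σ y y', c (y + y') σ = c y σ + c y' σ := fun σ y y' => by
    have h := Fintype.linearIndependent_iff.1 (aut_indep (F := F)) (c (y + y') - (c y + c y')) (funext fun x => ?_) σ
    · exact sub_eq_zero.1 h
    · have e1 := hc (y + y') x
      simp only [map_add, AddMonoidHom.add_apply, hc] at e1
      simp [sub_mul, add_mul, Finset.sum_sub_distrib, Finset.sum_add_distrib, ← e1]
  choose d hd using fun σ : F ≃+* F => sp (AddMonoidHom.mk' (fun y => c y σ) (hadd σ))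
  refine ⟨Finset.univ, fun p => d p.1 p.2, fun x y => ?_⟩
  rw [show B x y = B.flip y x from rfl, hc, ← Finset.univ_product_univ, Finset.sum_product]
  refine Finset.sum_congr rfl fun σ _ => ?_
  rw [show c y σ = ∑ τ : F ≃+* F, d σ τ * τ y from hd σ y, Finset.sum_mul]
  exact Finset.sum_congr rfl fun τ _ => by ring

theorem quadratic_span (q : F → F)
    (hq : ∀ x y z : F, q (x + y + z) + q (x + y) + q (x + z) + q (y + z) + q x + q y + q z = 0) :
    ∃ (s : Finset ((F ≃+* F) × (F ≃+* F))) (c : (F ≃+* F) × (F ≃+* F) → F),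
      ∀ x : F, q x = ∑ p ∈ s, c p * (p.1 x * p.2 x) := by
  classical
  let : Algebra (ZMod 2) F := ZMod.algebra F 2
  have : Fact (Nat.Prime 2) := ⟨Nat.prime_two⟩
  have h2 : (2 : F) = 0 := CharP.cast_eq_zero F 2
  have hq0 : q 0 = 0 := by
    have h := hq 0 0 0
    simp only [add_zero] at h
    linear_combination h - 3 * q 0 * h2
  let B : F → F → F := fun x y => q (x + y) + q x + q y
  have hB : ∀ x y z, B (x + y) z = B x z + B y z := fun x y z => by
    simp only [B]
    linear_combination hq x y z - (q (x + z) + q (y + z) + q x + q y + q z) * h2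
  set b := Module.finBasis (ZMod 2) F
  let e : Fin (Module.finrank (ZMod 2) F) → F := b
  let φ : Fin (Module.finrank (ZMod 2) F) → Fin (Module.finrank (ZMod 2) F) → F := fun i j =>
    if i = j then q (e i) else if i < j then B (e i) (e j) else 0
  let Cl : F →ₗ[ZMod 2] F →ₗ[ZMod 2] F := b.constr ℕ fun i => b.constr ℕ (φ i)
  let C : F →+ F →+ F := AddMonoidHom.mk' (fun x => (Cl x).toAddMonoidHom) fun x y => by
    ext z; simp
  obtain ⟨-, -, hbil⟩ := aut_data (F := F)
  obtain ⟨s, c, hc⟩ := hbil C
  refine ⟨s, c, fun x => ?_⟩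
  rw [← hc x x]
  show q x = Cl x x
  -- the difference is additive and vanishes on the basis
  have hCe : ∀ i j, Cl (e i) (e j) = φ i j := fun i j => by simp [Cl, e]
  let P : F →+ F →+ F := AddMonoidHom.mk' (fun x => AddMonoidHom.mk' (fun y => B x y + Cl x y + Cl y x) fun y z => by
      have hsym : ∀ u v, B u v = B v u := fun u v => by simp only [B]; rw [add_comm v u]; ring
      rw [hsym x (y + z), hB, hsym y x, hsym z x]; simp only [map_add, LinearMap.add_apply]; ring) fun x y => by
    ext z; simp only [AddMonoidHom.mk'_apply, AddMonoidHom.add_apply, hB, map_add, LinearMap.add_apply]; ring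
  have hPz : ∀ x y, P x y = 0 := by
    have h1 : ∀ i j, P (e i) (e j) = 0 := fun i j => by
      show B (e i) (e j) + Cl (e i) (e j) + Cl (e j) (e i) = 0
      rw [hCe, hCe]
      simp only [φ]
      rcases lt_trichotomy i j with h | h | h
      · simp [h.ne, h.ne', h, h.not_gt]
        linear_combination B (e i) (e j) * h2
      · subst h
        simp only [if_pos, B, CharTwo.add_self_eq_zero, hq0]
        linear_combination (2 * q (e i)) * h2
      · simp [h.ne, h.ne', h, h.not_gt]
        simp only [B, add_comm (e j) (e i)]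
        linear_combination (q (e i + e j) + q (e i) + q (e j)) * h2
    intro x y
    have h3 : ∀ i, ((P (e i)).toZModLinearMap 2) = 0 := fun i => b.ext fun j => h1 i j
    have h4 : ((P.flip y).toZModLinearMap 2) = 0 := b.ext fun i => DFunLike.congr_fun (h3 i) y
    exact DFunLike.congr_fun h4 x
  let D : F →+ F := AddMonoidHom.mk' (fun x => q x + Cl x x) fun x y => by
    have h := hPz x y
    change B x y + Cl x y + Cl y x = 0 at h
    simp only [B] at h
    simp only [map_add, LinearMap.add_apply]
    linear_combination h - (q x + q y) * h2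
  have hD : D.toZModLinearMap 2 = 0 := b.ext fun i => by
    show q (e i) + Cl (e i) (e i) = 0
    rw [hCe]
    simp only [φ, if_pos]
    linear_combination q (e i) * h2
  have h := DFunLike.congr_fun hD x
  change q x + Cl x x = 0 at h
  linear_combination h - Cl x x * h2

end Cfsg.Lib.RankOne
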