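import Cfsg.Agent.RankOne.Zassenhaus

/-! Doubly transitive groups with a regular normal subgroup and involving fixed pairs. -/

set_option autoImplicit false
set_option linter.unusedSectionVars false

open MulAction
open scoped Pointwise

namespace Cfsg.Lib.RankOne

/-- An automorphism of prime order `r` of a finite field fixing exactly two elements gives `2 ^ r` elements. -/
theorem card_field_auto {F : Type*} [CommRing F] [IsDomain F] [Finite F] (α : F ≃+* F) {r : ℕ} (hr : r.Prime)
    (hord : α ^ r = 1) (hne : α ≠ 1) (hfix : ∀ x, α x = x → x = 0 ∨ x = 1) : Nat.card F = 2 ^ r := by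
  classical
  let : Fintype F := Fintype.ofFinite F
  let : Field F := Fintype.fieldOfDomain F
  have : Fact r.Prime := ⟨hr⟩
  have : Finite (F ≃+* F) := Finite.of_injective (fun e => (e : F → F)) DFunLike.coe_injective
  let : Fintype (Subgroup.zpowers α) := Fintype.ofFinite _
  have hfaith : FaithfulSMul (Subgroup.zpowers α) F :=
    ⟨fun {x y} h => Subtype.ext (RingEquiv.ext fun z => h z)⟩
  have h1 := FixedPoints.finrank_eq_card (Subgroup.zpowers α) F
  rw [← Nat.card_eq_fintype_card, Nat.card_zpowers, orderOf_eq_prime hord hne] at h1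
  have h2 : Nat.card (FixedPoints.subfield (Subgroup.zpowers α) F) = 2 := by
    rw [Nat.card_eq_two_iff]
    refine ⟨0, 1, zero_ne_one, Set.eq_univ_of_forall fun x => ?_⟩
    have := hfix x.1 (x.2 ⟨α, Subgroup.mem_zpowers α⟩)
    rcases this with h | h
    · exact Or.inl (Subtype.ext h)
    · exact Or.inr (Subtype.ext h)
  rw [Module.natCard_eq_pow_finrank (K := FixedPoints.subfield (Subgroup.zpowers α) F), h2, h1]

variable {G Ω : Type*} [Group G] [Finite G] [MulAction G Ω] [Fintype Ω] [FaithfulSMul G Ω]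

theorem regular_card_prime_pow (h2 : IsMultiplyPretransitive G Ω 2)
    (h3 : ∀ g : G, ∀ a b c : Ω, a ≠ b → b ≠ c → a ≠ c → g • a = a → g • b = b → g • c = c → g = 1)
    {g0 : G} (hg0 : g0 ≠ 1) {a b : Ω} (hab : a ≠ b) (hga : g0 • a = a) (hgb : g0 • b = b)
    (N : Subgroup G) (hN : N.Normal) (hNt : IsPretransitive N Ω) (hNr : ∀ a : Ω, stabilizer N a = ⊥) :
    ∃ p : ℕ, p.Prime ∧ Fintype.card Ω = 2 ^ p := by
  classical
  have habN := regular_normal_abelian h2 hN hNr
  have hsemi : ∀ m ∈ N, ∀ p : Ω, m • p = p → m = 1 := fun m hm p hp => by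
    have : (⟨m, hm⟩ : N) ∈ stabilizer N p := hp
    rw [hNr, Subgroup.mem_bot] at this
    exact congrArg Subtype.val this
  have ev : ∀ m ∈ N, ∀ n ∈ N, m • a = n • a → m = n := fun m hm n hn h =>
    (inv_mul_eq_one.1 (hsemi _ (N.mul_mem (N.inv_mem hn) hm) a (by rw [mul_smul, h, inv_smul_smul]))).symm
  -- translation of the action of the point stabiliser
  have tr : ∀ f : G, f • a = a → ∀ n ∈ N, f • n • a = (f * n * f⁻¹) • a := fun f hf n _ => by
    rw [mul_smul, mul_smul, inv_smul_eq_iff.2 hf.symm]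
  have hcardN : Nat.card N = Fintype.card Ω := by
    rw [← Nat.card_eq_fintype_card]
    exact Nat.card_eq_of_bijective (fun n : N => (n : G) • a)
      ⟨fun m n h => Subtype.ext (ev _ m.2 _ n.2 h), fun p => by
        obtain ⟨n, hn⟩ := hNt.exists_smul_eq a p; exact ⟨n, hn⟩⟩
  obtain ⟨n0, hn0⟩ := hNt.exists_smul_eq a b
  have hn0' : (n0 : G) • a = b := hn0
  have hn01 : (n0 : G) ≠ 1 := fun h => hab (by rw [← hn0', h, one_smul])
  have hcom : ∀ f : G, f • a = a → f • b = b → f * n0 * f⁻¹ = n0 := fun f fa fb =>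
    ev _ (hN.conj_mem _ n0.2 f) _ n0.2 (by rw [← tr f fa _ n0.2, hn0', fb])
  have hfix : ∀ f : G, f ≠ 1 → f • a = a → f • b = b → ∀ n ∈ N, f * n * f⁻¹ = n → n = 1 ∨ n = (n0 : G) := by
    intro f f1 fa fb n hn hc
    by_contra hcon
    push Not at hcon
    refine f1 (h3 f a b (n • a) hab (fun h => hcon.2 (ev _ hn _ n0.2 (h.symm.trans hn0'.symm)))
      (fun h => hcon.1 (hsemi n hn a h.symm)) fa fb ?_)
    rw [tr f fa n hn, hc]
  have hn02 : (n0 : G) * n0 = 1 := by
    rcases hfix g0 hg0 hga hgb _ (N.mul_mem n0.2 n0.2)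
      (by rw [show g0 * ((n0 : G) * n0) * g0⁻¹ = (g0 * n0 * g0⁻¹) * (g0 * n0 * g0⁻¹) by group, hcom g0 hga hgb]) with h | h
    · exact h
    · exact absurd (mul_eq_left.1 h) hn01
  -- every element of `N` squares to one
  have hsq : ∀ n ∈ N, n * n = 1 := by
    intro n hn
    rcases eq_or_ne n 1 with rfl | hn1
    · rw [one_mul]
    obtain ⟨f, f1, f2⟩ := is_two_pretransitive_iff.1 h2 hab (show a ≠ n • a from fun h => hn1 (hsemi n hn a h.symm))
    have : f * n0 * f⁻¹ = n := ev _ (hN.conj_mem _ n0.2 f) _ hn (by rw [← tr f f1 _ n0.2, hn0', f2])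
    rw [← this, show f * n0 * f⁻¹ * (f * n0 * f⁻¹) = f * ((n0 : G) * n0) * f⁻¹ by group, hn02]; group
  obtain ⟨r, hr, hrd⟩ := Nat.exists_prime_and_dvd (n := orderOf g0) (fun h => hg0 (orderOf_eq_one_iff.1 h))
  have : Fact r.Prime := ⟨hr⟩
  set g := g0 ^ (orderOf g0 / r)
  have ho : orderOf g = r := orderOf_pow_orderOf_div (orderOf_pos g0).ne' hrd
  have hg1 : g ≠ 1 := fun h => hr.ne_one (by rw [← ho, h, orderOf_one])
  have hpa : g • a = a := MulAction.mem_stabilizer_iff.1 ((stabilizer G a).pow_mem hga _)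
  have hpb : g • b = b := MulAction.mem_stabilizer_iff.1 ((stabilizer G b).pow_mem hgb _)
  have hΩ3 : 3 ≤ Fintype.card Ω := by
    by_contra hlt
    push Not at hlt
    have hu : ({a, b} : Finset Ω) = Finset.univ := Finset.eq_univ_of_card _ (by
      have := Finset.card_le_univ ({a, b} : Finset Ω)
      rw [Finset.card_pair hab] at this ⊢
      omega)
    refine hg0 (eq_of_smul_eq_smul fun p : Ω => ?_)
    have hp : p ∈ ({a, b} : Finset Ω) := hu ▸ Finset.mem_univ p
    simp only [Finset.mem_insert, Finset.mem_singleton] at hp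
    rcases hp with rfl | rfl <;> simp [hga, hgb]
  rcases hr.eq_two_or_odd with rfl | hrodd
  · refine ⟨2, Nat.prime_two, ?_⟩
    have hgg : g * g = 1 := by
      have h := pow_orderOf_eq_one g
      rwa [ho, pow_two] at h
    have hgi := inv_of_sq hgg
    let ψ : N →* N := MonoidHom.mk' (fun n => ⟨n * (g * n * g⁻¹), N.mul_mem n.2 (hN.conj_mem _ n.2 g)⟩) fun m n =>
      Subtype.ext (by
        have h := habN (g * (m : G) * g⁻¹) (hN.conj_mem _ m.2 g) n n.2
        calc (m : G) * n * (g * (m * n) * g⁻¹) = m * (n * (g * m * g⁻¹)) * (g * n * g⁻¹) := by group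
          _ = m * (g * m * g⁻¹ * n) * (g * n * g⁻¹) := by rw [h]
          _ = _ := by simp only [Subgroup.coe_mul, mul_assoc])
    have htwo : ∀ n : N, g * (n : G) * g⁻¹ = n → n = 1 ∨ n = n0 := fun n h =>
      (hfix g hg1 hpa hpb n n.2 h).imp (fun e => Subtype.ext e) fun e => Subtype.ext e
    have hker : Nat.card ψ.ker ≤ 2 := by
      refine le_trans (Nat.card_le_card_of_injective
        (fun n : ψ.ker => (if n.1 = 1 then true else false : Bool)) fun m n h => ?_) (by simp)
      have key : ∀ n : ψ.ker, n.1 = 1 ∨ n.1 = n0 := fun n => by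
        refine htwo n.1 ?_
        have h : (n.1 : G) * (g * n.1 * g⁻¹) = 1 := congrArg Subtype.val n.2
        calc g * (n.1 : G) * g⁻¹ = (n.1 : G)⁻¹ := (eq_inv_of_mul_eq_one_right h)
          _ = n.1 := inv_of_sq (hsq _ n.1.2)
      have hn0ne : n0 ≠ 1 := fun e => hn01 (congrArg Subtype.val e)
      rcases key m with e | e <;> rcases key n with e' | e' <;> simp [e, e', hn0ne] at h <;>
        exact Subtype.ext (e.trans e'.symm)
    have hrange : Nat.card ψ.range ≤ 2 := by
      refine le_trans (Nat.card_le_card_of_injective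
        (fun n : ψ.range => (if n.1 = 1 then true else false : Bool)) fun m n h => ?_) (by simp)
      have key : ∀ n : ψ.range, n.1 = 1 ∨ n.1 = n0 := fun n => by
        refine htwo n.1 ?_
        obtain ⟨k, hk⟩ := n.2
        rw [← hk]
        show g * ((k : G) * (g * k * g⁻¹)) * g⁻¹ = (k : G) * (g * k * g⁻¹)
        rw [show g * ((k : G) * (g * k * g⁻¹)) * g⁻¹ = (g * k * g⁻¹) * ((g * g) * k * (g * g)⁻¹) by group, hgg,
          one_mul, inv_one, mul_one]
        exact habN _ (hN.conj_mem _ k.2 g) _ k.2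
      have hn0ne : n0 ≠ 1 := fun e => hn01 (congrArg Subtype.val e)
      rcases key m with e | e <;> rcases key n with e' | e' <;> simp [e, e', hn0ne] at h <;>
        exact Subtype.ext (e.trans e'.symm)
    have hc := ψ.ker.card_mul_index
    rw [Subgroup.index_ker, hcardN] at hc
    have hle : Fintype.card Ω ≤ 4 := hc ▸ Nat.mul_le_mul hker hrange
    have hev : Even (Fintype.card Ω) := by
      rw [← hcardN, even_iff_two_dvd, ← orderOf_eq_prime (p := 2) (show n0 ^ 2 = 1 from
        Subtype.ext (by rw [SubmonoidClass.coe_pow, pow_two, hn02]; rfl)) (fun e => hn01 (congrArg Subtype.val e))]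
      exact orderOf_dvd_natCard _
    obtain ⟨j, hj⟩ := hev
    show Fintype.card Ω = 2 ^ 2
    norm_num
    omega
  refine ⟨r, hr, ?_⟩
  -- the kernel of the point stabiliser
  set S := stabilizer G a
  let E : Subgroup S := (stabilizer G b).subgroupOf S
  have hSt : ∀ c d : Ω, c ≠ a → d ≠ a → ∃ f : S, (f : G) • c = d := fun c d hc hd => by
    obtain ⟨f, f1, f2⟩ := is_two_pretransitive_iff.1 h2 hc.symm hd.symm
    exact ⟨⟨f, f1⟩, f2⟩
  obtain ⟨c, hca, hcb⟩ : ∃ c, c ≠ a ∧ c ≠ b := by
    by_contra hcon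
    push Not at hcon
    have hsub : (Finset.univ : Finset Ω) ⊆ {a, b} := fun c _ => by
      rcases eq_or_ne c a with h | h
      · simp [h]
      · simp [hcon c h]
    have := Finset.card_le_card hsub
    rw [Finset.card_univ, Finset.card_pair hab] at this
    omega
  have hFC : Cfsg.IsFrobeniusComplement E := by
    refine ⟨fun h => hg1 ?_, fun h => ?_, fun f hf => ?_⟩
    · have : (⟨g, hpa⟩ : S) ∈ E := hpb
      rw [h, Subgroup.mem_bot] at this
      exact congrArg Subtype.val this
    · obtain ⟨f, hf⟩ := hSt b c hab.symm hca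
      have hfm : f ∈ E := h ▸ Subgroup.mem_top f
      exact hcb ((show (f : G) • b = b from hfm) ▸ hf).symm
    · rw [eq_bot_iff]
      intro u hu
      obtain ⟨hu1, hu2⟩ := Subgroup.mem_inf.mp hu
      rw [Subgroup.mem_pointwise_smul_iff_inv_smul_mem] at hu2
      have h3' : ((f : G)⁻¹ * u * f) • b = b := by simpa [E, Subgroup.mem_subgroupOf] using hu2
      rw [mul_smul, mul_smul, inv_smul_eq_iff] at h3'
      have hfb : (f : G) • b ≠ b := fun h => hf h
      have hfa : (f : G) • b ≠ a := fun h => hab (MulAction.injective (f : G) ((show (f : G) • a = a from f.2).trans h.symm))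
      exact Subgroup.mem_bot.2 (Subtype.ext (h3 u a b _ hab hfb.symm hfa.symm u.2 hu1 h3'))
  obtain ⟨K, hK, hKn, hKc⟩ := Cfsg.Lib.Frobenius.exists_kernel hFC
  have hKfree : ∀ k : S, k ∈ K → ∀ d : Ω, d ≠ a → (k : G) • d = d → k = 1 := by
    intro k hk d hd hkd
    rw [← SetLike.mem_coe, hK] at hk
    refine hk.resolve_right fun h => ?_
    obtain ⟨f, hf⟩ := hSt b d hab.symm hd
    refine h f ?_
    rw [Subgroup.mem_pointwise_smul_iff_inv_smul_mem]
    suffices h5 : ((f : G)⁻¹ * k * f) • b = b by simpa [E, Subgroup.mem_subgroupOf] using h5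
    rw [mul_smul, mul_smul, hf, hkd, inv_smul_eq_iff, hf]
  have hKtr : ∀ d, d ≠ a → ∃ k : S, k ∈ K ∧ (k : G) • b = d := by
    intro d hd
    obtain ⟨f, hf⟩ := hSt b d hab.symm hd
    obtain ⟨⟨k, e⟩, hke, -⟩ := Subgroup.isComplement_iff_existsUnique.1 hKc f
    refine ⟨k.1, k.2, ?_⟩
    rw [← hf, ← show k.1 * e.1 = f from hke, Subgroup.coe_mul, mul_smul, show ((e.1 : S) : G) • b = b from e.2]
  set gS : S := ⟨g, hpa⟩
  have hit : ∀ n, ∀ k : S, (fun k : S => gS * k * gS⁻¹)^[n] k = gS ^ n * k * (gS ^ n)⁻¹ := fun n => by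
    induction n with
    | zero => intro k; simp
    | succ n ih => intro k; rw [Function.iterate_succ_apply', ih, pow_succ']; group
  let φ : K →* K := MonoidHom.mk' (fun k => ⟨gS * k * gS⁻¹, hKn.conj_mem _ k.2 gS⟩) fun k l => Subtype.ext (by
    show gS * (↑k * ↑l) * gS⁻¹ = gS * ↑k * gS⁻¹ * (gS * ↑l * gS⁻¹); group)
  have hnilK : Group.IsNilpotent K := by
    refine Cfsg.Lib.Thompson.isNilpotent_of_fpf φ ?_ hr ?_
    · intro k hk
      have h : g * ((k : S) : G) * g⁻¹ = ((k : S) : G) := congrArg (fun z : K => ((z : S) : G)) hk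
      have hfx : g • ((k : S) : G) • b = ((k : S) : G) • b := by
        conv_rhs => rw [← h]
        rw [mul_smul, mul_smul, inv_smul_eq_iff.2 hpb.symm]
      have hka : ((k : S) : G) • b ≠ a := fun e =>
        hab (MulAction.injective ((k : S) : G) ((show ((k : S) : G) • a = a from (k : S).2).trans e.symm))
      by_contra hk1
      refine hg1 (h3 g a b _ hab (fun e => hk1 (Subtype.ext (hKfree _ k.2 b hab.symm e.symm))) hka.symm hpa hpb hfx)
    · funext k
      refine Subtype.ext ?_
      have e : ∀ n, ∀ k : K, ((φ^[n] k : K) : S) = (fun k : S => gS * k * gS⁻¹)^[n] k := fun n => by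
        induction n with
        | zero => intro k; rfl
        | succ n ih => intro k; rw [Function.iterate_succ_apply', Function.iterate_succ_apply', ← ih]; rfl
      rw [e, hit, show gS ^ r = 1 from Subtype.ext (by rw [SubmonoidClass.coe_pow, ← ho]; exact pow_orderOf_eq_one g)]
      simp
  set K' : Subgroup G := K.map S.subtype
  have hfpf : Cfsg.Lib.Frobenius.Fpf K' N := by
    rintro _ ⟨k, hk, rfl⟩ hk1
    rw [Subgroup.eq_bot_iff_forall]
    intro n hn
    obtain ⟨hnN, hnc⟩ := Subgroup.mem_inf.1 hn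
    by_contra hn1
    refine hk1 (congrArg Subtype.val (hKfree k hk (n • a) (fun e => hn1 (hsemi n hnN a e)) ?_) : (k : G) = 1)
    have hc : (k : G) * n = n * k := (Subgroup.mem_centralizer_singleton_iff.1 hnc).symm
    show (k : G) • n • a = n • a
    rw [← mul_smul, hc, mul_smul, show (k : G) • a = a from k.2]
  have hKN : K' ≤ Subgroup.normalizer (N : Set G) := by rw [Subgroup.normalizer_eq_top_iff.2 hN]; exact le_top
  have hNne : N ≠ ⊥ := fun h => hn01 (Subgroup.mem_bot.1 (h ▸ n0.2))
  have hcardK : Nat.card K' + 1 = Fintype.card Ω := by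
    rw [Subgroup.card_map_of_injective S.subtype_injective, ← Nat.card_eq_fintype_card,
      ← Finite.card_option (α := K)]
    refine Nat.card_eq_of_bijective (fun o : Option K => match o with
      | none => a
      | some k => ((k : S) : G) • b) ⟨fun u v h => ?_, fun p => ?_⟩
    · have hne : ∀ k : K, ((k : S) : G) • b ≠ a := fun k e =>
        hab (MulAction.injective ((k : S) : G) ((show ((k : S) : G) • a = a from (k : S).2).trans e.symm))
      rcases u with _ | u <;> rcases v with _ | v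
      · rfl
      · exact absurd h.symm (hne v)
      · exact absurd h (hne u)
      · refine congrArg some ?_
        have h' : ((u : S) : G) • b = ((v : S) : G) • b := h
        have h5 := hKfree _ (K.mul_mem (K.inv_mem v.2) u.2) b hab.symm
          (show (((v : S) : G)⁻¹ * ((u : S) : G)) • b = b by rw [mul_smul, h', inv_smul_smul])
        exact (Subtype.ext (inv_mul_eq_one.1 h5)).symm
    · rcases eq_or_ne p a with h | h
      · exact ⟨none, h.symm⟩
      · obtain ⟨k, hk, e⟩ := hKtr p h
        exact ⟨some ⟨k, hk⟩, e⟩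
  have hKodd : Odd (Nat.card K') := by
    have hev : Even (Fintype.card Ω) := by
      rw [← hcardN, even_iff_two_dvd, ← orderOf_eq_prime (p := 2) (show n0 ^ 2 = 1 from
        Subtype.ext (by rw [SubmonoidClass.coe_pow, pow_two, hn02]; rfl)) (fun e => hn01 (congrArg Subtype.val e))]
      exact orderOf_dvd_natCard _
    rw [← hcardK] at hev
    exact Nat.not_even_iff_odd.1 fun h => Nat.not_even_iff_odd.2 h.add_one hev
  have hK'cyc : IsCyclic K' := by
    have : Group.IsNilpotent K' := Group.nilpotent_of_mulEquiv (K.equivMapOfInjective S.subtype S.subtype_injective)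
    have hZG : IsZGroup K' := by
      refine ⟨fun p hp P => ?_⟩
      have := Fact.mk hp
      let A : Subgroup G := (P : Subgroup K').map K'.subtype
      have hAK : A ≤ K' := Subgroup.map_subtype_le _
      rcases (hfpf.mono hAK).isCyclic_or_quaternion (hAK.trans hKN) hNne (P.2.map K'.subtype) with h' | ⟨rfl, n, ⟨eq⟩⟩
      · exact ((P : Subgroup K').equivMapOfInjective K'.subtype K'.subtype_injective).symm.isCyclic.mp h'
      · exfalso
        have hd : Nat.card A ∣ Nat.card K' := Subgroup.card_dvd_of_le hAK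
        rw [Nat.card_congr eq.toEquiv, Nat.card_eq_fintype_card, QuaternionGroup.card] at hd
        exact Nat.not_even_iff_odd.mpr hKodd (even_iff_two_dvd.mpr ((Dvd.intro _ rfl : 2 ∣ 2 * (2 * 2 ^ n)).trans (by
          rw [← mul_assoc]; exact hd)))
    infer_instance
  obtain ⟨⟨k, hk⟩, hgen⟩ := hK'cyc.exists_generator
  -- the ring generated by the generator
  let : CommGroup N := { (inferInstance : Group N) with mul_comm := fun x y => Subtype.ext (habN _ x.2 _ y.2) }
  let cj : G → AddMonoid.End (Additive N) := fun f =>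
    { toFun := fun x => Additive.ofMul ⟨f * (Additive.toMul x : N) * f⁻¹, hN.conj_mem _ (Additive.toMul x).2 f⟩
      map_zero' := congrArg Additive.ofMul (Subtype.ext (by
        show f * ((1 : N) : G) * f⁻¹ = 1; simp))
      map_add' := fun x y => congrArg Additive.ofMul (Subtype.ext (by
        show f * ((Additive.toMul (x + y) : N) : G) * f⁻¹ = (f * ((Additive.toMul x : N) : G) * f⁻¹) * (f * ((Additive.toMul y : N) : G) * f⁻¹)
        rw [toMul_add, Subgroup.coe_mul]; group)) }
  have cj_mul : ∀ f h, cj (f * h) = cj f * cj h := fun f h => AddMonoidHom.ext fun x => congrArg Additive.ofMul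
    (Subtype.ext (by show f * h * _ * (f * h)⁻¹ = f * (h * _ * h⁻¹) * f⁻¹; group))
  let CJ : G →* AddMonoid.End (Additive N) :=
    { toFun := cj, map_mul' := cj_mul
      map_one' := AddMonoidHom.ext fun x => congrArg Additive.ofMul (Subtype.ext (by
        show 1 * ((Additive.toMul x : N) : G) * (1 : G)⁻¹ = ((Additive.toMul x : N) : G); simp)) }
  let R : Subring (AddMonoid.End (Additive N)) := Subring.closure {CJ k}
  let : CommRing R := Subring.closureCommRingOfComm (by
    intro x hx y hy; rw [Set.mem_singleton_iff.1 hx, Set.mem_singleton_iff.1 hy])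
  have hσ : CJ k ∈ R := Subring.subset_closure rfl
  have hpow : ∀ f ∈ K', CJ f ∈ R := fun f hf => by
    obtain ⟨i, hi⟩ := (mem_zpowers_iff_mem_range_orderOf (x := (⟨k, hk⟩ : K'))).1 (hgen ⟨f, hf⟩) |> Finset.mem_image.1
    rw [← show k ^ i = f from congrArg Subtype.val hi.2, map_pow]
    exact R.pow_mem hσ i
  let v0 : (Additive N) := Additive.ofMul n0
  have hv0 : v0 ≠ 0 := fun h => hn01 (congrArg (fun x : Additive N => ((Additive.toMul x : N) : G)) h)
  have horb : ∀ x : (Additive N), x ≠ 0 → ∃ f ∈ K', CJ f v0 = x := by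
    intro x hx
    have hne : ((Additive.toMul x : N) : G) • a ≠ a := fun h => hx (by
      have : (Additive.toMul x : N) = 1 := Subtype.ext (hsemi _ (Additive.toMul x).2 a h)
      exact this)
    obtain ⟨f, hf, e⟩ := hKtr _ hne
    refine ⟨_, ⟨f, hf, rfl⟩, ?_⟩
    show Additive.ofMul (⟨(f : G) * n0 * (f : G)⁻¹, _⟩ : N) = x
    refine congrArg Additive.ofMul (Subtype.ext (ev _ (hN.conj_mem _ n0.2 _) _ (Additive.toMul x).2 ?_))
    rw [← tr _ f.2 _ n0.2, hn0', e]
    rfl
  let evl : R → (Additive N) := fun φ => (φ : AddMonoid.End (Additive N)) v0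
  have hcm : ∀ (φ : AddMonoid.End (Additive N)), φ ∈ R → ∀ (ψ : AddMonoid.End (Additive N)), ψ ∈ R →
      ∀ x : Additive N, φ (ψ x) = ψ (φ x) := fun φ hφ ψ hψ x =>
    DFunLike.congr_fun (congrArg Subtype.val (mul_comm (⟨φ, hφ⟩ : R) ⟨ψ, hψ⟩)) x
  have hinj : ∀ φ : R, evl φ = 0 → φ = 0 := fun φ h => Subtype.ext (AddMonoidHom.ext fun x => by
    rcases eq_or_ne x 0 with rfl | hx
    · exact map_zero _
    · obtain ⟨f, hf, rfl⟩ := horb x hx
      exact (hcm _ φ.2 _ (hpow f hf) v0).trans ((congrArg (fun z => CJ f z) h).trans (map_zero _)))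
  have hevi : Function.Injective evl := fun φ ψ h => sub_eq_zero.1 (hinj _ (by
    show (φ : AddMonoid.End (Additive N)) v0 - (ψ : AddMonoid.End (Additive N)) v0 = 0
    exact sub_eq_zero.2 h))
  have hevs : Function.Surjective evl := fun x => by
    rcases eq_or_ne x 0 with rfl | hx
    · exact ⟨0, rfl⟩
    · obtain ⟨f, hf, e⟩ := horb x hx
      exact ⟨⟨CJ f, hpow f hf⟩, e⟩
  have : Finite (Additive N) := inferInstanceAs (Finite N)
  have : Finite R := Finite.of_injective evl hevi
  have : Nontrivial R := ⟨⟨0, 1, fun h => hv0 (congrArg evl h).symm⟩⟩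
  have : NoZeroDivisors R := ⟨fun {φ ψ} h => or_iff_not_imp_left.2 fun hφ => by
    by_contra hψ
    have hψv : evl ψ ≠ 0 := fun e => hψ (hinj _ e)
    refine hφ (hinj _ ?_)
    obtain ⟨f, hf, e⟩ := horb _ hψv
    have h0 : (φ : AddMonoid.End (Additive N)) (evl ψ) = 0 := congrArg (fun z : R => (z : AddMonoid.End (Additive N)) v0) h
    rw [← e, hcm _ φ.2 _ (hpow f hf)] at h0
    have h2 := congrArg (CJ f⁻¹) h0
    have h3 : (CJ f⁻¹ * CJ f) ((φ : AddMonoid.End (Additive N)) v0) = 0 := h2.trans (map_zero _)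
    rw [← map_mul, inv_mul_cancel, map_one] at h3
    exact h3⟩
  have : IsDomain R := NoZeroDivisors.to_isDomain R
  -- conjugation by the element of prime order
  have hgK : ∀ f ∈ K', g * f * g⁻¹ ∈ K' := by
    rintro _ ⟨f, hf, rfl⟩
    exact ⟨gS * f * gS⁻¹, hKn.conj_mem _ hf gS, rfl⟩
  have hgmap : ∀ φ ∈ R, CJ g * φ * CJ g⁻¹ ∈ R := by
    intro φ hφ
    induction hφ using Subring.closure_induction with
    | mem x hx => rw [Set.mem_singleton_iff.1 hx, ← map_mul, ← map_mul]; exact hpow _ (hgK k hk)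
    | zero => simp
    | one => rw [mul_one, ← map_mul, mul_inv_cancel, map_one]; exact R.one_mem
    | add x y _ _ hx hy => rw [mul_add, add_mul]; exact R.add_mem hx hy
    | neg x _ hx =>
      have e : CJ g * -x * CJ g⁻¹ = -(CJ g * x * CJ g⁻¹) :=
        AddMonoidHom.ext fun y => map_neg (CJ g) (x (CJ g⁻¹ y))
      rw [e]; exact R.neg_mem hx
    | mul x y _ _ hx hy =>
      have e : CJ g⁻¹ * CJ g = 1 := by rw [← map_mul, inv_mul_cancel, map_one]
      rw [show CJ g * (x * y) * CJ g⁻¹ = CJ g * x * (CJ g⁻¹ * CJ g) * y * CJ g⁻¹ by rw [e, mul_one]; simp only [mul_assoc]]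
      simpa only [mul_assoc] using R.mul_mem hx hy
  have e1 : CJ g⁻¹ * CJ g = 1 := by rw [← map_mul, inv_mul_cancel, map_one]
  let α0 : R →+* R :=
    { toFun := fun φ => ⟨CJ g * φ * CJ g⁻¹, hgmap φ φ.2⟩
      map_zero' := Subtype.ext (by show CJ g * 0 * CJ g⁻¹ = 0; simp)
      map_one' := Subtype.ext (by show CJ g * 1 * CJ g⁻¹ = 1; rw [mul_one, ← map_mul, mul_inv_cancel, map_one])
      map_add' := fun x y => Subtype.ext (by
        show CJ g * ((x : AddMonoid.End (Additive N)) + y) * CJ g⁻¹ = _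
        rw [mul_add, add_mul]; rfl)
      map_mul' := fun x y => Subtype.ext (by
        show CJ g * ((x : AddMonoid.End (Additive N)) * y) * CJ g⁻¹ = (CJ g * x * CJ g⁻¹) * (CJ g * y * CJ g⁻¹)
        rw [show CJ g * (x : AddMonoid.End (Additive N)) * CJ g⁻¹ * (CJ g * y * CJ g⁻¹) = CJ g * x * (CJ g⁻¹ * CJ g) * y * CJ g⁻¹ by
          simp only [mul_assoc], e1, mul_one]
        simp only [mul_assoc]) }
  have hα0i : Function.Injective α0 := fun x y h => by
    refine Subtype.ext ?_
    have h' : CJ g * (x : AddMonoid.End (Additive N)) * CJ g⁻¹ = CJ g * y * CJ g⁻¹ := congrArg Subtype.val h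
    have h'' := congrArg (fun z => CJ g⁻¹ * z * CJ g) h'
    have h4 : ∀ z, CJ g⁻¹ * (CJ g * z * CJ g⁻¹) * CJ g = z := fun z => by
      calc CJ g⁻¹ * (CJ g * z * CJ g⁻¹) * CJ g = (CJ g⁻¹ * CJ g) * z * (CJ g⁻¹ * CJ g) := by simp only [mul_assoc]
        _ = z := by rw [e1, one_mul, mul_one]
    simp only [h4] at h''
    exact h''
  let α : R ≃+* R := RingEquiv.ofBijective α0 (Finite.injective_iff_bijective.1 hα0i)
  have hαn : ∀ n, ∀ x : R, (((α ^ n) x : R) : AddMonoid.End (Additive N)) = CJ (g ^ n) * x * CJ (g ^ n)⁻¹ := fun n => by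
    induction n with
    | zero => intro x; simp
    | succ n ih =>
      intro x
      rw [pow_succ', show ((α * α ^ n) x : R) = α ((α ^ n) x) from rfl,
        show ((α ((α ^ n) x) : R) : AddMonoid.End (Additive N)) = CJ g * ((α ^ n) x : R) * CJ g⁻¹ from rfl, ih, pow_succ',
        map_mul, mul_inv_rev, map_mul]
      simp only [mul_assoc]
  have hgv : ∀ f : G, f • a = a → f • b = b → CJ f v0 = v0 := fun f fa fb =>
    congrArg Additive.ofMul (Subtype.ext (hcom f fa fb))
  have hαev : ∀ x : R, evl (α x) = CJ g (evl x) := fun x => by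
    show CJ g ((x : AddMonoid.End (Additive N)) (CJ g⁻¹ v0)) = _
    rw [hgv g⁻¹ (inv_smul_eq_iff.2 hpa.symm) (inv_smul_eq_iff.2 hpb.symm)]
  have hres := card_field_auto α hr (RingEquiv.ext fun x => Subtype.ext (by
      rw [hαn, ← ho, pow_orderOf_eq_one]; simp))
    (fun h => hg1 (eq_of_smul_eq_smul fun p : Ω => by
      obtain ⟨n, hn⟩ := hNt.exists_smul_eq a p
      obtain ⟨x, hx⟩ := hevs (Additive.ofMul n)
      have h5 := hαev x
      rw [h, RingAut.one_apply, hx] at h5
      have h6 : g * (n : G) * g⁻¹ = n := (congrArg (fun z : Additive N => ((Additive.toMul z : N) : G)) h5).symm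
      have hn' : (n : G) • a = p := hn
      rw [one_smul, ← hn', tr g hpa _ n.2, h6]))
    (fun x hx => by
      have h5 := hαev x
      rw [hx] at h5
      have h6 : g * ((Additive.toMul (evl x) : N) : G) * g⁻¹ = ((Additive.toMul (evl x) : N) : G) :=
        (congrArg (fun z : Additive N => ((Additive.toMul z : N) : G)) h5).symm
      rcases hfix g hg1 hpa hpb _ (Additive.toMul (evl x)).2 h6 with h7 | h7
      · exact Or.inl (hinj x (Additive.toMul.injective (Subtype.ext h7)))
      · exact Or.inr (hevi (Additive.toMul.injective (Subtype.ext h7))))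
  rw [← hcardN, ← hres]
  exact (Nat.card_eq_of_bijective evl ⟨hevi, hevs⟩).symm

end Cfsg.Lib.RankOne
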