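import Cfsg.Agent.RankOne.StabOrder
import Cfsg.Agent.RankOne.RegularNormal
import Mathlib

/-! Transitive groups of degree `p + 1` with a normal subgroup of order `p` in a point stabiliser. -/

set_option autoImplicit false
set_option linter.unusedSectionVars false

open MulAction

namespace Cfsg.Lib.RankOne

variable {G Ω : Type*} [Group G] [Finite G] [MulAction G Ω] [Fintype Ω]

/-- The data of a group of degree `p + 1` whose point stabiliser has a normal subgroup `P` of
prime order `p`. -/
structure PrimeKernel (p : ℕ) (a : Ω) (P : Subgroup G) : Prop where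
  prime : p.Prime
  card_pts : Fintype.card Ω = p + 1
  card_P : Nat.card P = p
  le : P ≤ stabilizer G a
  normal : ∀ g ∈ stabilizer G a, ∀ u ∈ P, g * u * g⁻¹ ∈ P
  fix : ∀ u ∈ P, u ≠ 1 → ∀ c : Ω, u • c = c → c = a
  trans : IsPretransitive G Ω
  faithful : FaithfulSMul G Ω

theorem primeKernel_of_card [FaithfulSMul G Ω] (htr : IsPretransitive G Ω) {p d : ℕ} (hp : p.Prime)
    (hΩ : Fintype.card Ω = p + 1) (hG : Nat.card G = (p + 1) * p * d) (hd : d < p) (a : Ω) :
    ∃ P : Subgroup G, PrimeKernel p a P ∧ Nat.card (stabilizer G a) = p * d := by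
  classical
  have := Fact.mk hp
  have hStab : Nat.card (stabilizer G a) = p * d := by
    have h1 := (stabilizer G a).index_mul_card
    rw [MulAction.index_stabilizer_of_transitive G a, Nat.card_eq_fintype_card (α := Ω), hΩ, hG, mul_assoc] at h1
    exact Nat.eq_of_mul_eq_mul_left (Nat.succ_pos p) h1
  have hd0 : 0 < d := by
    rcases Nat.eq_zero_or_pos d with rfl | h
    · rw [mul_zero] at hG; have := Nat.card_pos (α := G); omega
    · exact h
  obtain ⟨Q⟩ : Nonempty (Sylow p (stabilizer G a)) := inferInstance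
  have hpd : ¬ p ∣ d := fun h => by have := Nat.le_of_dvd hd0 h; omega
  have hQcard : Nat.card (Q : Subgroup (stabilizer G a)) = p := by
    rw [Q.card_eq_multiplicity, hStab, Nat.factorization_mul hp.ne_zero hd0.ne', Finsupp.add_apply,
      hp.factorization_self, Nat.factorization_eq_zero_of_not_dvd hpd, pow_one]
  have hn : Nat.card (Sylow p (stabilizer G a)) = 1 := by
    have h1 : Nat.card (Sylow p (stabilizer G a)) ∣ d := by
      have h2 := Q.card_dvd_index
      have h3 := (Q : Subgroup (stabilizer G a)).card_mul_index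
      rw [hQcard, hStab] at h3
      rwa [Nat.eq_of_mul_eq_mul_left hp.pos h3] at h2
    have h2 := Nat.le_of_dvd hd0 h1
    have h3 := card_sylow_modEq_one p (stabilizer G a)
    rw [Nat.ModEq, Nat.mod_eq_of_lt (by omega), Nat.mod_eq_of_lt hp.one_lt] at h3
    exact h3
  have : Subsingleton (Sylow p (stabilizer G a)) := (Nat.card_eq_one_iff_unique.1 hn).1
  have hQn : (Q : Subgroup (stabilizer G a)).Normal := Q.normal_of_subsingleton
  set P : Subgroup G := (Q : Subgroup (stabilizer G a)).map (stabilizer G a).subtype with hP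
  have hPle : P ≤ stabilizer G a := Subgroup.map_subtype_le _
  have hPcard : Nat.card P = p := by
    rw [← hQcard]
    exact (Nat.card_congr (Subgroup.equivMapOfInjective _ _ (stabilizer G a).subtype_injective).toEquiv).symm
  refine ⟨P, ⟨hp, hΩ, hPcard, hPle, ?_, ?_, htr, inferInstance⟩, hStab⟩
  · rintro g hg _ ⟨u, hu, rfl⟩
    exact ⟨_, hQn.conj_mem u hu ⟨g, hg⟩, rfl⟩
  · intro u hu hu1 c hc
    by_contra hca
    -- the elements of `P` then fix at least two points, so all
    have hgen : Subgroup.zpowers u = P := by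
      refine Subgroup.eq_of_le_of_card_ge (Subgroup.zpowers_le.2 hu) ?_
      rw [hPcard, Nat.card_zpowers]
      have h1 := orderOf_dvd_natCard (⟨u, hu⟩ : P)
      rw [← Subgroup.orderOf_coe, hPcard] at h1
      rcases (Nat.dvd_prime hp).1 h1 with h | h
      · exact absurd (orderOf_eq_one_iff.1 h) hu1
      · exact h.ge
    have hPp : IsPGroup p P := IsPGroup.of_card (n := 1) (by rw [hPcard, pow_one])
    have hmod := hPp.card_modEq_card_fixedPoints Ω
    have hall : ∀ q : Ω, (∀ g : P, (g : G) • q = q) ↔ u • q = q := fun q => by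
      refine ⟨fun h => h ⟨u, hu⟩, fun h g => ?_⟩
      have hg : (g : G) ∈ Subgroup.zpowers u := hgen.symm ▸ g.2
      obtain ⟨i, hi⟩ := Subgroup.mem_zpowers_iff.1 hg
      show (g : G) • q = q
      rw [← hi]
      exact mem_stabilizer_iff.1 (Subgroup.zpow_mem _ (mem_stabilizer_iff.2 h) i)
    have h2 : 2 ≤ Nat.card (fixedPoints P Ω) := by
      rw [Nat.succ_le_iff, Finite.one_lt_card_iff_nontrivial]
      exact ⟨⟨a, fun g => hPle g.2⟩, ⟨c, (hall c).2 hc⟩, fun h => hca (congrArg Subtype.val h).symm⟩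
    have h3 : Nat.card (fixedPoints P Ω) ≤ p + 1 := by
      rw [← hΩ, ← Nat.card_eq_fintype_card]
      exact Finite.card_subtype_le _
    rw [Nat.card_eq_fintype_card (α := Ω), hΩ] at hmod
    rcases Nat.lt_or_ge (Nat.card (fixedPoints P Ω)) (p + 1) with h4 | h4
    · have h5 : (p + 1) % p = 1 := by rw [Nat.add_mod_left, Nat.mod_eq_of_lt hp.one_lt]
      rw [Nat.ModEq, h5] at hmod
      rcases Nat.lt_or_ge (Nat.card (fixedPoints P Ω)) p with h6 | h6
      · rw [Nat.mod_eq_of_lt h6] at hmod; omega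
      · rw [show Nat.card (fixedPoints P Ω) = p by omega, Nat.mod_self] at hmod; omega
    · apply hu1
      have huniv : ∀ q : Ω, q ∈ fixedPoints P Ω := by
        intro q
        by_contra hq
        have h7 : Nat.card (fixedPoints P Ω) < Nat.card Ω :=
          Finite.card_subtype_lt (p := fun q => q ∈ fixedPoints P Ω) hq
        rw [Nat.card_eq_fintype_card (α := Ω), hΩ] at h7
        omega
      exact eq_of_smul_eq_smul fun q : Ω => ((huniv q) ⟨u, hu⟩).trans (one_smul G q).symm

variable {p : ℕ} {a b : Ω} {P : Subgroup G} (hK : PrimeKernel p a P)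
include hK

theorem PrimeKernel.exists_map {c d : Ω} (hc : c ≠ a) (hd : d ≠ a) : ∃ u ∈ P, u • c = d :=
  Cfsg.Lib.OddChar.Zassenhaus.exists_kernel_map hK.le (by rw [hK.card_P, hK.card_pts]) hK.fix hc hd

theorem PrimeKernel.two_trans : IsMultiplyPretransitive G Ω 2 := by
  have := hK.trans
  rw [MulAction.is_two_pretransitive_iff]
  intro x y z w hxy hzw
  obtain ⟨g, hg⟩ := exists_smul_eq G x a
  obtain ⟨k, hk⟩ := exists_smul_eq G z a
  obtain ⟨u, hu, hu'⟩ := hK.exists_map (c := g • y) (d := k • w)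
    (fun h => hxy (smul_left_cancel g (hg.trans h.symm))) (fun h => hzw (smul_left_cancel k (hk.trans h.symm)))
  exact ⟨k⁻¹ * (u * g), by rw [mul_smul, mul_smul, hg, show u • a = a from hK.le hu, inv_smul_eq_iff, hk],
    by rw [mul_smul, mul_smul, hu', inv_smul_smul]⟩

/-- Every subgroup of `P` is trivial or `P`. -/
theorem PrimeKernel.zpowers_eq {u : G} (hu : u ∈ P) (hu1 : u ≠ 1) : Subgroup.zpowers u = P := by
  refine Subgroup.eq_of_le_of_card_ge (Subgroup.zpowers_le.2 hu) ?_
  rw [hK.card_P, Nat.card_zpowers]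
  have h1 := orderOf_dvd_natCard (⟨u, hu⟩ : P)
  rw [← Subgroup.orderOf_coe, hK.card_P] at h1
  rcases (Nat.dvd_prime hK.prime).1 h1 with h | h
  · exact absurd (orderOf_eq_one_iff.1 h) hu1
  · exact h.ge

/-- An element fixing two points and commuting with a non-trivial element of `P` is trivial. -/
theorem PrimeKernel.eq_one_of_commute (hb : b ≠ a) {g : G} (hga : g • a = a) (hgb : g • b = b)
    {u : G} (hu : u ∈ P) (hu1 : u ≠ 1) (hc : g * u = u * g) : g = 1 := by
  have := hK.faithful
  refine eq_of_smul_eq_smul fun q : Ω => ?_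
  rw [one_smul]
  rcases eq_or_ne q a with rfl | hq
  · exact hga
  obtain ⟨v, hv, rfl⟩ := hK.exists_map hb hq
  rw [← hK.zpowers_eq hu hu1, Subgroup.mem_zpowers_iff] at hv
  obtain ⟨i, rfl⟩ := hv
  rw [← mul_smul, (Commute.zpow_right hc i).eq, mul_smul, hgb]

/-- No non-trivial element fixes three points. -/
theorem PrimeKernel.three (hb : b ≠ a) {g : G} {c : Ω} (hca : c ≠ a) (hcb : c ≠ b)
    (hga : g • a = a) (hgb : g • b = b) (hgc : g • c = c) : g = 1 := by
  obtain ⟨u, hu, rfl⟩ := hK.exists_map hb hca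
  have hu1 : u ≠ 1 := fun h => hcb (by rw [h, one_smul])
  refine hK.eq_one_of_commute hb hga hgb hu hu1 ?_
  have hv := hK.normal g hga u hu
  have h1 : (u⁻¹ * (g * u * g⁻¹)) • b = b := by
    rw [mul_smul, mul_smul, mul_smul, show g⁻¹ • b = b from inv_smul_eq_iff.2 hgb.symm, hgc, inv_smul_smul]
  by_contra hne
  refine hb (hK.fix _ (mul_mem (inv_mem hu) hv) (fun h => hne ?_) b h1)
  rw [inv_mul_eq_one] at h
  nth_rewrite 2 [h]
  group

end Cfsg.Lib.RankOne
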