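import Cfsg.Prelude.Def_Perm
import Cfsg.Agent.RankOne.PrimeKernel
import Mathlib

/-! Groups of degree `p + 1` with a regular normal subgroup are semi-affine. -/

set_option autoImplicit false
set_option linter.unusedSectionVars false
set_option linter.style.haveILetI false
set_option linter.deprecated false

open MulAction

namespace Cfsg.Lib.RankOne

theorem card_ringAut_dvd {F : Type*} [Field F] [Finite F] {q : ℕ} (hF : Nat.card F = 2 ^ q) :
    Nat.card (F ≃+* F) ∣ q := by
  have : Finite (F ≃+* F) := Finite.of_injective (fun e => (e : F → F)) DFunLike.coe_injective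
  let : Fintype (F ≃+* F) := Fintype.ofFinite _
  have hfaith : FaithfulSMul (F ≃+* F) F := ⟨fun {x y} h => RingEquiv.ext fun z => h z⟩
  have h1 := FixedPoints.finrank_eq_card (F ≃+* F) F
  set K := FixedPoints.subfield (F ≃+* F) F
  have h2 := Module.natCard_eq_pow_finrank (K := K) (V := F)
  rw [hF, h1, ← Nat.card_eq_fintype_card] at h2
  obtain ⟨m, -, hm⟩ := (Nat.dvd_prime_pow Nat.prime_two).1
    (show Nat.card K ∣ 2 ^ q from h2 ▸ dvd_pow_self _ Nat.card_pos.ne')
  rw [hm, ← pow_mul] at h2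
  exact Dvd.intro_left m (Nat.pow_right_injective le_rfl h2).symm

variable {G Ω : Type*} [Group G] [Finite G] [MulAction G Ω] [Fintype Ω]
variable {p : ℕ} {a b : Ω} {P : Subgroup G}

theorem PrimeKernel.affine (hK : PrimeKernel p a P) (hb : b ≠ a) (hp2 : p ≠ 2) (N : Subgroup G) (hN : N.Normal)
    (hNc : Nat.card N = p + 1) (hNf : ∀ n ∈ N, n • a = a → n = 1) :
    ∃ q : ℕ, q.Prime ∧ p + 1 = 2 ^ q ∧ Nat.card (stabilizer G a ⊓ stabilizer G b : Subgroup G) ∣ q ∧
      ∃ e : Ω ≃ GaloisField 2 q, ∀ g : G,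
        (e.symm.trans ((MulAction.toPerm g : Equiv.Perm Ω).trans e)) ∈ Cfsg.semiaffineGroup (GaloisField 2 q) := by
  classical
  have := Fact.mk hK.prime
  have := hK.faithful
  have hev : ∀ m ∈ N, ∀ n ∈ N, m • a = n • a → m = n := fun m hm n hn h =>
    (inv_mul_eq_one.1 (hNf _ (N.mul_mem (N.inv_mem hn) hm) (by rw [mul_smul, h, inv_smul_smul]))).symm
  have hNbij : Function.Bijective fun n : N => (n : G) • a :=
    Function.Injective.bijective_of_nat_card_le (fun m n h => Subtype.ext (hev _ m.2 _ n.2 h))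
      (by rw [Nat.card_eq_fintype_card, hK.card_pts, hNc])
  have tr : ∀ f : G, f • a = a → ∀ n : G, f • n • a = (f * n * f⁻¹) • a := fun f hf n => by
    rw [mul_smul, mul_smul, inv_smul_eq_iff.2 hf.symm]
  have hPtr : ∀ m ∈ N, m ≠ 1 → ∀ n ∈ N, n ≠ 1 → ∃ t ∈ P, t * m * t⁻¹ = n := by
    intro m hm hm1 n hn hn1
    obtain ⟨t, ht, h⟩ := hK.exists_map (c := m • a) (d := n • a) (fun h => hm1 (hNf m hm h))
      (fun h => hn1 (hNf n hn h))
    exact ⟨t, ht, hev _ (hN.conj_mem m hm t) _ hn (by rw [← tr t (hK.le ht), h])⟩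
  -- `N` has exponent two
  have hpodd : Odd p := hK.prime.odd_of_ne_two hp2
  have hsq : ∀ n ∈ N, n * n = 1 := by
    have := Fact.mk Nat.prime_two
    obtain ⟨m, hm⟩ := exists_prime_orderOf_dvd_card' (G := N) 2 (by rw [hNc]; exact even_iff_two_dvd.1 hpodd.add_one)
    intro n hn
    rcases eq_or_ne n 1 with rfl | hn1
    · rw [one_mul]
    have hm1 : (m : G) ≠ 1 := fun h => by
      rw [← Subgroup.orderOf_coe, h, orderOf_one] at hm; omega
    obtain ⟨t, -, rfl⟩ := hPtr m m.2 hm1 n hn hn1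
    have hmm : (m : G) * m = 1 := by rw [← sq, ← hm, ← Subgroup.orderOf_coe, pow_orderOf_eq_one]
    calc t * (m : G) * t⁻¹ * (t * m * t⁻¹) = t * ((m : G) * m) * t⁻¹ := by group
      _ = 1 := by simp [hmm]
  have hcomm : ∀ x y : N, x * y = y * x := fun x y => by
    have hi : ∀ u : N, u⁻¹ = u := fun u => inv_eq_of_mul_eq_one_right (Subtype.ext (hsq u u.2))
    calc x * y = (x * y)⁻¹ := (hi _).symm
      _ = y⁻¹ * x⁻¹ := mul_inv_rev x y
      _ = y * x := by rw [hi, hi]
  obtain ⟨q, hq⟩ : ∃ q, p + 1 = 2 ^ q := by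
    have : Fact (Nat.Prime 2) := ⟨Nat.prime_two⟩
    have h2 : IsPGroup 2 N := fun n => ⟨1, by rw [pow_one, sq]; exact Subtype.ext (hsq n n.2)⟩
    obtain ⟨q, hq⟩ := IsPGroup.iff_card.1 h2
    exact ⟨q, hNc ▸ hq⟩
  have hp3 : 3 ≤ p := by have := hK.prime.two_le; omega
  have hq1 : q ≠ 1 := by rintro rfl; omega
  have hqp : q.Prime := (Nat.prime_of_pow_sub_one_prime hq1 (by rw [← hq, Nat.add_sub_cancel]; exact hK.prime)).2
  -- the action on `N`
  letI : CommGroup N := { (inferInstance : Group N) with mul_comm := hcomm }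
  let A : G → AddMonoid.End (Additive N) := fun g =>
    { toFun := fun x => Additive.ofMul ⟨g * (Additive.toMul x : N) * g⁻¹, hN.conj_mem _ (Additive.toMul x).2 g⟩
      map_zero' := Additive.toMul.injective (Subtype.ext (by simp))
      map_add' := fun x y => Additive.toMul.injective (Subtype.ext (by simp [mul_assoc])) }
  have hA : ∀ (g : G) (x : Additive N), ((Additive.toMul (A g x) : N) : G) = g * (Additive.toMul x : N) * g⁻¹ :=
    fun g x => rfl
  have hAmul : ∀ g k : G, A (g * k) = A g * A k := fun g k => AddMonoidHom.ext fun x =>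
    Additive.toMul.injective (Subtype.ext (by
      show g * k * _ * (g * k)⁻¹ = g * (k * _ * k⁻¹) * g⁻¹
      group))
  have hA1 : A 1 = 1 := AddMonoidHom.ext fun x => Additive.toMul.injective (Subtype.ext (by
    show 1 * _ * (1 : G)⁻¹ = _
    rw [one_mul, inv_one, mul_one]; rfl))
  let T : Set (AddMonoid.End (Additive N)) := A '' (P : Set G)
  have hc : ∀ x ∈ T, ∀ y ∈ T, x * y = y * x := by
    rintro _ ⟨u, hu, rfl⟩ _ ⟨v, hv, rfl⟩
    have := isCyclic_of_prime_card (α := P) hK.card_P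
    have huv : u * v = v * u := congrArg Subtype.val (IsCyclic.commutative.is_comm.comm (⟨u, hu⟩ : P) ⟨v, hv⟩)
    rw [← hAmul, ← hAmul, huv]
  let S : Subring (AddMonoid.End (Additive N)) := Subring.closure T
  letI : CommRing S := Subring.closureCommRingOfComm hc
  have hTS : ∀ t ∈ P, A t ∈ S := fun t ht => Subring.subset_closure ⟨t, ht, rfl⟩
  have hnt : 1 < Nat.card N := by omega
  have : Nontrivial (Additive N) := by
    rw [Finite.one_lt_card_iff_nontrivial] at hnt
    exact Additive.toMul.injective.nontrivial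
  obtain ⟨x₀, hx₀⟩ := exists_ne (0 : Additive N)
  have hreach : ∀ x y : Additive N, x ≠ 0 → y ≠ 0 → ∃ t ∈ P, A t x = y := by
    intro x y hx hy
    obtain ⟨t, ht, h⟩ := hPtr _ (Additive.toMul x).2
      (fun h => hx (Additive.toMul.injective (Subtype.ext h))) _ (Additive.toMul y).2
      (fun h => hy (Additive.toMul.injective (Subtype.ext h)))
    exact ⟨t, ht, Additive.toMul.injective (Subtype.ext h)⟩
  have hinj : ∀ φ ∈ S, φ ≠ 0 → Function.Injective φ := by
    intro φ hφ hne
    rw [injective_iff_map_eq_zero]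
    intro x hx
    by_contra hx0
    apply hne
    refine AddMonoidHom.ext fun y => ?_
    show φ y = 0
    rcases eq_or_ne y 0 with rfl | hy
    · exact map_zero φ
    obtain ⟨t, ht, rfl⟩ := hreach x y hx0 hy
    have h1 := DFunLike.congr_fun (congrArg Subtype.val (mul_comm (⟨φ, hφ⟩ : S) ⟨A t, hTS t ht⟩)) x
    change φ (A t x) = A t (φ x) at h1
    rw [h1, hx, map_zero]
  let ev : S →+ Additive N :=
    { toFun := fun φ => (φ : AddMonoid.End (Additive N)) x₀
      map_zero' := rfl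
      map_add' := fun _ _ => rfl }
  have hev' : Function.Bijective ev := by
    constructor
    · rw [injective_iff_map_eq_zero]
      intro φ hφ
      by_contra hne
      exact hx₀ (hinj φ φ.2 (fun h => hne (Subtype.ext h)) (hφ.trans (map_zero _).symm))
    · intro y
      rcases eq_or_ne y 0 with rfl | hy
      · exact ⟨0, rfl⟩
      obtain ⟨t, ht, h⟩ := hreach x₀ y hx₀ hy
      exact ⟨⟨A t, hTS t ht⟩, h⟩
  have : Finite S := Finite.of_injective ev hev'.1
  have : Nontrivial S := hev'.2.nontrivial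
  have : NoZeroDivisors S := ⟨fun {φ ψ} hφψ => by
    rw [or_iff_not_imp_left]
    intro hne
    apply Subtype.ext
    refine AddMonoidHom.ext fun x => hinj φ φ.2 (fun h => hne (Subtype.ext h)) ?_
    have h1 : (φ : AddMonoid.End (Additive N)) ((ψ : AddMonoid.End (Additive N)) x) = 0 :=
      DFunLike.congr_fun (congrArg Subtype.val hφψ : (φ : AddMonoid.End (Additive N)) * ψ = 0) x
    exact h1.trans (map_zero (φ : AddMonoid.End (Additive N))).symm⟩
  have : IsDomain S := NoZeroDivisors.to_isDomain S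
  letI : Fintype S := Fintype.ofFinite S
  letI : Field S := Fintype.fieldOfDomain S
  have hScard : Nat.card S = 2 ^ q := by
    rw [Nat.card_congr (Equiv.ofBijective ev hev'), Nat.card_congr Additive.toMul, hNc, hq]
  -- conjugation by the point stabiliser
  have hinvS : ∀ g : G, g • a = a → ∀ φ ∈ S, A g * φ * A g⁻¹ ∈ S := by
    intro g hg φ hφ
    induction hφ using Subring.closure_induction with
    | mem x hx =>
      obtain ⟨t, ht, rfl⟩ := hx
      rw [← hAmul, ← hAmul]
      exact hTS _ (hK.normal g hg t ht)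
    | zero => rw [mul_zero, zero_mul]; exact S.zero_mem
    | one => rw [mul_one, ← hAmul, mul_inv_cancel, hA1]; exact S.one_mem
    | add x y _ _ hx hy => rw [mul_add, add_mul]; exact S.add_mem hx hy
    | neg x _ hx =>
      rw [show A g * -x * A g⁻¹ = -(A g * x * A g⁻¹) from AddMonoidHom.ext fun y => map_neg (A g) _]
      exact S.neg_mem hx
    | mul x y _ _ hx hy =>
      rw [show A g * (x * y) * A g⁻¹ = (A g * x * A g⁻¹) * (A g * y * A g⁻¹) by
        rw [show (A g * x * A g⁻¹) * (A g * y * A g⁻¹) = A g * x * (A g⁻¹ * A g) * y * A g⁻¹ by noncomm_ring,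
          ← hAmul, inv_mul_cancel, hA1]
        noncomm_ring]
      exact S.mul_mem hx hy
  let Ga := stabilizer G a
  let σ : Ga → (S ≃+* S) := fun g =>
    { toFun := fun φ => ⟨A g * φ * A (g : G)⁻¹, hinvS g g.2 φ φ.2⟩
      invFun := fun φ => ⟨A (g : G)⁻¹ * φ * A g, by
        have h := hinvS (g : G)⁻¹ (inv_smul_eq_iff.2 g.2.symm) φ φ.2
        rwa [inv_inv] at h⟩
      left_inv := fun φ => Subtype.ext (by
        show A (g : G)⁻¹ * (A g * φ * A (g : G)⁻¹) * A g = φ
        rw [show A (g : G)⁻¹ * (A g * φ * A (g : G)⁻¹) * A g = (A (g : G)⁻¹ * A g) * φ * (A (g : G)⁻¹ * A g) by noncomm_ring,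
          ← hAmul, inv_mul_cancel, hA1]
        noncomm_ring)
      right_inv := fun φ => Subtype.ext (by
        show A g * (A (g : G)⁻¹ * φ * A g) * A (g : G)⁻¹ = φ
        rw [show A g * (A (g : G)⁻¹ * φ * A g) * A (g : G)⁻¹ = (A g * A (g : G)⁻¹) * φ * (A g * A (g : G)⁻¹) by noncomm_ring,
          ← hAmul, mul_inv_cancel, hA1]
        noncomm_ring)
      map_mul' := fun φ ψ => Subtype.ext (by
        show A g * (φ * ψ : S) * A (g : G)⁻¹ = (A g * φ * A (g : G)⁻¹) * (A g * ψ * A (g : G)⁻¹)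
        rw [show (A g * φ * A (g : G)⁻¹) * (A g * ψ * A (g : G)⁻¹) = A g * φ * (A (g : G)⁻¹ * A g) * ψ * A (g : G)⁻¹ by noncomm_ring,
          ← hAmul, inv_mul_cancel, hA1]
        push_cast
        noncomm_ring)
      map_add' := fun φ ψ => Subtype.ext (by
        show A g * (φ + ψ : S) * A (g : G)⁻¹ = A g * φ * A (g : G)⁻¹ + A g * ψ * A (g : G)⁻¹
        push_cast
        noncomm_ring) }
  have hdvd : Nat.card (stabilizer G a ⊓ stabilizer G b : Subgroup G) ∣ q := by
    let ψ : (stabilizer G a ⊓ stabilizer G b : Subgroup G) →* (S ≃+* S) :=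
      MonoidHom.mk' (fun g => σ ⟨g, g.2.1⟩) fun g k => RingEquiv.ext fun φ => Subtype.ext (by
        show A ((g : G) * k) * φ * A ((g : G) * k)⁻¹ = A g * (A k * φ * A (k : G)⁻¹) * A (g : G)⁻¹
        rw [mul_inv_rev, hAmul, hAmul]
        noncomm_ring)
    have hψ : Function.Injective ψ := by
      rw [injective_iff_map_eq_one]
      intro u hu
      obtain ⟨⟨t, ht⟩, ht1⟩ := @exists_ne _
        (Finite.one_lt_card_iff_nontrivial.1 (by rw [hK.card_P]; exact hK.prime.one_lt)) (1 : P)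
      have h1 : A (u : G) * A t * A (u : G)⁻¹ = A t :=
        congrArg Subtype.val (DFunLike.congr_fun hu (⟨A t, hTS t ht⟩ : S))
      rw [← hAmul, ← hAmul] at h1
      apply Subtype.ext
      refine hK.eq_one_of_commute hb u.2.1 u.2.2 ht (fun h => ht1 (Subtype.ext h)) ?_
      have h2 : (u : G) * t * (u : G)⁻¹ = t := by
        refine eq_of_smul_eq_smul fun c : Ω => ?_
        obtain ⟨n, rfl⟩ := hNbij.2 c
        show ((u : G) * t * (u : G)⁻¹) • (n : G) • a = t • (n : G) • a
        have h3 := congrArg (fun y => ((Additive.toMul y : N) : G)) (DFunLike.congr_fun h1 (Additive.ofMul n))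
        change (u : G) * t * (u : G)⁻¹ * n * ((u : G) * t * (u : G)⁻¹)⁻¹ = t * n * t⁻¹ at h3
        rw [tr t (hK.le ht), tr _ ((stabilizer G a).mul_mem ((stabilizer G a).mul_mem u.2.1 (hK.le ht)) ((stabilizer G a).inv_mem u.2.1)), h3]
      exact mul_inv_eq_iff_eq_mul.1 h2
    exact (Subgroup.card_dvd_of_injective ψ hψ).trans (card_ringAut_dvd hScard)
  -- coordinates
  have : Fact (Nat.Prime 2) := ⟨Nat.prime_two⟩
  have : Fintype (GaloisField 2 q) := Fintype.ofFinite _
  let ρ : S ≃+* GaloisField 2 q := FiniteField.ringEquivOfCardEq (by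
    rw [← Nat.card_eq_fintype_card, ← Nat.card_eq_fintype_card, hScard, GaloisField.card 2 q hqp.ne_zero])
  let θ : S → Ω := fun φ => ((Additive.toMul (ev φ) : N) : G) • a
  have hθ : Function.Bijective θ := hNbij.comp (Additive.toMul.bijective.comp hev')
  let e₁ : S ≃ Ω := Equiv.ofBijective θ hθ
  refine ⟨q, hqp, hq, hdvd, e₁.symm.trans ρ.toEquiv, fun g => ?_⟩
  obtain ⟨n, hn⟩ := hNbij.2 (g • a)
  have hn' : (n : G) • a = g • a := hn
  set k : Ga := ⟨(n : G)⁻¹ * g, mem_stabilizer_iff.2 (by rw [mul_smul, ← hn', inv_smul_smul])⟩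
  obtain ⟨a₀, ha₀⟩ := hev'.2 (A (k : G) x₀)
  obtain ⟨b₀, hb₀⟩ := hev'.2 (Additive.ofMul n)
  have hact : ∀ φ : S, g • θ φ = θ (a₀ * σ k φ + b₀) := by
    intro φ
    have h1 : ev (a₀ * σ k φ + b₀) = Additive.ofMul n + A (k : G) (ev φ) := by
      rw [map_add, hb₀, add_comm, mul_comm]
      congr 1
      show ((σ k φ : S) : AddMonoid.End (Additive N)) (ev a₀) = A (k : G) ((φ : AddMonoid.End (Additive N)) x₀)
      rw [ha₀]
      show (A (k : G) * φ * A (k : G)⁻¹) (A (k : G) x₀) = A (k : G) ((φ : AddMonoid.End (Additive N)) x₀)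
      show ((A (k : G) * φ * A (k : G)⁻¹) * A (k : G)) x₀ = _
      rw [mul_assoc, ← hAmul, inv_mul_cancel, hA1, mul_one]
      rfl
    show g • ((Additive.toMul (ev φ) : N) : G) • a = ((Additive.toMul (ev (a₀ * σ k φ + b₀)) : N) : G) • a
    rw [h1, toMul_add, toMul_ofMul, Subgroup.coe_mul, mul_smul, hA, ← tr (k : G) k.2, ← mul_smul (n : G),
      show (n : G) * (k : G) = g from mul_inv_cancel_left _ _]
  have ha0 : a₀ ≠ 0 := fun h => by
    rw [h, map_zero] at ha₀
    refine hx₀ ?_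
    have h2 := congrArg (A (k : G)⁻¹) ha₀
    have hcancel : ∀ y, A (k : G)⁻¹ (A (k : G) y) = y := fun y => by
      show (A (k : G)⁻¹ * A (k : G)) y = y
      rw [← hAmul, inv_mul_cancel, hA1]; rfl
    rw [map_zero, hcancel] at h2
    exact h2.symm
  refine ⟨Units.mk0 (ρ a₀) ((map_ne_zero ρ).2 ha0), ρ b₀, ρ.symm.trans ((σ k).trans ρ), fun x => ?_⟩
  show ρ (e₁.symm (g • e₁ (ρ.symm x))) = ρ a₀ * ρ (σ k (ρ.symm x)) + ρ b₀
  rw [show e₁.symm (g • e₁ (ρ.symm x)) = a₀ * σ k (ρ.symm x) + b₀ from e₁.injective (by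
    rw [Equiv.apply_symm_apply]; exact hact _), map_add, map_mul]

end Cfsg.Lib.RankOne
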