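import Cfsg.Agent.RankOne.PrimeKernel
import Cfsg.Agent.Classical.SL
import Mathlib

/-! The sharply triply transitive groups of degree `p + 1` are the groups `PGL(2, p)`. -/

set_option autoImplicit false
set_option linter.unusedSectionVars false

open MulAction
open scoped OnePoint

namespace Cfsg.Lib.RankOne

open Matrix

section Mobius

variable {F : Type*} [Field F] [DecidableEq F]

/-- The permutation of the projective line given by an invertible matrix. -/
noncomputable def mobiusGL : GL (Fin 2) F →* Equiv.Perm (OnePoint F) :=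
  MulAction.toPermHom (GL (Fin 2) F) (OnePoint F)

theorem mobiusGL_some (M : GL (Fin 2) F) (x : F) :
    mobiusGL M (x : OnePoint F) = if M 1 0 * x + M 1 1 = 0 then (∞ : OnePoint F)
      else (((M 0 0 * x + M 0 1) / (M 1 0 * x + M 1 1) : F) : OnePoint F) :=
  OnePoint.smul_some_eq_ite

theorem mobiusGL_infty (M : GL (Fin 2) F) :
    mobiusGL M (∞ : OnePoint F) = if M 1 0 = 0 then (∞ : OnePoint F) else ((M 0 0 / M 1 0 : F) : OnePoint F) :=
  OnePoint.smul_infty_eq_ite _

theorem mobiusGL_ker : (mobiusGL (F := F)).ker = Subgroup.center (GL (Fin 2) F) := by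
  ext M
  have hdet : M 0 0 * M 1 1 - M 0 1 * M 1 0 ≠ 0 := by
    have := M.det_ne_zero
    rwa [det_fin_two] at this
  rw [MonoidHom.mem_ker]
  constructor
  · intro h
    have hi := mobiusGL_infty M
    rw [h, Equiv.Perm.one_apply] at hi
    have h10 : M 1 0 = 0 := by
      by_contra hne
      rw [if_neg hne] at hi
      exact OnePoint.infty_ne_coe _ hi
    have h11 : M 1 1 ≠ 0 := fun hz => by rw [hz, h10] at hdet; simp at hdet
    have h0 := mobiusGL_some M 0
    rw [h, Equiv.Perm.one_apply] at h0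
    simp only [h10, mul_zero, zero_add, if_neg h11, OnePoint.coe_eq_coe] at h0
    have h01 : M 0 1 = 0 := (div_eq_zero_iff.1 h0.symm).resolve_right h11
    have h1 := mobiusGL_some M 1
    rw [h, Equiv.Perm.one_apply] at h1
    simp only [h10, h01, mul_one, zero_add, add_zero, if_neg h11, OnePoint.coe_eq_coe] at h1
    have h00 : M 0 0 = M 1 1 := (div_eq_one_iff_eq h11).1 h1.symm
    refine Subgroup.mem_center_iff.2 fun B => ?_
    apply Units.ext
    show (B : Matrix (Fin 2) (Fin 2) F) * M = (M : Matrix (Fin 2) (Fin 2) F) * B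
    ext i j
    fin_cases i <;> fin_cases j <;> simp [Matrix.mul_apply, Fin.sum_univ_two, h10, h01, h00, mul_comm]
  · intro h
    let U : GL (Fin 2) F := Matrix.GeneralLinearGroup.mkOfDetNeZero !![1, 1; 0, 1] (by simp [det_fin_two])
    let V : GL (Fin 2) F := Matrix.GeneralLinearGroup.mkOfDetNeZero !![1, 0; 1, 1] (by simp [det_fin_two])
    have hU := congrArg (fun g : GL (Fin 2) F => (g : Matrix (Fin 2) (Fin 2) F)) (Subgroup.mem_center_iff.1 h U)
    have hV := congrArg (fun g : GL (Fin 2) F => (g : Matrix (Fin 2) (Fin 2) F)) (Subgroup.mem_center_iff.1 h V)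
    have e1 := congrFun (congrFun hU 0) 0
    have e2 := congrFun (congrFun hU 0) 1
    have e3 := congrFun (congrFun hV 0) 0
    simp [U, V, Matrix.GeneralLinearGroup.mkOfDetNeZero, Matrix.mul_apply, Fin.sum_univ_two] at e1 e2 e3
    have h11 : M 1 1 ≠ 0 := fun hz => by rw [hz, e1] at hdet; simp at hdet
    refine Equiv.ext fun x => ?_
    cases x using OnePoint.rec with
    | infty => rw [mobiusGL_infty, if_pos e1]; rfl
    | coe x =>
      rw [mobiusGL_some, e1, zero_mul, zero_add, if_neg h11, Equiv.Perm.one_apply]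
      congr 1
      field_simp
      linear_combination x * (-e2) + e3

end Mobius

theorem zmod_two_eq_one : ∀ r : ZMod 2, r ≠ 0 → r = 1 := by decide

variable {G Ω : Type*} [Group G] [Finite G] [MulAction G Ω] [Fintype Ω]
variable {p : ℕ} {a b : Ω} {P : Subgroup G}

theorem PrimeKernel.pgl (hK : PrimeKernel p a P) (hb : b ≠ a)
    (hG : Nat.card G = (p + 1) * p * (p - 1))
    (hE : Nat.card (stabilizer G a ⊓ stabilizer G b : Subgroup G) = p - 1) :
    Nonempty (G ≃* Matrix.ProjGenLinGroup (Fin 2) (ZMod p)) := by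
  classical
  have := Fact.mk hK.prime
  have := hK.faithful
  set E : Subgroup G := stabilizer G a ⊓ stabilizer G b
  have hEa : ∀ u : E, (u : G) • a = a := fun u => u.2.1
  have hEb : ∀ u : E, (u : G) • b = b := fun u => u.2.2
  -- a generator of `P`
  have hPnt : 1 < Nat.card P := by rw [hK.card_P]; exact hK.prime.one_lt
  obtain ⟨⟨t, ht⟩, ht1⟩ := (@exists_ne _ (Finite.one_lt_card_iff_nontrivial.1 hPnt) (1 : P))
  have ht1' : t ≠ 1 := fun h => ht1 (Subtype.ext h)
  have hord : orderOf t = p := by rw [← Nat.card_zpowers, hK.zpowers_eq ht ht1', hK.card_P]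
  let ι : ZMod p → G := fun x => t ^ x.val
  have hιn : ∀ n : ℕ, ι n = t ^ n := fun n => by
    show t ^ (n : ZMod p).val = t ^ n
    rw [ZMod.val_natCast, pow_eq_pow_iff_modEq, hord]
    exact Nat.mod_modEq n p
  have hιP : ∀ x, ι x ∈ P := fun x => pow_mem ht _
  have hιadd : ∀ x y, ι (x + y) = ι x * ι y := fun x y => by
    rw [← ZMod.natCast_zmod_val x, ← ZMod.natCast_zmod_val y, ← Nat.cast_add, hιn, hιn, hιn, pow_add]
  have hιa : ∀ x, ι x • a = a := fun x => hK.le (hιP x)
  have hιb : ∀ x, ι x • b ≠ a := fun x h => hb (smul_left_cancel (ι x) (h.trans (hιa x).symm))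
  have hιinj : Function.Injective ι := fun x y h => by
    apply ZMod.val_injective p
    exact pow_injOn_Iio_orderOf (by rw [hord]; exact x.val_lt) (by rw [hord]; exact y.val_lt) h
  let θ : OnePoint (ZMod p) → Ω := fun x => OnePoint.rec a (fun y => ι y • b) x
  have hθinj : Function.Injective θ := by
    intro x y hxy
    cases x using OnePoint.rec with
    | infty =>
      cases y using OnePoint.rec with
      | infty => rfl
      | coe y => exact absurd hxy.symm (hιb y)
    | coe x =>
      cases y using OnePoint.rec with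
      | infty => exact absurd hxy (hιb x)
      | coe y =>
        have hxy' : ι x • b = ι y • b := hxy
        by_contra hne
        refine hb (hK.fix _ (mul_mem (inv_mem (hιP y)) (hιP x))
          (fun h' => hne (congrArg _ (hιinj (inv_mul_eq_one.1 h').symm))) b ?_)
        rw [mul_smul, hxy', inv_smul_smul]
  have hθ : Function.Bijective θ :=
    hθinj.bijective_of_nat_card_le (by
      rw [Nat.card_eq_fintype_card, hK.card_pts]
      exact le_of_eq (by rw [show Nat.card (OnePoint (ZMod p)) = Nat.card (Option (ZMod p)) from rfl,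
        Finite.card_option, Nat.card_zmod]))
  have hθinf : θ ∞ = a := rfl
  have hθ0 : θ ((0 : ZMod p) : OnePoint (ZMod p)) = b := by
    show ι 0 • b = b; rw [show ι 0 = t ^ (0 : ZMod p).val from rfl, ZMod.val_zero, pow_zero, one_smul]
  have hT : ∀ z x : ZMod p, ι z • θ x = θ ((z + x : ZMod p) : OnePoint (ZMod p)) := fun z x => by
    show ι z • ι x • b = ι (z + x) • b
    rw [hιadd, mul_smul]
  -- multiplications
  have hex : ∀ u : E, ∃ k : ZMod p, (u : G) * t * (u : G)⁻¹ = ι k := by
    intro u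
    have h1 := hK.normal u (hEa u) t ht
    rw [← hK.zpowers_eq ht ht1', Subgroup.mem_zpowers_iff] at h1
    obtain ⟨i, hi⟩ := h1
    refine ⟨(i : ZMod p), ?_⟩
    rw [← hi, show ι (i : ZMod p) = t ^ ((i : ZMod p).val : ℤ) from (zpow_natCast t _).symm,
      ← zpow_mod_orderOf t i, hord, ZMod.val_intCast]
  choose χ hχ using hex
  have hM : ∀ (u : E) (x : ZMod p), (u : G) • θ x = θ ((χ u * x : ZMod p) : OnePoint (ZMod p)) := fun u x => by
    show (u : G) • ι x • b = ι (χ u * x) • b
    have h1 : ι (χ u * x) = (u : G) * ι x * (u : G)⁻¹ := by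
      rw [show χ u * x = (((χ u).val * x.val : ℕ) : ZMod p) by push_cast; rw [ZMod.natCast_zmod_val, ZMod.natCast_zmod_val],
        hιn, pow_mul, show t ^ (χ u).val = (u : G) * t * (u : G)⁻¹ from (hχ u).symm, conj_pow]
    rw [h1, mul_smul, mul_smul, show (u : G)⁻¹ • b = b from inv_smul_eq_iff.2 (hEb u).symm]
  have hχinj : Function.Injective χ := by
    intro u v h
    by_contra hne
    refine (show (v : G)⁻¹ * u ≠ 1 from fun h' => hne (Subtype.ext (inv_mul_eq_one.1 h').symm))
      (hK.eq_one_of_commute hb ?_ ?_ ht ht1' ?_)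
    · rw [mul_smul, hEa u, inv_smul_eq_iff, hEa v]
    · rw [mul_smul, hEb u, inv_smul_eq_iff, hEb v]
    · calc (v : G)⁻¹ * u * t = (v : G)⁻¹ * ((u : G) * t * (u : G)⁻¹) * u := by group
        _ = (v : G)⁻¹ * ((v : G) * t * (v : G)⁻¹) * u := by rw [hχ u, h, ← hχ v]
        _ = _ := by group
  have hχ0 : ∀ u, χ u ≠ 0 := fun u h => ht1' (by
    have h1 := hχ u
    rw [h, show ι 0 = t ^ (0 : ZMod p).val from rfl, ZMod.val_zero, pow_zero] at h1
    exact conj_eq_one_iff.1 h1)
  have hχsurj : ∀ s : ZMod p, s ≠ 0 → ∃ u, χ u = s := by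
    have hb'' : Function.Injective (fun u : E => (⟨χ u, hχ0 u⟩ : {x : ZMod p // x ≠ 0})) :=
      fun u v h => hχinj (congrArg Subtype.val h)
    have hb' := hb''.bijective_of_nat_card_le (by
        rw [hE, Nat.card_eq_fintype_card, Fintype.card_subtype_compl, Fintype.card_subtype_eq, ZMod.card])
    intro s hs
    obtain ⟨u, hu⟩ := hb'.2 ⟨s, hs⟩
    exact ⟨u, congrArg Subtype.val hu⟩
  -- the involution
  obtain ⟨g₀, hg₀a, hg₀b⟩ := MulAction.is_two_pretransitive_iff.1 hK.two_trans hb.symm hb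
  have hmoves : ∀ (g : G), g • a = b → g • b = a → ∀ x : ZMod p, x ≠ 0 →
      ∃ y : ZMod p, y ≠ 0 ∧ g • θ x = θ y := by
    intro g hga hgb x hx
    obtain ⟨q, hq⟩ := hθ.2 (g • θ x)
    cases q using OnePoint.rec with
    | infty =>
      exfalso
      apply hx
      exact OnePoint.coe_injective (hθinj (smul_left_cancel g (by rw [hθ0, hgb]; exact hq.symm) : θ x = θ (0 : ZMod p)))
    | coe y =>
      refine ⟨y, fun hy => ?_, hq.symm⟩
      rw [hy, hθ0] at hq
      exact OnePoint.coe_ne_infty x (hθinj (smul_left_cancel g (hq.symm.trans hga.symm) : θ x = θ ∞))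
  obtain ⟨y, hy, hy'⟩ := hmoves g₀ hg₀a hg₀b 1 one_ne_zero
  obtain ⟨u₀, hu₀⟩ := hχsurj y⁻¹ (inv_ne_zero hy)
  set w := (u₀ : G) * g₀
  have hwa : w • a = b := by rw [mul_smul, hg₀a, hEb]
  have hwb : w • b = a := by rw [mul_smul, hg₀b, hEa]
  have hw1' : w • θ (1 : ZMod p) = θ (1 : ZMod p) := by rw [mul_smul, hy', hM, hu₀, inv_mul_cancel₀ hy]
  have hθ1a : θ (1 : ZMod p) ≠ a := hιb 1
  have hθ1b : θ (1 : ZMod p) ≠ b := fun h => one_ne_zero (OnePoint.coe_injective (hθinj (h.trans hθ0.symm)))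
  have hw2 : w * w = 1 := hK.three hb hθ1a hθ1b (by rw [mul_smul, hwa, hwb]) (by rw [mul_smul, hwb, hwa])
    (by rw [mul_smul, hw1', hw1'])
  have hww : ∀ c : Ω, w • w • c = c := fun c => by rw [← mul_smul, hw2, one_smul]
  choose f hf0 hf using hmoves w hwa hwb
  let g : ZMod p → ZMod p := fun x => if hx : x = 0 then 0 else f x hx
  have hg0 : ∀ x, x ≠ 0 → g x ≠ 0 := fun x hx => by simp only [g, dif_neg hx]; exact hf0 x hx
  have hg : ∀ x : ZMod p, x ≠ 0 → w • θ x = θ (g x : ZMod p) := fun x hx => by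
    simp only [g, dif_neg hx]; exact hf x hx
  have hgg : ∀ x, x ≠ 0 → g (g x) = x := fun x hx => OnePoint.coe_injective (hθinj (by
    rw [← hg _ (hg0 x hx), ← hg x hx, hww]))
  have hg1 : g 1 = 1 := OnePoint.coe_injective (hθinj (by rw [← hg 1 one_ne_zero, hw1']))
  have hgmul : ∀ s x, s ≠ 0 → x ≠ 0 → g (s * x) = g s * g x := by
    intro s x hs hx
    obtain ⟨u, hu⟩ := hχsurj s hs
    have hv : w * (u : G) * w ∈ E := Subgroup.mem_inf.2
      ⟨mem_stabilizer_iff.2 (by rw [mul_smul, mul_smul, hwa, hEb, hwb]),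
        mem_stabilizer_iff.2 (by rw [mul_smul, mul_smul, hwb, hEa, hwa])⟩
    have hkey : ∀ z, z ≠ 0 → g (s * z) = χ ⟨_, hv⟩ * g z := fun z hz => OnePoint.coe_injective (hθinj (by
      rw [← hg _ (mul_ne_zero hs hz), ← hu, ← hM, ← hM, ← hg z hz, ← mul_smul, ← mul_smul]
      show (w * (u : G)) • θ z = (w * u * w * w) • θ z
      rw [mul_assoc (w * (u : G)), hw2, mul_one]))
    have h1 := hkey 1 one_ne_zero
    rw [mul_one, hg1, mul_one] at h1
    rw [hkey x hx, h1]
  have hgfix : ∀ r, r ≠ 0 → g r = r → r = 1 ∨ r = -1 := by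
    intro r hr hgr
    rw [or_iff_not_imp_left]
    intro hr1
    by_contra hrm
    -- `r`, `1` and `-1` are three fixed points of `w`
    have hgm : g (-1) = 1 ∨ g (-1) = -1 := by
      have h1 := hgmul (-1) (-1) (neg_ne_zero.2 one_ne_zero) (neg_ne_zero.2 one_ne_zero)
      rw [neg_mul_neg, one_mul, hg1] at h1
      exact mul_self_eq_one_iff.1 h1.symm
    have hm1 : (-1 : ZMod p) ≠ 1 := by
      intro h
      have h2 : (2 : ZMod p) = 0 := by linear_combination -h
      have hp2 : p = 2 := by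
        have : p ∣ 2 := (ZMod.natCast_eq_zero_iff 2 p).1 (by exact_mod_cast h2)
        exact (Nat.prime_dvd_prime_iff_eq hK.prime Nat.prime_two).1 this
      subst hp2
      exact hr1 (zmod_two_eq_one r hr)
    have hgm' : g (-1) = -1 := hgm.resolve_left fun h => hm1 (by
      have := hgg (-1) (neg_ne_zero.2 one_ne_zero)
      rw [h, hg1] at this
      exact this.symm)
    have hw1 : w ≠ 1 := fun h => hb (by rw [h, one_smul] at hwa; exact hwa.symm)
    have h3 : ∀ c d e : Ω, c ≠ d → d ≠ e → c ≠ e → w • c = c → w • d = d → w • e = e → False := by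
      intro c d e hcd hde hce h1 h2 h3
      apply hw1
      obtain ⟨k, hk1, hk2⟩ := MulAction.is_two_pretransitive_iff.1 hK.two_trans hcd hb.symm
      have h4 : k * w * k⁻¹ = 1 := hK.three hb (c := k • e)
        (fun h => hce (smul_left_cancel k (hk1.trans h.symm))) (fun h => hde (smul_left_cancel k (hk2.trans h.symm)))
        (by rw [← hk1, mul_smul, mul_smul, inv_smul_smul, h1])
        (by rw [← hk2, mul_smul, mul_smul, inv_smul_smul, h2])
        (by rw [mul_smul, mul_smul, inv_smul_smul, h3])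
      exact conj_eq_one_iff.1 h4
    exact h3 (θ r) (θ (1 : ZMod p)) (θ (-1 : ZMod p))
      (fun h => hr1 (OnePoint.coe_injective (hθinj h)))
      (fun h => hm1 (OnePoint.coe_injective (hθinj h)).symm)
      (fun h => hrm (OnePoint.coe_injective (hθinj h)))
      (by rw [hg r hr, hgr]) hw1' (by rw [hg _ (neg_ne_zero.2 one_ne_zero), hgm'])
  have hpm : ∀ x, x ≠ 0 → g x * x = 1 ∨ g x * x = -1 := fun x hx => by
    refine hgfix _ (mul_ne_zero (hg0 x hx) hx) ?_
    rw [hgmul _ _ (hg0 x hx) hx, hgg x hx, mul_comm]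
  have hginv : ∀ x, x ≠ 0 → g x = x⁻¹ := by
    suffices key : ∀ x, x ≠ 0 → g x * x = 1 from fun x hx => eq_inv_of_mul_eq_one_left (key x hx)
    intro x hx
    by_contra hne
    -- a value with sign one followed by one with sign minus one
    obtain ⟨n, hn0, hnn, hn1, hne1⟩ : ∃ n : ZMod p, n ≠ 0 ∧ n + 1 ≠ 0 ∧ g n * n = 1 ∧ g (n + 1) * (n + 1) ≠ 1 := by
      by_contra hcon
      push Not at hcon
      have hind : ∀ k : ℕ, (k + 1 : ℕ) < p → g ((k + 1 : ℕ) : ZMod p) * ((k + 1 : ℕ) : ZMod p) = 1 := by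
        intro k
        induction k with
        | zero => intro _; simp [hg1]
        | succ k ih =>
          intro hlt
          have h0 : ∀ m : ℕ, 0 < m → m < p → ((m : ℕ) : ZMod p) ≠ 0 := fun m h1 h2 h => by
            have := Nat.le_of_dvd h1 ((ZMod.natCast_eq_zero_iff m p).1 h)
            omega
          have h := hcon ((k + 1 : ℕ) : ZMod p) (h0 _ (by omega) (by omega))
            (by rw [← Nat.cast_succ]; exact h0 _ (by omega) hlt) (ih (by omega))
          rw [← Nat.cast_succ] at h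
          exact h
      obtain ⟨k, hk⟩ : ∃ k, x.val = k + 1 := ⟨x.val - 1, by
        have : x.val ≠ 0 := fun h => hx ((ZMod.val_eq_zero x).1 h)
        omega⟩
      apply hne
      have := hind k (hk ▸ x.val_lt)
      rwa [← hk, ZMod.natCast_zmod_val] at this
    have hgn : g n = n⁻¹ := eq_inv_of_mul_eq_one_left hn1
    have hgn1 : g (n + 1) = -(n + 1)⁻¹ := by
      rw [← mul_right_inj' hnn, mul_comm (n + 1) (g (n + 1)), (hpm _ hnn).resolve_left hne1, mul_neg, mul_inv_cancel₀ hnn]
    have hgm1 : g (-1) = -1 := by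
      rcases hpm (-1) (neg_ne_zero.2 one_ne_zero) with h | h
      · linear_combination -h
      · have h1 : g (-1) = 1 := by linear_combination -h
        have h2 := hgg (-1) (neg_ne_zero.2 one_ne_zero)
        rw [h1, hg1] at h2
        exact h1.trans h2
    obtain ⟨z, hz⟩ := hχsurj (-1) (neg_ne_zero.2 one_ne_zero)
    have hLR : (w * ι 1 * w) = (ι 1 * (z : G) * w * ι 1) := by
      have h4 : (ι 1 * (z : G) * w * ι 1)⁻¹ * (w * ι 1 * w) = 1 := by
        refine hK.three hb (c := θ (-1 : ZMod p)) (hιb _)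
          (fun h => neg_ne_zero.2 one_ne_zero (OnePoint.coe_injective (hθinj (h.trans hθ0.symm)))) ?_ ?_ ?_
        · rw [mul_smul, inv_smul_eq_iff]
          simp only [mul_smul, hιa, hwa]
          rw [show ι 1 • b = θ (1 : ZMod p) from rfl, hw1', hEb]
          rfl
        · rw [mul_smul, inv_smul_eq_iff]
          simp only [mul_smul, hwb, hιa, hwa]
          rw [show ι 1 • b = θ (1 : ZMod p) from rfl, hw1', hM, hz, hT, mul_one, add_neg_cancel, hθ0]
        · rw [mul_smul, inv_smul_eq_iff]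
          simp only [mul_smul]
          rw [hg _ (neg_ne_zero.2 one_ne_zero), hgm1, hT, add_neg_cancel, hθ0, hwb, hEa, hιa]
      exact (inv_mul_eq_one.1 h4).symm
    have hnn' : n⁻¹ + 1 = (n + 1) * n⁻¹ := by field_simp; ring
    have hp := congrArg (· • θ (n : ZMod p)) hLR
    simp only [mul_smul] at hp
    rw [hg n hn0, hgn, hT, add_comm (1 : ZMod p) n⁻¹, hnn', hg _ (mul_ne_zero hnn (inv_ne_zero hn0)),
      hgmul _ _ hnn (inv_ne_zero hn0), ← hgn, hgg n hn0, hT, add_comm (1 : ZMod p) n, hg _ hnn, hgn1, hM, hz, hT] at hp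
    have hp' := OnePoint.coe_injective (hθinj hp)
    field_simp at hp'
    have h2 : (2 : ZMod p) * (n + 1) = 0 := by linear_combination -hp'
    rcases mul_eq_zero.1 h2 with h | h
    · apply hne1
      rcases hpm _ hnn with h' | h'
      · exact h'
      · rw [h']; linear_combination -h
    · exact hnn h
  -- the isomorphism
  let e := Equiv.ofBijective θ hθ
  let ψ : G →* Equiv.Perm (OnePoint (ZMod p)) :=
    e.symm.permCongrHom.toMonoidHom.comp (MulAction.toPermHom G Ω)
  have hψ : ∀ (x : G) (q : OnePoint (ZMod p)), θ (ψ x q) = x • θ q := fun x q => by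
    show e (e.symm (x • e q)) = x • θ q
    rw [Equiv.apply_symm_apply]
    rfl
  have hψinj : Function.Injective ψ := fun x y hxy => eq_of_smul_eq_smul fun d : Ω => by
    obtain ⟨q, rfl⟩ := hθ.2 d
    rw [← hψ, ← hψ, hxy]
  have hψT : ∀ z, ψ (ι z) ∈ (mobiusGL (F := ZMod p)).range := fun z =>
    ⟨Matrix.GeneralLinearGroup.mkOfDetNeZero !![1, z; 0, 1] (by simp [det_fin_two]),
      (Equiv.ext fun q => hθinj (by
        rw [hψ]
        cases q using OnePoint.rec with
        | infty => rw [mobiusGL_infty]; simp [Matrix.GeneralLinearGroup.mkOfDetNeZero, hθinf, hιa]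
        | coe x => rw [mobiusGL_some]; simp [Matrix.GeneralLinearGroup.mkOfDetNeZero, hT, add_comm])).symm⟩
  have hψM : ∀ u : E, ψ (u : G) ∈ (mobiusGL (F := ZMod p)).range := fun u =>
    ⟨Matrix.GeneralLinearGroup.mkOfDetNeZero !![χ u, 0; 0, 1] (by simp [det_fin_two, hχ0 u]),
      (Equiv.ext fun q => hθinj (by
        rw [hψ]
        cases q using OnePoint.rec with
        | infty => rw [mobiusGL_infty]; simp [Matrix.GeneralLinearGroup.mkOfDetNeZero, hθinf, hEa]
        | coe x => rw [mobiusGL_some]; simp [Matrix.GeneralLinearGroup.mkOfDetNeZero, hM])).symm⟩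
  have hψW : ψ w ∈ (mobiusGL (F := ZMod p)).range :=
    ⟨Matrix.GeneralLinearGroup.mkOfDetNeZero !![0, 1; 1, 0] (by simp [det_fin_two]),
      (Equiv.ext fun q => hθinj (by
        rw [hψ]
        cases q using OnePoint.rec with
        | infty => rw [mobiusGL_infty]; simp [Matrix.GeneralLinearGroup.mkOfDetNeZero, hθinf, hwa, hθ0]
        | coe x =>
          rw [mobiusGL_some]
          rcases eq_or_ne x 0 with rfl | hx
          · simp [Matrix.GeneralLinearGroup.mkOfDetNeZero, hθinf, hθ0, hwb]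
          · rw [hg x hx, hginv x hx]
            simp [Matrix.GeneralLinearGroup.mkOfDetNeZero, hx])).symm⟩
  have hGa : ∀ x : G, x • a = a → ψ x ∈ (mobiusGL (F := ZMod p)).range := by
    intro x hx
    obtain ⟨q, hq⟩ := hθ.2 (x • b)
    cases q using OnePoint.rec with
    | infty => exact absurd (smul_left_cancel x (hq.symm.trans hx.symm)) hb
    | coe z =>
      have hmem : (ι z)⁻¹ * x ∈ E := Subgroup.mem_inf.2
        ⟨mem_stabilizer_iff.2 (by rw [mul_smul, hx, inv_smul_eq_iff, hιa]),
          mem_stabilizer_iff.2 (by rw [mul_smul, inv_smul_eq_iff]; exact hq.symm)⟩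
      rw [show x = ι z * ((⟨_, hmem⟩ : E) : G) by simp, map_mul]
      exact mul_mem (hψT z) (hψM _)
  have hle : ψ.range ≤ (mobiusGL (F := ZMod p)).range := by
    rintro _ ⟨x, rfl⟩
    obtain ⟨q, hq⟩ := hθ.2 (x • a)
    cases q using OnePoint.rec with
    | infty => exact hGa x hq.symm
    | coe z =>
      have hy : (w * (ι z)⁻¹ * x) • a = a := by
        rw [mul_smul, mul_smul, ← hq, show (ι z)⁻¹ • θ z = b from inv_smul_eq_iff.2 rfl, hwb]
      rw [show x = ι z * w * (w * (ι z)⁻¹ * x) by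
        rw [show ι z * w * (w * (ι z)⁻¹ * x) = ι z * (w * w) * (ι z)⁻¹ * x by group, hw2]; group, map_mul, map_mul]
      exact mul_mem (mul_mem (hψT z) hψW) (hGa _ hy)
  let φ : GL (Fin 2) (ZMod p) ⧸ Subgroup.center (GL (Fin 2) (ZMod p)) ≃* (mobiusGL (F := ZMod p)).range :=
    (QuotientGroup.quotientMulEquivOfEq mobiusGL_ker.symm).trans (QuotientGroup.quotientKerEquivRange _)
  have hcard : Nat.card (mobiusGL (F := ZMod p)).range ≤ Nat.card ψ.range := by
    rw [← Nat.card_congr φ.toEquiv, ← Nat.card_congr (MonoidHom.ofInjective hψinj).toEquiv]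
    have h1 := Cfsg.Lib.Classical.card_PGL (ι := Fin 2) (F := ZMod p)
    have h2 := Cfsg.Lib.Classical.card_SL_mul (ι := Fin 2) (F := ZMod p)
    rw [Matrix.card_GL_field] at h2
    simp only [Fin.prod_univ_two, Fin.val_zero, Fin.val_one, pow_zero, pow_one, Nat.card_zmod, ZMod.card] at h2
    refine le_of_eq (h1.trans ?_)
    rw [hG]
    have hp2 := hK.prime.two_le
    obtain ⟨k, rfl⟩ : ∃ k, p = k + 2 := ⟨p - 2, by omega⟩
    apply Nat.eq_of_mul_eq_mul_left (show 0 < k + 2 - 1 by omega)
    rw [h2, show (k + 2) ^ 2 - 1 = (k + 3) * (k + 1) by ring_nf; omega,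
      show (k + 2) ^ 2 - (k + 2) = (k + 2) * (k + 1) by ring_nf; omega, show k + 2 - 1 = k + 1 from rfl]
    ring
  exact ⟨(MonoidHom.ofInjective hψinj).trans
    ((MulEquiv.subgroupCongr (Subgroup.eq_of_le_of_card_ge hle hcard)).trans φ.symm)⟩

end Cfsg.Lib.RankOne
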