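import Mathlib

/-! Jordan's theorem on normal subgroups of multiply transitive groups. -/

set_option autoImplicit false
set_option linter.unusedSectionVars false

open MulAction

namespace Cfsg.Lib.JordanNormal

variable {α : Type*} [Fintype α] [DecidableEq α]

/-- The action of a point stabiliser on the other points. -/
def restrict (G : Subgroup (Equiv.Perm α)) (a : α) : stabilizer G a →* Equiv.Perm {x : α // x ≠ a} :=
  MonoidHom.mk'
    (fun g => ((g : G) : Equiv.Perm α).subtypePerm fun x => by
      have hga : ((g : G) : Equiv.Perm α) a = a := g.2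
      exact ⟨fun h e => h (e ▸ hga), fun h e => h (((g : G) : Equiv.Perm α).injective (e.trans hga.symm))⟩)
    fun g h => Equiv.ext fun x => Subtype.ext rfl

theorem restrict_apply (G : Subgroup (Equiv.Perm α)) (a : α) (g : stabilizer G a) (x : {x : α // x ≠ a}) :
    (restrict G a g x : α) = (g : G) • (x : α) := rfl

/-- Prepending a point. -/
def extend {k : ℕ} {a : α} (x : Fin k ↪ {x : α // x ≠ a}) : Fin (k + 1) ↪ α :=
  ⟨Fin.cons a fun i => (x i : α), by
    rw [Fin.cons_injective_iff]
    exact ⟨fun ⟨i, hi⟩ => (x i).2 hi, Subtype.val_injective.comp x.injective⟩⟩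

theorem extend_zero {k : ℕ} {a : α} (x : Fin k ↪ {x : α // x ≠ a}) : extend x 0 = a := by simp [extend]

theorem extend_succ {k : ℕ} {a : α} (x : Fin k ↪ {x : α // x ≠ a}) (i : Fin k) : extend x i.succ = x i := by
  simp [extend]

/-- Three points with the last two freely prescribed. -/
theorem exists_move {G : Subgroup (Equiv.Perm α)} {k : ℕ} (hG : IsMultiplyPretransitive G α k) {m : ℕ}
    (hmk : m ≤ k) (hk : k ≤ Fintype.card α) (x y : Fin m ↪ α) : ∃ g : G, ∀ i, g • x i = y i := by
  have : IsMultiplyPretransitive G α m :=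
    @MulAction.isMultiplyPretransitive_of_le G α _ _ m k hG hmk (by simpa using hk) _
  obtain ⟨g, hg⟩ := MulAction.exists_smul_eq G x y
  exact ⟨g, fun i => DFunLike.congr_fun hg i⟩

/-- An embedding of three points. -/
def three (a b c : α) (h : a ≠ b ∧ a ≠ c ∧ b ≠ c) : Fin 3 ↪ α :=
  ⟨![a, b, c], by
    obtain ⟨h1, h2, h3⟩ := h
    intro i j hij
    fin_cases i <;> fin_cases j <;> simp_all [eq_comm]⟩

/-- An embedding of four points. -/
def four (a b c d : α) (h : a ≠ b ∧ a ≠ c ∧ a ≠ d ∧ b ≠ c ∧ b ≠ d ∧ c ≠ d) : Fin 4 ↪ α :=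
  ⟨![a, b, c, d], by
    obtain ⟨h1, h2, h3, h4, h5, h6⟩ := h
    intro i j hij
    fin_cases i <;> fin_cases j <;> simp_all [eq_comm]⟩

theorem normal_transitive {G : Subgroup (Equiv.Perm α)} {k : ℕ} (hG : IsMultiplyPretransitive G α k) (hk2 : 2 ≤ k)
    (hk : k ≤ Fintype.card α) (N : Subgroup G) [N.Normal] (hN : N ≠ ⊥) : IsPretransitive N α := by
  have : IsMultiplyPretransitive G α 2 :=
    @MulAction.isMultiplyPretransitive_of_le G α _ _ 2 k hG hk2 (by simpa using hk) _
  have : IsPreprimitive G α := MulAction.isPreprimitive_of_is_two_pretransitive this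
  apply MulAction.IsQuasiPreprimitive.isPretransitive_of_normal
  intro h
  apply hN
  rw [Subgroup.eq_bot_iff_forall]
  intro n hn
  have h1 : ∀ x : α, n • x = x := fun x => by
    have hx : x ∈ MulAction.fixedPoints N α := h ▸ Set.mem_univ x
    exact hx ⟨n, hn⟩
  exact Subtype.ext (Equiv.ext h1)

theorem jordan : ∀ (k : ℕ), 2 ≤ k → ∀ {α : Type*} [Fintype α] [DecidableEq α] (G : Subgroup (Equiv.Perm α)),
    k < Fintype.card α → IsMultiplyPretransitive G α k → ∀ (N : Subgroup G) [N.Normal], N ≠ ⊥ →
      IsMultiplyPretransitive N α (k - 1) ∨ (k = 3 ∧ IsMulCommutative N ∧ ∀ n ∈ N, n ^ 2 = 1) := by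
  intro k hk
  induction k, hk using Nat.le_induction with
  | base =>
    intro α _ _ G hn hG N _ hN
    left
    rw [show (2 : ℕ) - 1 = 1 from rfl, is_one_pretransitive_iff]
    exact normal_transitive hG le_rfl hn.le N hN
  | succ k hk ih =>
    intro α _ _ G hn hG N _ hN
    classical
    have hNt : IsPretransitive N α := normal_transitive hG (by omega) hn.le N hN
    obtain ⟨a⟩ : Nonempty α := Fintype.card_pos_iff.1 (by omega)
    set f := restrict G a with hf
    let N' : Subgroup f.range := (N.subgroupOf (stabilizer G a)).map f.rangeRestrict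
    have : N'.Normal := Subgroup.Normal.map inferInstance _ f.rangeRestrict_surjective
    by_cases hN' : N' = ⊥
    · -- `N` is regular
      have hreg : ∀ n ∈ N, n • a = a → n = 1 := fun n hn hna => by
        have h1 : f.rangeRestrict ⟨n, hna⟩ ∈ N' := ⟨⟨n, hna⟩, hn, rfl⟩
        rw [hN', Subgroup.mem_bot] at h1
        refine Subtype.ext (Equiv.ext fun x => ?_)
        rcases eq_or_ne x a with rfl | hx
        · exact hna
        · have h2 := congrArg (fun q : f.range => ((q : Equiv.Perm {x : α // x ≠ a}) ⟨x, hx⟩ : α)) h1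
          exact h2
      have hpt : ∀ x ∈ N, ∀ y ∈ N, x • a = y • a → x = y := fun x hx y hy h =>
        (inv_mul_eq_one.1 (hreg _ (mul_mem (inv_mem hy) hx) (by rw [mul_smul, h, inv_smul_smul]))).symm
      have hconj : ∀ g : G, g • a = a → ∀ x ∈ N, g • (x • a) = x • a → g * x * g⁻¹ = x := fun g hga x hx h => by
        refine hpt _ (Subgroup.Normal.conj_mem ‹_› x hx g) x hx ?_
        rw [mul_smul, mul_smul, show g⁻¹ • a = a from inv_smul_eq_iff.2 hga.symm, h]
      have hsurj : ∀ c : α, ∃ x ∈ N, x • a = c := fun c => by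
        obtain ⟨x, hx⟩ := MulAction.exists_smul_eq N a c
        exact ⟨x, x.2, hx⟩
      have hsq : ∀ x ∈ N, x * x = 1 := by
        intro x hx
        by_contra hxx
        have hx1 : x ≠ 1 := fun h => hxx (by rw [h, one_mul])
        have d1 : a ≠ x • a := fun h => hx1 (hreg x hx h.symm)
        have d2 : a ≠ x⁻¹ • a := fun h => hx1 (inv_eq_one.1 (hreg _ (inv_mem hx) h.symm))
        have d3 : x • a ≠ x⁻¹ • a := fun h => hxx (by
          have h1 := hpt x hx _ (inv_mem hx) h
          nth_rewrite 2 [h1]
          exact mul_inv_cancel x)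
        obtain ⟨c, hc⟩ : ∃ c, c ∉ ({a, x • a, x⁻¹ • a} : Finset α) := by
          by_contra hcon
          push Not at hcon
          have h1 : (Finset.univ : Finset α).card ≤ ({a, x • a, x⁻¹ • a} : Finset α).card :=
            Finset.card_le_card fun c _ => hcon c
          rw [Finset.card_univ] at h1
          have h2 : ({a, x • a, x⁻¹ • a} : Finset α).card ≤ 3 := Finset.card_le_three
          omega
        simp only [Finset.mem_insert, Finset.mem_singleton, not_or] at hc
        obtain ⟨g, hg⟩ := exists_move hG (m := 3) (by omega) hn.le (three a (x • a) (x⁻¹ • a) ⟨d1, d2, d3⟩)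
          (three a (x • a) c ⟨d1, Ne.symm hc.1, Ne.symm hc.2.1⟩)
        have g0 : g • a = a := hg 0
        have g1 : g • x • a = x • a := hg 1
        have g2 : g • x⁻¹ • a = c := hg 2
        have h3 := congrArg (·⁻¹) (hconj g g0 x hx g1)
        refine hc.2.2 ?_
        calc c = (g * x⁻¹ * g⁻¹) • a := by
              rw [mul_smul, mul_smul, show g⁻¹ • a = a from inv_smul_eq_iff.2 g0.symm, g2]
          _ = x⁻¹ • a := by
              rw [show g * x⁻¹ * g⁻¹ = (g * x * g⁻¹)⁻¹ by group]
              exact congrArg (· • a) h3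
      have hk3 : k + 1 = 3 := by
        by_contra hne
        obtain ⟨b, hb⟩ := Finset.exists_mem_notMem_of_card_lt_card (s := ({a} : Finset α)) (t := Finset.univ)
          (by rw [Finset.card_singleton, Finset.card_univ]; omega)
        obtain ⟨x, hx, hxb⟩ := hsurj b
        simp only [Finset.mem_singleton] at hb
        obtain ⟨c, hc⟩ := Finset.exists_mem_notMem_of_card_lt_card (s := ({a, x • a} : Finset α)) (t := Finset.univ)
          (by rw [Finset.card_univ]; exact lt_of_le_of_lt Finset.card_le_two (by omega))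
        obtain ⟨y, hy, hyc⟩ := hsurj c
        simp only [Finset.mem_insert, Finset.mem_singleton, not_or] at hc
        have hxy : x * y ∈ N := mul_mem hx hy
        have hyi : y⁻¹ = y := inv_eq_of_mul_eq_one_right (hsq y hy)
        have d1 : a ≠ x • a := fun h => hb.2 (hxb.symm.trans h.symm)
        have d2 : a ≠ y • a := fun h => hc.2.1 (hyc.symm.trans h.symm)
        have d3 : x • a ≠ y • a := fun h => hc.2.2 (hyc.symm.trans h.symm)
        have d4 : a ≠ (x * y) • a := fun h => d3 (congrArg (· • a) (by
          rw [mul_eq_one_iff_eq_inv.1 (hreg _ hxy h.symm), hyi] : x = y))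
        have d5 : x • a ≠ (x * y) • a := fun h => d2 (by
          rw [mul_smul] at h; exact smul_left_cancel x h)
        have d6 : y • a ≠ (x * y) • a := fun h => d1 (by
          have h1 := hpt y hy _ hxy h
          rw [show x = 1 from mul_eq_right.1 h1.symm, one_smul])
        obtain ⟨d, -, hd⟩ := Finset.exists_mem_notMem_of_card_lt_card
          (s := ({a, x • a, y • a, (x * y) • a} : Finset α)) (t := Finset.univ)
          (by rw [Finset.card_univ]; exact lt_of_le_of_lt Finset.card_le_four (by omega))
        simp only [Finset.mem_insert, Finset.mem_singleton, not_or] at hd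
        obtain ⟨g, hg⟩ := exists_move hG (m := 4) (by omega) hn.le
          (four a (x • a) (y • a) ((x * y) • a) ⟨d1, d2, d4, d3, d5, d6⟩)
          (four a (x • a) (y • a) d ⟨d1, d2, Ne.symm hd.1, d3, Ne.symm hd.2.1, Ne.symm hd.2.2.1⟩)
        have g0 : g • a = a := hg 0
        have g1 : g • x • a = x • a := hg 1
        have g2 : g • y • a = y • a := hg 2
        have g3 : g • (x * y) • a = d := hg 3
        refine hd.2.2.2 ?_
        calc d = (g * (x * y) * g⁻¹) • a := by
              rw [mul_smul, mul_smul g, show g⁻¹ • a = a from inv_smul_eq_iff.2 g0.symm, g3]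
          _ = (x * y) • a := by
              rw [show g * (x * y) * g⁻¹ = (g * x * g⁻¹) * (g * y * g⁻¹) by group, hconj g g0 x hx g1,
                hconj g g0 y hy g2]
      refine Or.inr ⟨hk3, ⟨⟨fun x y => Subtype.ext ?_⟩⟩, fun n hn => by rw [sq]; exact hsq n hn⟩
      have hi : ∀ z ∈ N, z⁻¹ = z := fun z hz => inv_eq_of_mul_eq_one_right (hsq z hz)
      show (x : G) * y = y * x
      rw [← hi _ (mul_mem x.2 y.2), mul_inv_rev, hi _ x.2, hi _ y.2]
    · -- induction on the stabiliser
      have hKc : Fintype.card {x : α // x ≠ a} + 1 = Fintype.card α := by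
        rw [Fintype.card_subtype_compl, Fintype.card_subtype_eq]; omega
      have hK : IsMultiplyPretransitive f.range {x : α // x ≠ a} k := by
        refine ⟨fun x y => ?_⟩
        obtain ⟨g, hg⟩ := MulAction.exists_smul_eq G (extend x) (extend y)
        have hga : g ∈ stabilizer G a := by
          have := DFunLike.congr_fun hg 0
          rw [Function.Embedding.smul_apply, extend_zero, extend_zero] at this
          exact this
        refine ⟨⟨f ⟨g, hga⟩, _, rfl⟩, DFunLike.ext _ _ fun i => Subtype.ext ?_⟩
        have := DFunLike.congr_fun hg i.succ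
        rw [Function.Embedding.smul_apply, extend_succ, extend_succ] at this
        exact this
      rcases ih f.range (by omega) hK N' hN' with h | ⟨hk3, hab, hexp⟩
      · left
        rw [show k + 1 - 1 = k - 1 + 1 by omega]
        refine ⟨fun x y => ?_⟩
        obtain ⟨p, hp⟩ := MulAction.exists_smul_eq N (x 0) a
        obtain ⟨q, hq⟩ := MulAction.exists_smul_eq N (y 0) a
        let tl : (z : Fin (k - 1 + 1) ↪ α) → (r : N) → r • z 0 = a → (Fin (k - 1) ↪ {x : α // x ≠ a}) := fun z r hr =>
          ⟨fun i => ⟨r • z i.succ, fun h => Fin.succ_ne_zero i (z.injective (smul_left_cancel r (h.trans hr.symm)))⟩,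
            fun i j h => Fin.succ_injective _ (z.injective (smul_left_cancel r (congrArg Subtype.val h)))⟩
        obtain ⟨⟨_, ⟨u, hu, rfl⟩⟩, hg⟩ := MulAction.exists_smul_eq N' (tl x p hp) (tl y q hq)
        refine ⟨q⁻¹ * ⟨(u : G), hu⟩ * p, DFunLike.ext _ _ fun i => ?_⟩
        rw [Function.Embedding.smul_apply, mul_smul, mul_smul, inv_smul_eq_iff]
        refine Fin.cases ?_ (fun j => ?_) i
        · rw [hp, hq]
          exact u.2
        · exact congrArg Subtype.val (DFunLike.congr_fun hg j)
      · -- `N` would be sharply doubly transitive with stabilisers of exponent two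
        exfalso
        have hN't : IsPretransitive N' {x : α // x ≠ a} := normal_transitive hK hk (by omega) N' hN'
        have hfree : ∀ n ∈ N, ∀ b : α, b ≠ a → n • a = a → n • b = b → n = 1 := by
          intro n hn b hb hna hnb
          refine Subtype.ext (Equiv.ext fun x => ?_)
          rcases eq_or_ne x a with rfl | hx
          · exact hna
          obtain ⟨⟨p, hp⟩, hpb⟩ := MulAction.exists_smul_eq N' (⟨b, hb⟩ : {x : α // x ≠ a}) ⟨x, hx⟩
          have hcomm := hab.is_comm.comm (⟨p, hp⟩ : N') ⟨f.rangeRestrict ⟨n, hna⟩, ⟨⟨n, hna⟩, hn, rfl⟩⟩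
          have h1 : (f.rangeRestrict ⟨n, hna⟩) • (⟨b, hb⟩ : {x : α // x ≠ a}) = ⟨b, hb⟩ := Subtype.ext hnb
          have h2 : (f.rangeRestrict ⟨n, hna⟩) • (⟨x, hx⟩ : {x : α // x ≠ a}) = ⟨x, hx⟩ := by
            rw [← hpb]
            change (f.rangeRestrict ⟨n, hna⟩) • p • (⟨b, hb⟩ : {x : α // x ≠ a}) = p • ⟨b, hb⟩
            rw [← mul_smul, show f.rangeRestrict ⟨n, hna⟩ * p = p * f.rangeRestrict ⟨n, hna⟩ from
              (congrArg Subtype.val hcomm).symm, mul_smul, h1]
          exact congrArg Subtype.val h2
        have hfree' : ∀ n ∈ N, ∀ c d : α, c ≠ d → n • c = c → n • d = d → n = 1 := by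
          intro n hn c d hcd hnc hnd
          obtain ⟨r, hr⟩ := MulAction.exists_smul_eq N c a
          have hr' : (r : G)⁻¹ • a = c := inv_smul_eq_iff.2 hr.symm
          have h1 : (r : G) * n * (r : G)⁻¹ = 1 := hfree _ (mul_mem (mul_mem r.2 hn) (inv_mem r.2)) ((r : G) • d)
            (fun h => hcd.symm (smul_left_cancel (r : G) (h.trans hr.symm)))
            (by rw [mul_smul, mul_smul, hr', hnc]; exact hr)
            (by rw [mul_smul, mul_smul, inv_smul_smul, hnd])
          exact conj_eq_one_iff.1 h1
        -- the involutions fixing `c`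
        have hsqa : ∀ n ∈ N, n • a = a → n * n = 1 := fun n hn hna => by
          have h1 := hexp _ (⟨⟨n, hna⟩, hn, rfl⟩ : f.rangeRestrict ⟨n, hna⟩ ∈ N')
          refine Subtype.ext (Equiv.ext fun x => ?_)
          rcases eq_or_ne x a with rfl | hx
          · show n • n • x = x
            rw [hna, hna]
          · have h2 := congrArg (fun q : f.range => ((q : Equiv.Perm {x : α // x ≠ a}) ⟨x, hx⟩ : α)) h1
            simp only [sq] at h2
            exact h2
        have hsqc : ∀ c : α, ∀ n ∈ N, n • c = c → n * n = 1 := by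
          intro c n hn hnc
          obtain ⟨r, hr⟩ := MulAction.exists_smul_eq N c a
          have hr' : (r : G)⁻¹ • a = c := inv_smul_eq_iff.2 hr.symm
          have h1 := hsqa _ (mul_mem (mul_mem r.2 hn) (inv_mem r.2)) (by rw [mul_smul, mul_smul, hr', hnc]; exact hr)
          rw [show (r : G) * n * (r : G)⁻¹ * ((r : G) * n * (r : G)⁻¹) = (r : G) * (n * n) * (r : G)⁻¹ by group] at h1
          exact conj_eq_one_iff.1 h1
        -- each point has `n - 1` elements in its stabiliser
        have hcard : ∀ c d : α, d ≠ c → ∀ e : α, e ≠ c → ∃ n ∈ N, n • c = c ∧ n • d = e := by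
          intro c d hdc e hec
          obtain ⟨r, hr⟩ := MulAction.exists_smul_eq N c a
          have hr' : (r : G)⁻¹ • a = c := inv_smul_eq_iff.2 hr.symm
          obtain ⟨⟨_, ⟨u, hu, rfl⟩⟩, hg⟩ := MulAction.exists_smul_eq N'
            (⟨(r : G) • d, fun h => hdc (smul_left_cancel (r : G) (h.trans hr.symm))⟩ : {x : α // x ≠ a})
            ⟨(r : G) • e, fun h => hec (smul_left_cancel (r : G) (h.trans hr.symm))⟩
          refine ⟨(r : G)⁻¹ * u * r, mul_mem (mul_mem (inv_mem r.2) hu) r.2, ?_, ?_⟩
          · rw [mul_smul, mul_smul, show (r : G) • c = a from hr, show (u : G) • a = a from u.2, hr']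
          · rw [mul_smul, mul_smul, show (u : G) • (r : G) • d = (r : G) • e from congrArg Subtype.val hg, inv_smul_smul]
        obtain ⟨b, -, hb⟩ := Finset.exists_mem_notMem_of_card_lt_card (s := ({a} : Finset α)) (t := Finset.univ)
          (by rw [Finset.card_singleton, Finset.card_univ]; omega)
        obtain ⟨x, -, hx⟩ := Finset.exists_mem_notMem_of_card_lt_card (s := ({a, b} : Finset α)) (t := Finset.univ)
          (by rw [Finset.card_univ]; exact lt_of_le_of_lt Finset.card_le_two (by omega))
        simp only [Finset.mem_insert, Finset.mem_singleton, not_or] at hx hb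
        obtain ⟨y, -, hy⟩ := Finset.exists_mem_notMem_of_card_lt_card (s := ({a, b, x} : Finset α)) (t := Finset.univ)
          (by rw [Finset.card_univ]; exact lt_of_le_of_lt Finset.card_le_three (by omega))
        simp only [Finset.mem_insert, Finset.mem_singleton, not_or] at hy
        -- the elements of the stabilisers of `a` and `b` moving `x` to `y`
        obtain ⟨n, hn, hna, hnx⟩ := hcard a x hx.1 y hy.1
        obtain ⟨m, hm, hmb, hmx⟩ := hcard b x hx.2 y hy.2.1
        have hnm : m⁻¹ * n = 1 := by
          refine hfree' _ (mul_mem (inv_mem hm) hn) x y (Ne.symm hy.2.2) ?_ ?_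
          · rw [mul_smul, hnx, inv_smul_eq_iff, hmx]
          · have e1 : n • y = x := by
              rw [← hnx, ← mul_smul, hsqc a n hn hna, one_smul]
            have e2 : m • y = x := by
              rw [← hmx, ← mul_smul, hsqc b m hm hmb, one_smul]
            rw [mul_smul, e1, inv_smul_eq_iff, e2]
        rw [inv_mul_eq_one] at hnm
        subst hnm
        have h1 : m = 1 := hfree' m hm a b (Ne.symm hb) hna hmb
        rw [h1, one_smul] at hmx
        exact hy.2.2 hmx.symm

end Cfsg.Lib.JordanNormal
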