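import Cfsg.Agent.RankOne.SharpPGL
import Cfsg.Agent.RankOne.JordanNormal
import Mathlib

/-! Sharply triply transitive permutation groups: they are Zassenhaus groups, and those of odd degree
are the groups `PGL(2, 2^f)`. -/

set_option autoImplicit false
set_option linter.unusedSectionVars false

open MulAction

namespace Cfsg.Lib.RankOne

open Cfsg.Lib.OddChar.Zassenhaus

variable {α : Type*} [Fintype α] [DecidableEq α] {G : Subgroup (Equiv.Perm α)}

theorem sharp_fix_three (hsharp : ∀ x : Fin 3 ↪ α, stabilizer G x = ⊥) (g : G) (a b c : α)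
    (hab : a ≠ b) (hbc : b ≠ c) (hac : a ≠ c) (ha : g • a = a) (hb : g • b = b) (hc : g • c = c) : g = 1 := by
  have h1 : g ∈ stabilizer G (Cfsg.Lib.JordanNormal.three a b c ⟨hab, hac, hbc⟩) :=
    mem_stabilizer_iff.2 (DFunLike.ext _ _ fun i => by
      fin_cases i <;> first | exact ha | exact hb | exact hc)
  rwa [hsharp, Subgroup.mem_bot] at h1

theorem sharp_map (h3 : IsMultiplyPretransitive G α 3) {a b c a' b' c' : α} (hab : a ≠ b) (hac : a ≠ c)
    (hbc : b ≠ c) (hab' : a' ≠ b') (hac' : a' ≠ c') (hbc' : b' ≠ c') :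
    ∃ g : G, g • a = a' ∧ g • b = b' ∧ g • c = c' := by
  obtain ⟨g, hg⟩ := MulAction.exists_smul_eq G (Cfsg.Lib.JordanNormal.three a b c ⟨hab, hac, hbc⟩)
    (Cfsg.Lib.JordanNormal.three a' b' c' ⟨hab', hac', hbc'⟩)
  exact ⟨g, DFunLike.congr_fun hg 0, DFunLike.congr_fun hg 1, DFunLike.congr_fun hg 2⟩

theorem exists_third (hn : 3 ≤ Fintype.card α) (a b : α) : ∃ c, c ≠ a ∧ c ≠ b := by
  obtain ⟨c, -, hc⟩ := Finset.exists_mem_notMem_of_card_lt_card (s := ({a, b} : Finset α)) (t := Finset.univ)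
    (by rw [Finset.card_univ]; exact lt_of_le_of_lt Finset.card_le_two (by omega))
  simp only [Finset.mem_insert, Finset.mem_singleton, not_or] at hc
  exact ⟨c, hc⟩

theorem sharp_two (h3 : IsMultiplyPretransitive G α 3) (hn : 3 ≤ Fintype.card α) :
    IsMultiplyPretransitive G α 2 :=
  @MulAction.isMultiplyPretransitive_of_le G α _ _ 2 3 h3 (by norm_num) (by simpa using hn) _

/-- A sharply triply transitive group of degree at least five is a Zassenhaus group. -/
theorem zassenhaus_of_sharp (h3 : IsMultiplyPretransitive G α 3)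
    (hsharp : ∀ x : Fin 3 ↪ α, stabilizer G x = ⊥) (hn : 5 ≤ Fintype.card α) :
    Cfsg.IsZassenhausGroup G α := by
  classical
  refine ⟨inferInstance, sharp_two h3 (by omega), sharp_fix_three hsharp, ?_, fun N hN hNt => ?_⟩
  · obtain ⟨a, b, hab⟩ := Fintype.exists_pair_of_one_lt_card (α := α) (by omega)
    obtain ⟨c, hca, hcb⟩ := exists_third (by omega) a b
    obtain ⟨d, -, hd⟩ := Finset.exists_mem_notMem_of_card_lt_card (s := ({a, b, c} : Finset α)) (t := Finset.univ)
      (by rw [Finset.card_univ]; exact lt_of_le_of_lt Finset.card_le_three (by omega))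
    simp only [Finset.mem_insert, Finset.mem_singleton, not_or] at hd
    obtain ⟨g, ga, gb, gc⟩ := sharp_map h3 hab hca.symm hcb.symm hab (Ne.symm hd.1) (Ne.symm hd.2.1)
    exact ⟨g, fun h => hd.2.2 (by rw [← gc, h, one_smul]), a, b, hab, ga, gb⟩
  by_contra hcon
  push Not at hcon
  obtain ⟨a⟩ : Nonempty α := Fintype.card_pos_iff.1 (by omega)
  have hreg : ∀ n ∈ N, n • a = a → n = 1 := fun n hn' h => by
    have h1 : (⟨n, hn'⟩ : N) ∈ stabilizer N a := h
    rw [hcon, Subgroup.mem_bot] at h1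
    exact congrArg Subtype.val h1
  have hpt : ∀ x ∈ N, ∀ y ∈ N, x • a = y • a → x = y := fun x hx y hy h =>
    (inv_mul_eq_one.1 (hreg _ (mul_mem (inv_mem hy) hx) (by rw [mul_smul, h, inv_smul_smul]))).symm
  have hsurj : ∀ c : α, ∃ x ∈ N, x • a = c := fun c => by
    have := hNt
    obtain ⟨x, hx⟩ := MulAction.exists_smul_eq N a c
    exact ⟨x, x.2, hx⟩
  obtain ⟨b, hb⟩ : ∃ b, b ≠ a := ⟨(exists_third (by omega) a a).choose, (exists_third (by omega) a a).choose_spec.1⟩
  have hN1 : N ≠ ⊥ := fun h => by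
    obtain ⟨x, hx, hxb⟩ := hsurj b
    rw [h, Subgroup.mem_bot] at hx
    exact hb (by rw [← hxb, hx, one_smul])
  obtain ⟨hab', hsq⟩ : IsMulCommutative N ∧ ∀ n ∈ N, n ^ 2 = 1 := by
    rcases Cfsg.Lib.JordanNormal.jordan 3 (by norm_num) G (by omega) h3 N hN1 with h | h
    · exfalso
      obtain ⟨c, hca, hcb⟩ := exists_third (by omega) a b
      obtain ⟨g, hga, hgb⟩ := MulAction.is_two_pretransitive_iff.1 h hb.symm hca.symm
      have h1 : (g : G) = 1 := hreg _ g.2 hga
      exact hcb (hgb.symm.trans ((congrArg (fun q : G => q • b) h1).trans (one_smul G b)))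
    · exact h.2
  have hcomm : ∀ x ∈ N, ∀ y ∈ N, x * y = y * x := fun x hx y hy =>
    congrArg Subtype.val (hab'.is_comm.comm (⟨x, hx⟩ : N) ⟨y, hy⟩)
  have hinv : ∀ x ∈ N, x * x = 1 := fun x hx => by rw [← sq]; exact hsq x hx
  obtain ⟨x, hx, hxb⟩ := hsurj b
  obtain ⟨c, hca, hcb⟩ := exists_third (by omega) a b
  obtain ⟨y, hy, hyc⟩ := hsurj c
  obtain ⟨t, ta, tb, tc⟩ := sharp_map h3 hb.symm hca.symm hcb.symm hca.symm hb.symm hcb
  have ht2 : t * t = 1 := sharp_fix_three hsharp _ a b c hb.symm hcb.symm hca.symm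
    (by rw [mul_smul, ta, ta]) (by rw [mul_smul, tb, tc]) (by rw [mul_smul, tc, tb])
  have hconjN : ∀ n ∈ N, t * n * t⁻¹ ∈ N := fun n hn' => hN.conj_mem n hn' t
  have hconj : ∀ n ∈ N, (t * n * t⁻¹) • a = t • n • a := fun n _ => by
    rw [mul_smul, mul_smul, show t⁻¹ • a = a from inv_smul_eq_iff.2 ta.symm]
  have htx : t * x * t⁻¹ = y := hpt _ (hconjN x hx) y hy (by rw [hconj x hx, hxb, tb, hyc])
  have hty : t * y * t⁻¹ = x := hpt _ (hconjN y hy) x hx (by rw [hconj y hy, hyc, tc, hxb])
  set z := x * y with hz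
  have hzN : z ∈ N := mul_mem hx hy
  have htz : t * z * t⁻¹ = z := by
    rw [hz, show t * (x * y) * t⁻¹ = (t * x * t⁻¹) * (t * y * t⁻¹) by group, htx, hty, hcomm y hy x hx]
  have hza : z • a ≠ a := fun h => by
    have h1 : x = y := by
      rw [← inv_eq_of_mul_eq_one_right (hinv x hx)]
      exact (inv_eq_of_mul_eq_one_right (hreg z hzN h))
    exact hcb (by rw [← hxb, ← hyc, h1])
  have hfixed : ∀ u ∈ N, t * u * t⁻¹ = u → u = 1 ∨ u = z := by
    intro u hu htu
    by_contra hne
    push Not at hne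
    have hua : u • a ≠ a := fun h => hne.1 (hreg u hu h)
    have huz : u • a ≠ z • a := fun h => hne.2 (hpt u hu z hzN h)
    have h1 : t = 1 := sharp_fix_three hsharp t a (z • a) (u • a) hza.symm huz.symm hua.symm ta
      (by rw [← hconj z hzN, htz]) (by rw [← hconj u hu, htu])
    exact hcb (by rw [← tb, h1, one_smul])
  have hall : ∀ w ∈ N, w = 1 ∨ w = z ∨ w = x ∨ w = y := by
    intro w hw
    set w' := t * w * t⁻¹ with hw'
    have hw'N : w' ∈ N := hconjN w hw
    have htw' : t * w' * t⁻¹ = w := by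
      rw [hw', show t * (t * w * t⁻¹) * t⁻¹ = (t * t) * w * (t * t)⁻¹ by group, ht2]; group
    have hfix : t * (w * w') * t⁻¹ = w * w' := by
      rw [show t * (w * w') * t⁻¹ = (t * w * t⁻¹) * (t * w' * t⁻¹) by group, ← hw', htw', hcomm w' hw'N w hw]
    rcases hfixed _ (mul_mem hw hw'N) hfix with h | h
    · have h1 : w' = w := by
        rw [← inv_eq_of_mul_eq_one_right (hinv w hw)]
        exact (inv_eq_of_mul_eq_one_right h).symm
      rcases hfixed w hw h1 with h | h
      · exact Or.inl h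
      · exact Or.inr (Or.inl h)
    · have h1 : w' = w * z := by
        rw [← h, ← mul_assoc, hinv w hw, one_mul]
      have h2 : t * (w * x) * t⁻¹ = w * x := by
        rw [show t * (w * x) * t⁻¹ = (t * w * t⁻¹) * (t * x * t⁻¹) by group, ← hw', h1, htx, hz,
          mul_assoc w, mul_assoc x, hinv y hy, mul_one]
      rcases hfixed _ (mul_mem hw hx) h2 with h3 | h3
      · refine Or.inr (Or.inr (Or.inl ?_))
        rw [mul_eq_one_iff_eq_inv.1 h3, inv_eq_of_mul_eq_one_right (hinv x hx)]
      · refine Or.inr (Or.inr (Or.inr ?_))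
        rw [hz, hcomm x hx y hy] at h3
        exact mul_right_cancel h3
  have hle : (Finset.univ : Finset α) ⊆ {a, z • a, b, c} := fun q _ => by
    obtain ⟨w, hw, rfl⟩ := hsurj q
    rcases hall w hw with rfl | rfl | rfl | rfl
    · simp
    · simp
    · rw [hxb]; simp
    · rw [hyc]; simp
  have h4 := (Finset.card_le_card hle).trans Finset.card_le_four
  rw [Finset.card_univ] at h4
  omega

/-- The order of a two-point stabiliser. -/
theorem sharp_card_stab₂ (h3 : IsMultiplyPretransitive G α 3) (hsharp : ∀ x : Fin 3 ↪ α, stabilizer G x = ⊥)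
    (hn : 3 ≤ Fintype.card α) {a b : α} (hab : a ≠ b) :
    Nat.card (stab₂ G a b) + 2 = Fintype.card α := by
  classical
  obtain ⟨c, hca, hcb⟩ := exists_third hn a b
  have hbij : Function.Bijective fun g : stab₂ G a b => (⟨(g : G) • c, by
      have hga : (g : G) • a = a := g.2.1
      have hgb : (g : G) • b = b := g.2.2
      simp only [Finset.mem_sdiff, Finset.mem_univ, true_and, Finset.mem_insert, Finset.mem_singleton, not_or]
      exact ⟨fun h => hca (smul_left_cancel (g : G) (h.trans hga.symm)),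
        fun h => hcb (smul_left_cancel (g : G) (h.trans hgb.symm))⟩⟩ : ↥((Finset.univ : Finset α) \ {a, b})) := by
    constructor
    · intro g g' h
      have h1 : (g : G) • c = (g' : G) • c := congrArg Subtype.val h
      refine Subtype.ext (inv_mul_eq_one.1 (sharp_fix_three hsharp _ a b c hab hcb.symm hca.symm ?_ ?_ ?_)).symm
      · rw [mul_smul, show (g : G) • a = a from g.2.1, inv_smul_eq_iff, show (g' : G) • a = a from g'.2.1]
      · rw [mul_smul, show (g : G) • b = b from g.2.2, inv_smul_eq_iff, show (g' : G) • b = b from g'.2.2]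
      · rw [mul_smul, h1, inv_smul_smul]
    · rintro ⟨d, hd⟩
      simp only [Finset.mem_sdiff, Finset.mem_univ, true_and, Finset.mem_insert, Finset.mem_singleton, not_or] at hd
      obtain ⟨g, ga, gb, gc⟩ := sharp_map h3 hab hca.symm hcb.symm hab (Ne.symm hd.1) (Ne.symm hd.2)
      exact ⟨⟨g, ga, gb⟩, Subtype.ext gc⟩
  rw [Nat.card_congr (Equiv.ofBijective _ hbij), Nat.card_eq_finsetCard,
    Finset.card_sdiff_of_subset (Finset.subset_univ _), Finset.card_univ, Finset.card_pair hab]
  omega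

theorem sharp_swapper (h3 : IsMultiplyPretransitive G α 3) (hsharp : ∀ x : Fin 3 ↪ α, stabilizer G x = ⊥)
    {a b c : α} (hab : a ≠ b) (hac : a ≠ c) (hbc : b ≠ c) :
    ∃ s : G, s • a = b ∧ s • b = a ∧ s • c = c ∧ s * s = 1 := by
  obtain ⟨s, sa, sb, sc⟩ := sharp_map h3 hab hac hbc hab.symm hbc hac
  exact ⟨s, sa, sb, sc, sharp_fix_three hsharp _ a b c hab hbc hac (by rw [mul_smul, sa, sb])
    (by rw [mul_smul, sb, sa]) (by rw [mul_smul, sc, sc])⟩

/-- In odd degree the two-point stabiliser is inverted by a swapping involution, so it is abelian. -/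
theorem sharp_odd_comm (h3 : IsMultiplyPretransitive G α 3) (hsharp : ∀ x : Fin 3 ↪ α, stabilizer G x = ⊥)
    (hn : 3 ≤ Fintype.card α) (hodd : Odd (Fintype.card α)) {a b : α} (hab : a ≠ b) :
    ∀ x ∈ stab₂ G a b, ∀ y ∈ stab₂ G a b, x * y = y * x := by
  classical
  obtain ⟨c, hca, hcb⟩ := exists_third hn a b
  obtain ⟨s, sa, sb, sc, s2⟩ := sharp_swapper h3 hsharp hab hca.symm hcb.symm
  have hs1 : s ≠ 1 := fun h => hab (by rw [h, one_smul] at sa; exact sa)
  -- `c` is the only fixed point of `s`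
  have honly : ∀ d : α, s • d = d → d = c := by
    intro d hd
    by_contra hdc
    have hall : ∀ e : α, s • e = e → e = c ∨ e = d := fun e he => by
      by_contra hne
      push Not at hne
      exact hs1 (sharp_fix_three hsharp s c d e (Ne.symm hdc) hne.2.symm hne.1.symm sc hd he)
    have hinv : ((s : G) : Equiv.Perm α).support = Finset.univ \ {c, d} := by
      ext e
      simp only [Equiv.Perm.mem_support, Finset.mem_sdiff, Finset.mem_univ, true_and, Finset.mem_insert,
        Finset.mem_singleton, not_or]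
      refine ⟨fun h => ⟨fun he => h (he ▸ sc), fun he => h (he ▸ hd)⟩, fun h he => ?_⟩
      rcases hall e he with h' | h'
      · exact h.1 h'
      · exact h.2 h'
    have h2 : ((s : G) : Equiv.Perm α) * (s : G) = 1 := congrArg Subtype.val s2
    have hd2 : 2 ∣ ((s : G) : Equiv.Perm α).support.card := by
      rw [← Equiv.Perm.sum_cycleType]
      refine Multiset.dvd_sum fun l hl => ?_
      have h3 := (Equiv.Perm.dvd_of_mem_cycleType hl).trans (orderOf_dvd_of_pow_eq_one (n := 2) (by rw [sq]; exact h2))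
      have h4 := Equiv.Perm.two_le_of_mem_cycleType hl
      have h5 := Nat.le_of_dvd two_pos h3
      rw [show l = 2 by omega]
    rw [hinv, Finset.card_sdiff_of_subset (Finset.subset_univ _), Finset.card_univ,
      Finset.card_pair (Ne.symm hdc)] at hd2
    rw [Nat.odd_iff] at hodd
    omega
  have hsi : s⁻¹ = s := inv_eq_of_mul_eq_one_right s2
  let E := stab₂ G a b
  have hsE : ∀ u ∈ E, s * u * s⁻¹ ∈ E := fun u hu => ⟨by
      show (s * u * s⁻¹) • a = a
      rw [hsi, mul_smul, mul_smul, sa, show u • b = b from hu.2, sb], by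
      show (s * u * s⁻¹) • b = b
      rw [hsi, mul_smul, mul_smul, sb, show u • a = a from hu.1, sa]⟩
  have hinvE : ∀ u ∈ E, s * u * s⁻¹ = u⁻¹ := inverts_of_fpf s2 hsE fun u hu hc => by
    have h1 : s • u • c = u • c := by rw [← mul_smul, hc, mul_smul, sc]
    exact sharp_fix_three hsharp u a b c hab hcb.symm hca.symm hu.1 hu.2 (honly _ h1)
  intro x hx y hy
  have h1 := hinvE _ (mul_mem hx hy)
  rw [show s * (x * y) * s⁻¹ = (s * x * s⁻¹) * (s * y * s⁻¹) by group, hinvE x hx, hinvE y hy, ← mul_inv_rev,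
    inv_inj] at h1
  exact h1.symm

/-- The symmetric groups of degree three and four. -/
theorem sharp_small {q : ℕ} [Fact q.Prime] (hq : q ≤ 3) (hα : Fintype.card α = q + 1)
    (h3 : IsMultiplyPretransitive G α 3) :
    Nonempty (G ≃* Matrix.ProjGenLinGroup (Fin 2) (ZMod q)) := by
  classical
  have hq2 := (Fact.out : q.Prime).two_le
  have h : 3 ≤ Fintype.card α := by omega
  obtain ⟨x⟩ : Nonempty (Fin 3 ↪ α) := Function.Embedding.nonempty_of_card_le (by simpa using h)
  have hGc : (Fintype.card α).descFactorial 3 ≤ Nat.card G := by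
    have h1 : Function.Surjective fun g : G => g • x := fun y => MulAction.exists_smul_eq G x y
    have h2 := Nat.card_le_card_of_surjective _ h1
    rwa [Nat.card_eq_fintype_card (α := Fin 3 ↪ α), Fintype.card_embedding_eq, Fintype.card_fin] at h2
  have hfac : (Fintype.card α).descFactorial 3 = (Fintype.card α).factorial := by
    rw [hα]; interval_cases q <;> decide
  have hP : Nat.card (Equiv.Perm α) = (Fintype.card α).factorial := by
    rw [Nat.card_eq_fintype_card, Fintype.card_perm]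
  have hGtop : G = ⊤ := Subgroup.eq_top_of_card_eq G (le_antisymm
    (Nat.card_le_card_of_injective _ Subtype.val_injective) (by omega))
  let ψ : Matrix.ProjGenLinGroup (Fin 2) (ZMod q) →* Equiv.Perm (OnePoint (ZMod q)) :=
    QuotientGroup.lift (Subgroup.center (GL (Fin 2) (ZMod q))) mobiusGL (le_of_eq mobiusGL_ker.symm)
  have hψ : Function.Injective ψ := by
    rw [← MonoidHom.ker_eq_bot_iff, eq_bot_iff]
    intro v hv
    obtain ⟨M, rfl⟩ := QuotientGroup.mk_surjective v
    have h1 : M ∈ Subgroup.center (GL (Fin 2) (ZMod q)) := mobiusGL_ker (F := ZMod q) ▸ (MonoidHom.mem_ker.2 hv)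
    exact Subgroup.mem_bot.2 ((QuotientGroup.eq_one_iff M).2 h1)
  have hO : Fintype.card (OnePoint (ZMod q)) = q + 1 := by
    rw [show Fintype.card (OnePoint (ZMod q)) = Fintype.card (Option (ZMod q)) from Fintype.card_congr (Equiv.refl _),
      Fintype.card_option, ZMod.card]
  have hc : Nat.card (Equiv.Perm (OnePoint (ZMod q))) ≤ Nat.card (Matrix.ProjGenLinGroup (Fin 2) (ZMod q)) := by
    rw [Nat.card_eq_fintype_card, Fintype.card_perm, hO, Cfsg.Lib.Classical.card_PGL]
    have h2 := Cfsg.Lib.Classical.card_SL_mul (ι := Fin 2) (F := ZMod q)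
    rw [Matrix.card_GL_field] at h2
    simp only [Fin.prod_univ_two, Fin.val_zero, Fin.val_one, pow_zero, pow_one, Nat.card_zmod, ZMod.card] at h2
    interval_cases q
    · norm_num [Nat.factorial] at h2 ⊢; omega
    · norm_num [Nat.factorial] at h2 ⊢; omega
  have hψb : Function.Bijective ψ := hψ.bijective_of_nat_card_le hc
  let e : α ≃ OnePoint (ZMod q) := Fintype.equivOfCardEq (by rw [hα, hO])
  exact ⟨((MulEquiv.subgroupCongr hGtop).trans Subgroup.topEquiv).trans
    (e.permCongrHom.trans (MulEquiv.ofBijective ψ hψb).symm)⟩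

/-- A sharply triply transitive group of odd degree `q + 1` is `PGL(2, q)`. -/
theorem sharp_odd (h3 : IsMultiplyPretransitive G α 3) (hsharp : ∀ x : Fin 3 ↪ α, stabilizer G x = ⊥)
    (hn : 3 ≤ Fintype.card α) (hodd : Odd (Fintype.card α)) :
    ∃ (F : Type) (_ : Field F) (_ : Fintype F), Fintype.card F + 1 = Fintype.card α ∧ ringChar F = 2 ∧
      Nonempty (G ≃* Matrix.ProjGenLinGroup (Fin 2) F) := by
  classical
  suffices h : ∃ (F : Type) (_ : Field F) (_ : Fintype F), Fintype.card F + 1 = Fintype.card α ∧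
      Nonempty (G ≃* Matrix.ProjGenLinGroup (Fin 2) F) by
    obtain ⟨F, iF, iFF, hF, hiso⟩ := h
    refine ⟨F, iF, iFF, hF, FiniteField.even_card_iff_char_two.2 ?_, hiso⟩
    rw [Nat.odd_iff] at hodd
    omega
  rcases Nat.lt_or_ge (Fintype.card α) 5 with h5 | h5
  · have : Fact (Nat.Prime 2) := ⟨Nat.prime_two⟩
    have hc : Fintype.card α = 2 + 1 := by rw [Nat.odd_iff] at hodd; omega
    exact ⟨ZMod 2, inferInstance, inferInstance, by rw [ZMod.card, hc], sharp_small (by norm_num) hc h3⟩
  obtain ⟨a, b, hab⟩ := Fintype.exists_pair_of_one_lt_card (α := α) (by omega)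
  have hZ := zassenhaus_of_sharp h3 hsharp h5
  obtain ⟨H, hHa, hHc, hHf⟩ := exists_kernel hZ hab
  obtain ⟨F, iF, iFF, hF, hiso⟩ := sharp_pgl hZ hab (sharp_card_stab₂ h3 hsharp hn hab)
    (sharp_odd_comm h3 hsharp hn hodd hab) hHa hHc hHf
  exact ⟨F, iF, iFF, by rw [hF, hHc], hiso⟩

/-- In characteristic two `PGL` and `SL` of degree two are isomorphic. -/
theorem pgl_mulEquiv_sl {F : Type*} [Field F] [Fintype F] (h2 : ringChar F = 2) :
    Nonempty (Matrix.ProjGenLinGroup (Fin 2) F ≃* Matrix.SpecialLinearGroup (Fin 2) F) := by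
  classical
  have : CharP F 2 := h2 ▸ ringChar.charP F
  let φ : Matrix.SpecialLinearGroup (Fin 2) F →* Matrix.ProjGenLinGroup (Fin 2) F :=
    (Matrix.ProjGenLinGroup.mk (n := Fin 2) (R := F)).comp Matrix.SpecialLinearGroup.toGL
  have hφ : Function.Injective φ := by
    rw [← MonoidHom.ker_eq_bot_iff, eq_bot_iff]
    intro M hM
    have h1 : Matrix.SpecialLinearGroup.toGL M ∈ Subgroup.center (GL (Fin 2) F) :=
      (QuotientGroup.eq_one_iff _).1 hM
    have h3 : M ∈ Subgroup.center (Matrix.SpecialLinearGroup (Fin 2) F) := Subgroup.mem_center_iff.2 fun N =>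
      Cfsg.Lib.Classical.toGL_injective' (by rw [map_mul, map_mul, Subgroup.mem_center_iff.1 h1])
    obtain ⟨r, hr, hM'⟩ := Matrix.SpecialLinearGroup.mem_center_iff.1 h3
    rw [Fintype.card_fin] at hr
    have hr1 : r = 1 := by
      have h4 : (r - 1) * (r - 1) = 0 := by
        have h5 : (2 : F) = 0 := CharTwo.two_eq_zero
        linear_combination hr - (r - 1) * h5
      exact sub_eq_zero.1 (mul_self_eq_zero.1 h4)
    rw [Subgroup.mem_bot]
    ext i k
    rw [← hM', hr1]
    simp [Matrix.scalar_apply]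
  have : Finite (Matrix.ProjGenLinGroup (Fin 2) F) := Finite.of_surjective _ Matrix.ProjGenLinGroup.mk_surjective
  exact ⟨(MulEquiv.ofBijective φ (hφ.bijective_of_nat_card_le (le_of_eq Cfsg.Lib.Classical.card_PGL))).symm⟩

end Cfsg.Lib.RankOne
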