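import Cfsg.Agent.OddChar.Zassenhaus.Results
import Cfsg.Agent.OddChar.Zassenhaus.Feit
import Cfsg.Agent.Frobenius.FpfGroups
import Mathlib

/-! The order of a two-point stabiliser of a Zassenhaus group and the structure of the kernel. -/

set_option autoImplicit false
set_option linter.unusedSectionVars false

open MulAction

namespace Cfsg.Lib.RankOne

open Cfsg.Lib.OddChar.Zassenhaus

variable {G Ω : Type*} [Group G] [Finite G] [MulAction G Ω] [Fintype Ω]
variable {a b : Ω} {H : Subgroup G}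

/-- An element of order two normalising a subgroup without fixed points inverts it. -/
theorem inverts_of_fpf {z : G} (hz2 : z * z = 1) {H : Subgroup G} (hn : ∀ u ∈ H, z * u * z⁻¹ ∈ H)
    (hf : ∀ u ∈ H, z * u = u * z → u = 1) : ∀ u ∈ H, z * u * z⁻¹ = u⁻¹ := by
  let φ : H →* H :=
    { toFun := fun u => ⟨z * u * z⁻¹, hn u u.2⟩
      map_one' := Subtype.ext (by simp)
      map_mul' := fun x y => Subtype.ext (by simp [mul_assoc]) }
  have hφ : MonoidHom.FixedPointFree (φ : H →* H) := fun u hu => by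
    have h1 : z * u * z⁻¹ = (u : G) := congrArg Subtype.val hu
    exact Subtype.ext (hf u u.2 (by rwa [mul_inv_eq_iff_eq_mul] at h1))
  have h2 : Function.Involutive φ := fun u => Subtype.ext (by
    show z * (z * u * z⁻¹) * z⁻¹ = (u : G)
    calc z * (z * u * z⁻¹) * z⁻¹ = (z * z) * u * (z * z)⁻¹ := by group
      _ = u := by simp [hz2])
  intro u hu
  exact congrArg Subtype.val (congrFun (hφ.coe_eq_inv_of_involutive h2) ⟨u, hu⟩)

/-- Two elements of order at most two in a two-point stabiliser are equal when both are non-trivial. -/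
theorem stab₂_involution_unique (hZ : Cfsg.IsZassenhausGroup G Ω) (hab : a ≠ b) {z z' : G}
    (hz : z ∈ stab₂ G a b) (hz' : z' ∈ stab₂ G a b) (h1 : z ≠ 1) (h1' : z' ≠ 1)
    (h2 : z * z = 1) (h2' : z' * z' = 1) : z = z' := by
  obtain ⟨h, hh⟩ : ∃ h, Fintype.card Ω = h + 1 :=
    ⟨_, (Nat.sub_add_cancel (Fintype.card_pos_iff.mpr ⟨a⟩)).symm⟩
  have hh2 := two_le hZ hab hh
  obtain ⟨H, hHa, hHc, hHf⟩ := exists_kernel hZ hab
  have hn := kernel_normal hZ hab hh hHa hHc hHf
  have hfpf := fpf hab hZ hHa hHf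
  have hi : ∀ y ∈ stab₂ G a b, y ≠ 1 → y * y = 1 → ∀ u ∈ H, y * u * y⁻¹ = u⁻¹ := fun y hy hy1 hy2 =>
    inverts_of_fpf hy2 (hn y hy.1) fun u hu hc => by
      by_contra hu1
      exact hy1 (by
        by_contra hy1'
        exact hu1 (hfpf.eq_one hy hy1' hu hc))
  obtain ⟨u, hu, hu1⟩ : ∃ u ∈ H, u ≠ 1 := by
    by_contra hcon
    push Not at hcon
    have : H = ⊥ := (Subgroup.eq_bot_iff_forall _).2 hcon
    rw [this, Subgroup.card_bot] at hHc; omega
  by_contra hne
  have hmem : z'⁻¹ * z ∈ stab₂ G a b := mul_mem (inv_mem hz') hz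
  refine hu1 (hfpf.eq_one hmem (fun h => hne (inv_mul_eq_one.1 h).symm) hu ?_)
  have e1 := hi z hz h1 h2 u hu
  have e2 := hi z' hz' h1' h2' u hu
  have e3 : z'⁻¹ * u⁻¹ * z' = u := by rw [← e2]; group
  calc z'⁻¹ * z * u = z'⁻¹ * (z * u * z⁻¹) * z := by group
    _ = z'⁻¹ * u⁻¹ * z := by rw [e1]
    _ = (z'⁻¹ * u⁻¹ * z') * (z'⁻¹ * z) := by group
    _ = u * (z'⁻¹ * z) := by rw [e3]

/-- If the two-point stabiliser has even order there are many involutions with fixed points
interchanging the two points. -/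
theorem swappers_of_even (hZ : Cfsg.IsZassenhausGroup G Ω) (hab : a ≠ b)
    (heven : Even (Nat.card (stab₂ G a b))) :
    ∃ X : Finset G, Fintype.card Ω - 2 ≤ 2 * X.card ∧ X.card ≤ Nat.card (stab₂ G a b) ∧
      (∀ s ∈ X, s • a = b ∧ s • b = a ∧ s * s = 1 ∧ ∃ c : Ω, s • c = c) ∧
      (X.card = Nat.card (stab₂ G a b) → ∀ s : G, s • a = b → s • b = a → s ∈ X) := by
  classical
  have := Fintype.ofFinite G
  have := hZ.1
  have := Fact.mk Nat.prime_two
  obtain ⟨z, hz⟩ := exists_prime_orderOf_dvd_card' 2 heven.two_dvd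
  have hz1 : (z : G) ≠ 1 := fun h => by
    rw [← Subgroup.orderOf_coe, h, orderOf_one] at hz; omega
  have hz2 : (z : G) * z = 1 := by
    rw [← sq, ← hz, ← Subgroup.orderOf_coe, pow_orderOf_eq_one]
  have hzz : ∀ c : Ω, (z : G) • (z : G) • c = c := fun c => by rw [← mul_smul, hz2, one_smul]
  have hza : (z : G) • a = a := z.2.1
  have hzb : (z : G) • b = b := z.2.2
  set U : Finset Ω := Finset.univ.filter fun c => c ≠ a ∧ c ≠ b with hU
  have hmov : ∀ c ∈ U, (z : G) • c ≠ c := fun c hc hcc => by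
    simp only [hU, Finset.mem_filter, Finset.mem_univ, true_and] at hc
    exact hz1 (eq_one_of_three hZ hab hc.1 hc.2 hza hzb hcc)
  have hmap : ∀ c ∈ U, ∃ g : G, g • a = c ∧ g • b = (z : G) • c :=
    fun c hc => exists_map hZ hab (hmov c hc).symm
  set T : Finset G := Finset.univ.filter fun s => s • a = b ∧ s • b = a with hT
  have hTE : T.card ≤ Nat.card (stab₂ G a b) := by
    obtain ⟨w, hwa, hwb⟩ := exists_map hZ hab hab.symm
    rw [← Nat.card_eq_finsetCard]
    refine Nat.card_le_card_of_injective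
      (fun s : {s // s ∈ T} => (⟨w⁻¹ * s.1, ?_⟩ : stab₂ G a b)) ?_
    · have hs := (Finset.mem_filter.1 s.2).2
      refine Subgroup.mem_inf.2 ⟨mem_stabilizer_iff.2 ?_, mem_stabilizer_iff.2 ?_⟩
      · rw [mul_smul, hs.1, inv_smul_eq_iff, hwa]
      · rw [mul_smul, hs.2, inv_smul_eq_iff, hwb]
    · intro s t hst
      exact Subtype.ext (mul_left_cancel (congrArg Subtype.val hst : w⁻¹ * s.1 = w⁻¹ * t.1))
  -- the involution fixing a cycle of `z` interchanges `a` and `b`
  let f : Ω → G := fun c => if hc : c ∈ U then (hmap c hc).choose * z * (hmap c hc).choose⁻¹ else 1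
  have hf : ∀ c ∈ U, f c • c = c ∧ f c • (z : G) • c = (z : G) • c ∧ f c ∈ T := by
    intro c hc
    have hfc : f c = (hmap c hc).choose * z * (hmap c hc).choose⁻¹ := dif_pos hc
    obtain ⟨hga, hgb⟩ := (hmap c hc).choose_spec
    set g := (hmap c hc).choose
    have h1 : f c • c = c := by
      rw [hfc, mul_smul, mul_smul, ← hga, inv_smul_smul, hza]
    have h2 : f c • (z : G) • c = (z : G) • c := by
      rw [hfc, mul_smul, mul_smul, ← hgb, inv_smul_smul, hzb]
    refine ⟨h1, h2, ?_⟩
    have hs1 : f c ≠ 1 := fun h => hz1 (by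
      rw [hfc] at h
      exact conj_eq_one_iff.1 h)
    have hs2 : f c * f c = 1 := by
      rw [hfc]
      calc g * z * g⁻¹ * (g * z * g⁻¹) = g * ((z : G) * z) * g⁻¹ := by group
        _ = 1 := by simp [hz2]
    have hcS : f c ∈ stab₂ G c ((z : G) • c) := ⟨h1, h2⟩
    have hzc : (z : G) * f c * (z : G)⁻¹ = f c := by
      refine stab₂_involution_unique hZ (hmov c hc).symm ?_ hcS
        (fun h => hs1 (conj_eq_one_iff.1 h)) hs1 ?_ hs2
      · have hzi : ((z : G)⁻¹) = z := inv_eq_of_mul_eq_one_right hz2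
        rw [hzi]
        refine Subgroup.mem_inf.2 ⟨mem_stabilizer_iff.2 ?_, mem_stabilizer_iff.2 ?_⟩
        · rw [mul_smul, mul_smul, h2, hzz]
        · rw [mul_smul, mul_smul, hzz, h1]
      · calc (z : G) * f c * (z : G)⁻¹ * ((z : G) * f c * (z : G)⁻¹)
            = (z : G) * (f c * f c) * (z : G)⁻¹ := by group
          _ = 1 := by simp [hs2]
    have hcomm : (z : G) * f c = f c * z := mul_inv_eq_iff_eq_mul.1 hzc
    have hfix : ∀ d, (z : G) • d = d → d = a ∨ d = b := fun d hd => by
      by_contra hcon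
      push Not at hcon
      exact hz1 (eq_one_of_three hZ hab hcon.1 hcon.2 hza hzb hd)
    have hcab : c ≠ a ∧ c ≠ b := (Finset.mem_filter.1 hc).2
    have hda := hfix (f c • a) (by rw [← mul_smul, hcomm, mul_smul, hza])
    have hdb := hfix (f c • b) (by rw [← mul_smul, hcomm, mul_smul, hzb])
    have hfa : f c • a = b := hda.resolve_left fun h =>
      hs1 (eq_one_of_three hZ (hmov c hc).symm hcab.1.symm
        (fun h' => hcab.1 (by rw [← hzz c, ← h', hza])) h1 h2 h)
    refine Finset.mem_filter.2 ⟨Finset.mem_univ _, hfa, ?_⟩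
    rw [← hfa, ← mul_smul, hs2, one_smul]
  have hle : U.card ≤ 2 * (U.image f).card := by
    refine (Finset.card_le_mul_card_image_of_maps_to (f := f) (fun c hc => Finset.mem_image_of_mem f hc) 2
      fun s hs => ?_)
    by_contra hcon
    push Not at hcon
    obtain ⟨x, hx, y, hy, w, hw, hxy, hxw, hyw⟩ := Finset.two_lt_card.1 hcon
    simp only [Finset.mem_filter] at hx hy hw
    have hs1 : s ≠ 1 := fun h => by
      obtain ⟨c, hc, rfl⟩ := Finset.mem_image.1 hs
      have := (Finset.mem_filter.1 (hf c hc).2.2).2.1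
      rw [h, one_smul] at this
      exact hab this
    exact hs1 (eq_one_of_three hZ hxy hxw.symm hyw.symm (hx.2 ▸ (hf x hx.1).1)
      (hy.2 ▸ (hf y hy.1).1) (hw.2 ▸ (hf w hw.1).1))
  have hUc : U.card = Fintype.card Ω - 2 := by
    rw [show U = Finset.univ \ {a, b} by ext; simp [hU], Finset.card_sdiff_of_subset (Finset.subset_univ _),
      Finset.card_univ, Finset.card_pair hab]
  have hsub : U.image f ⊆ T := fun s hs => by
    obtain ⟨c, hc, rfl⟩ := Finset.mem_image.1 hs
    exact (hf c hc).2.2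
  refine ⟨U.image f, by omega, (Finset.card_le_card hsub).trans hTE, fun s hs => ?_, fun heq s hsa hsb => ?_⟩
  · obtain ⟨c, hc, rfl⟩ := Finset.mem_image.1 hs
    obtain ⟨h1, h2, h3⟩ := hf c hc
    obtain ⟨hfa, hfb⟩ := (Finset.mem_filter.1 h3).2
    refine ⟨hfa, hfb, ?_, c, h1⟩
    have : f c = (hmap c hc).choose * z * (hmap c hc).choose⁻¹ := dif_pos hc
    rw [this]
    calc (hmap c hc).choose * (z : G) * (hmap c hc).choose⁻¹ * ((hmap c hc).choose * z * (hmap c hc).choose⁻¹)
        = (hmap c hc).choose * ((z : G) * z) * (hmap c hc).choose⁻¹ := by group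
      _ = 1 := by simp [hz2]
  · rw [Finset.eq_of_subset_of_card_le hsub (by omega)]
    exact Finset.mem_filter.2 ⟨Finset.mem_univ _, hsa, hsb⟩

/-- A two-point stabiliser of even order has at least half of `h - 1` elements. -/
theorem le_two_mul_of_even (hZ : Cfsg.IsZassenhausGroup G Ω) (hab : a ≠ b)
    (heven : Even (Nat.card (stab₂ G a b))) :
    Fintype.card Ω - 2 ≤ 2 * Nat.card (stab₂ G a b) := by
  obtain ⟨X, h1, h2, -, -⟩ := swappers_of_even hZ hab heven
  omega

/-- If the two-point stabiliser is large then the kernel is elementary abelian. -/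
theorem kernel_elementary (hZ : Cfsg.IsZassenhausGroup G Ω) (hab : a ≠ b)
    (hd : Fintype.card Ω - 2 ≤ 2 * Nat.card (stab₂ G a b))
    (hHa : H ≤ stabilizer G a) (hHcard : Nat.card H + 1 = Fintype.card Ω)
    (hHfix : ∀ u ∈ H, u ≠ 1 → ∀ c : Ω, u • c = c → c = a) :
    IsMulCommutative H ∧ ∃ p f : ℕ, p.Prime ∧ 0 < f ∧ (∀ u ∈ H, u ^ p = 1) ∧ Nat.card H = p ^ f := by
  classical
  obtain ⟨h, hh⟩ : ∃ h, Fintype.card Ω = h + 1 :=
    ⟨_, (Nat.sub_add_cancel (Fintype.card_pos_iff.mpr ⟨a⟩)).symm⟩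
  have hh2 := two_le hZ hab hh
  have hn := kernel_normal hZ hab hh hHa hHcard hHfix
  have hfpf := fpf hab hZ hHa hHfix
  set E := stab₂ G a b with hE
  set e := Nat.card E with he
  have hHnt : 1 < Nat.card H := by omega
  -- the orbit of a non-trivial element
  let orb : H → E → H := fun x g => ⟨(g : G) * x * (g : G)⁻¹, hn g g.2.1 x x.2⟩
  have horb : ∀ x : H, x ≠ 1 → Function.Injective (orb x) := by
    intro x hx g g' hgg
    have h1 : (g : G) * x * (g : G)⁻¹ = (g' : G) * x * (g' : G)⁻¹ := congrArg Subtype.val hgg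
    by_contra hne
    refine hx (Subtype.ext (hfpf.eq_one (a := (g' : G)⁻¹ * g) (mul_mem (inv_mem g'.2) g.2)
      (fun h => hne (Subtype.ext (inv_mul_eq_one.1 h).symm)) x.2 ?_))
    calc (g' : G)⁻¹ * g * x = (g' : G)⁻¹ * ((g : G) * x * (g : G)⁻¹) * g := by group
      _ = (g' : G)⁻¹ * ((g' : G) * x * (g' : G)⁻¹) * g := by rw [h1]
      _ = x * ((g' : G)⁻¹ * g) := by group
  have hordorb : ∀ (x : H) (g : E), orderOf (orb x g) = orderOf x := fun x g => by
    rw [← Subgroup.orderOf_coe, ← Subgroup.orderOf_coe x]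
    exact (MulAut.conj (g : G)).orderOf_eq (x : G)
  have hodd_inv : Odd e → ∀ (x : H), x * x ≠ 1 → ∀ g g' : E, orb x g ≠ (orb x g')⁻¹ := by
    intro hodd x hx g g' hgg
    have hx1 : x ≠ 1 := fun h => hx (by rw [h, one_mul])
    have h1 : (g : G) * x * (g : G)⁻¹ = (g' : G) * (x : G)⁻¹ * (g' : G)⁻¹ := by
      rw [show (g : G) * x * (g : G)⁻¹ = ((orb x g' : H) : G)⁻¹ from congrArg Subtype.val hgg]
      show ((g' : G) * x * (g' : G)⁻¹)⁻¹ = _
      group
    set k : E := g'⁻¹ * g
    have hk : (k : G) * x * (k : G)⁻¹ = (x : G)⁻¹ := by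
      calc (k : G) * x * (k : G)⁻¹ = (g' : G)⁻¹ * ((g : G) * x * (g : G)⁻¹) * g' := by
            simp only [k, Subgroup.coe_mul, Subgroup.coe_inv]; group
        _ = _ := by rw [h1]; group
    have hk' : (k : G) * (x : G)⁻¹ * (k : G)⁻¹ = (x : G) := by
      have := congrArg (·⁻¹) hk
      simp only [mul_inv_rev, inv_inv, mul_assoc] at this ⊢
      exact this
    have hk2 : orb x (k * k) = orb x 1 := Subtype.ext (by
      show ((k * k : E) : G) * x * ((k * k : E) : G)⁻¹ = ((1 : E) : G) * x * ((1 : E) : G)⁻¹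
      rw [Subgroup.coe_mul, mul_inv_rev, show (k : G) * k * x * ((k : G)⁻¹ * (k : G)⁻¹) =
        (k : G) * ((k : G) * x * (k : G)⁻¹) * (k : G)⁻¹ by group, hk, hk']
      simp)
    have hk1 : k = 1 := by
      have h2 := horb x hx1 hk2
      rw [← orderOf_eq_one_iff]
      exact Nat.eq_one_of_dvd_coprimes (Nat.prime_two.coprime_iff_not_dvd.mpr hodd.not_two_dvd_nat)
        (orderOf_dvd_of_pow_eq_one (by rw [sq]; exact h2)) (orderOf_dvd_natCard k)
    rw [hk1, Subgroup.coe_one, one_mul, inv_one, mul_one] at hk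
    exact hx (Subtype.ext (by
      show (x : G) * x = 1
      nth_rewrite 2 [hk]
      exact mul_inv_cancel _))
  -- all non-trivial elements are conjugates or inverses of conjugates
  have hcov : Odd e → ∀ x : H, x * x ≠ 1 → ∀ y : H, y ≠ 1 → ∃ g : E, orb x g = y ∨ orb x g = y⁻¹ := by
    intro hodd x hx y hy
    have hx1 : x ≠ 1 := fun h => hx (by rw [h, one_mul])
    let S : E ⊕ E → {u : H // u ≠ 1} := fun s => match s with
      | .inl g => ⟨orb x g, fun h => hx1 (orderOf_eq_one_iff.1 (by rw [← hordorb x g, h, orderOf_one]))⟩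
      | .inr g => ⟨(orb x g)⁻¹, fun h => hx1 (orderOf_eq_one_iff.1 (by
          rw [← hordorb x g, ← orderOf_inv, h, orderOf_one]))⟩
    have hS : Function.Injective S := by
      rintro (g | g) (g' | g') hgg <;> have hgg' := congrArg Subtype.val hgg <;> simp only [S] at hgg'
      · rw [horb x hx1 hgg']
      · exact absurd hgg' (hodd_inv hodd x hx g g')
      · exact absurd hgg'.symm (hodd_inv hodd x hx g' g)
      · rw [horb x hx1 (inv_injective hgg')]
    have hbij := hS.bijective_of_nat_card_le (by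
      rw [Nat.card_sum]
      show Nat.card {u : H // u ≠ 1} ≤ Nat.card E + Nat.card E
      have : Nat.card {u : H // u ≠ 1} + 1 = Nat.card H := by
        have := Fintype.ofFinite H
        simp only [Nat.card_eq_fintype_card, Fintype.card_subtype_compl, Fintype.card_subtype_eq]
        have : 0 < Fintype.card H := Fintype.card_pos
        omega
      omega)
    obtain ⟨(g | g), hg⟩ := hbij.2 ⟨y, hy⟩ <;> have hg' := congrArg Subtype.val hg <;> simp only [S] at hg'
    · exact ⟨g, Or.inl hg'⟩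
    · exact ⟨g, Or.inr (by rw [← hg', inv_inv])⟩
  -- a prime `p` such that the kernel has exponent `p` and is abelian
  suffices key : ∃ p : ℕ, p.Prime ∧ (∀ u : H, u ^ p = 1) ∧ ∀ u v : H, u * v = v * u by
    obtain ⟨p, hp, hexp, hcomm⟩ := key
    have := Fact.mk hp
    have hP : IsPGroup p H := fun u => ⟨1, by rw [pow_one]; exact hexp u⟩
    obtain ⟨f, hf⟩ := IsPGroup.iff_card.1 hP
    refine ⟨⟨⟨hcomm⟩⟩, p, f, hp, ?_, fun u hu => congrArg Subtype.val (hexp ⟨u, hu⟩), hf⟩
    rcases Nat.eq_zero_or_pos f with rfl | h0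
    · rw [pow_zero] at hf; omega
    · exact h0
  obtain ⟨p, hp, hpd⟩ := Nat.exists_prime_and_dvd (n := Nat.card H) (by omega)
  have := Fact.mk hp
  obtain ⟨x, hx⟩ := exists_prime_orderOf_dvd_card' p hpd
  have hx1 : x ≠ 1 := fun h => hp.one_lt.ne' (by rw [← hx, h, orderOf_one])
  rcases Nat.even_or_odd e with hev | hodd
  · -- the involution inverts the kernel
    have := Fact.mk Nat.prime_two
    obtain ⟨z, hz⟩ := exists_prime_orderOf_dvd_card' 2 hev.two_dvd
    have hz1 : (z : G) ≠ 1 := fun h => by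
      rw [← Subgroup.orderOf_coe, h, orderOf_one] at hz; omega
    have hz2 : (z : G) * z = 1 := by rw [← sq, ← hz, ← Subgroup.orderOf_coe, pow_orderOf_eq_one]
    have hinv := inverts_of_fpf hz2 (hn z z.2.1) fun u hu hc => hfpf.eq_one z.2 hz1 hu hc
    have hcomm : ∀ u v : H, u * v = v * u := fun u v => by
      have h1 := hinv _ (u * v).2
      rw [Subgroup.coe_mul, mul_inv_rev, ← hinv _ u.2, ← hinv _ v.2] at h1
      apply Subtype.ext
      have h2 : (z : G) * (u * v) * (z : G)⁻¹ = z * ((v : G) * u) * (z : G)⁻¹ := by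
        rw [h1]; group
      simpa using h2
    let K : Subgroup H :=
      { carrier := {u | u ^ p = 1}
        one_mem' := one_pow p
        mul_mem' := fun {u v} hu hv => by
          show (u * v) ^ p = 1
          rw [Commute.mul_pow (hcomm u v), hu, hv, one_mul]
        inv_mem' := fun {u} hu => by show u⁻¹ ^ p = 1; rw [inv_pow, hu, inv_one] }
    refine ⟨p, hp, fun u => ?_, hcomm⟩
    have hKe : e + 1 ≤ Nat.card K := by
      have hS : Function.Injective (fun s : Option E => (match s with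
          | none => (⟨1, K.one_mem⟩ : K)
          | some g => ⟨orb x g, by
              show orb x g ^ p = 1
              rw [← hx, ← hordorb x g, pow_orderOf_eq_one]⟩)) := by
        rintro (_ | g) (_ | g') hgg <;> have hgg' := congrArg Subtype.val hgg <;> simp only at hgg'
        · rfl
        · exact absurd (orderOf_eq_one_iff.1 (by rw [← hordorb x g', ← hgg', orderOf_one])) hx1
        · exact absurd (orderOf_eq_one_iff.1 (by rw [← hordorb x g, hgg', orderOf_one])) hx1
        · rw [horb x hx1 hgg']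
      have := Nat.card_le_card_of_injective _ hS
      rwa [Finite.card_option] at this
    have hKm := K.card_mul_index
    have hK1 : K.index = 1 := by
      by_contra hne
      have : 2 ≤ K.index := by
        have := Subgroup.index_ne_zero_of_finite (H := K)
        omega
      have := Nat.mul_le_mul hKe this
      omega
    have : u ∈ K := by rw [Subgroup.index_eq_one.1 hK1]; trivial
    exact this
  · by_cases hsq : ∀ u : H, u * u = 1
    · refine ⟨2, Nat.prime_two, fun u => by rw [sq]; exact hsq u, fun u v => ?_⟩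
      exact mul_comm_of_exponent_two_aux hsq u v
    push Not at hsq
    obtain ⟨y, hy⟩ := hsq
    have hall : ∀ u : H, u ≠ 1 → orderOf u = orderOf y := fun u hu => by
      obtain ⟨g, hg | hg⟩ := hcov hodd y hy u hu
      · rw [← hg, hordorb]
      · rw [← orderOf_inv u, ← hg, hordorb]
    have hexp : ∀ u : H, u ^ p = 1 := fun u => by
      rcases eq_or_ne u 1 with rfl | hu
      · exact one_pow p
      · rw [← hx, hall x hx1, ← hall u hu, pow_orderOf_eq_one]
    have hP : IsPGroup p H := fun u => ⟨1, by rw [pow_one]; exact hexp u⟩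
    have : Nontrivial H := ⟨x, 1, hx1⟩
    have := hP.center_nontrivial
    obtain ⟨⟨w, hw⟩, hw1⟩ := exists_ne (1 : Subgroup.center H)
    have hw1' : w ≠ 1 := fun h => hw1 (Subtype.ext h)
    have hwsq : w * w ≠ 1 := fun hh' => by
      have h2 : orderOf w ∣ 2 := orderOf_dvd_of_pow_eq_one (by rw [sq]; exact hh')
      rw [hall w hw1'] at h2
      exact hy (by rw [← sq]; exact orderOf_dvd_iff_pow_eq_one.1 h2)
    have hcen : ∀ u : H, u ∈ Subgroup.center H := fun u => by
      rcases eq_or_ne u 1 with rfl | hu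
      · exact one_mem _
      have horbZ : ∀ g : E, orb w g ∈ Subgroup.center H := fun g => by
        rw [Subgroup.mem_center_iff] at hw ⊢
        intro v
        have h1 := hw ⟨(g : G)⁻¹ * v * ((g : G)⁻¹)⁻¹, hn _ (inv_mem g.2.1) v v.2⟩
        have h1' : (g : G)⁻¹ * v * ((g : G)⁻¹)⁻¹ * w = w * ((g : G)⁻¹ * v * ((g : G)⁻¹)⁻¹) :=
          congrArg Subtype.val h1
        apply Subtype.ext
        show (v : G) * ((g : G) * w * (g : G)⁻¹) = (g : G) * w * (g : G)⁻¹ * v
        calc (v : G) * ((g : G) * w * (g : G)⁻¹)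
            = (g : G) * ((g : G)⁻¹ * v * ((g : G)⁻¹)⁻¹ * w) * (g : G)⁻¹ := by group
          _ = (g : G) * (w * ((g : G)⁻¹ * v * ((g : G)⁻¹)⁻¹)) * (g : G)⁻¹ := by rw [h1']
          _ = _ := by group
      obtain ⟨g, hg | hg⟩ := hcov hodd w hwsq u hu
      · exact hg ▸ horbZ g
      · rw [← inv_inv u, ← hg]; exact inv_mem (horbZ g)
    exact ⟨p, hp, hexp, fun u v => Subgroup.mem_center_iff.1 (hcen v) u⟩
  where
    mul_comm_of_exponent_two_aux {M : Type _} [Group M] (h : ∀ u : M, u * u = 1) (u v : M) :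
        u * v = v * u := by
      have hi : ∀ u : M, u⁻¹ = u := fun u => inv_eq_of_mul_eq_one_right (h u)
      calc u * v = (u * v)⁻¹ := (hi _).symm
        _ = v⁻¹ * u⁻¹ := mul_inv_rev u v
        _ = v * u := by rw [hi, hi]

/-- In a Zassenhaus group with kernel `H`, the degree is one more than a prime power. -/
theorem kernel_prime_pow (hZ : Cfsg.IsZassenhausGroup G Ω) (hab : a ≠ b) :
    IsPrimePow (Fintype.card Ω - 1) := by
  obtain ⟨h, hh⟩ : ∃ h, Fintype.card Ω = h + 1 :=
    ⟨_, (Nat.sub_add_cancel (Fintype.card_pos_iff.mpr ⟨a⟩)).symm⟩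
  have hh2 := two_le hZ hab hh
  obtain ⟨H, hHa, hHc, hHf⟩ := exists_kernel hZ hab
  have hcard : Nat.card H = h := by omega
  rw [show Fintype.card Ω - 1 = Nat.card H by omega, isPrimePow_nat_iff]
  have big : Fintype.card Ω - 2 ≤ 2 * Nat.card (stab₂ G a b) →
      ∃ p k, Nat.Prime p ∧ 0 < k ∧ p ^ k = Nat.card H := fun hd => by
    obtain ⟨-, p, f, hp, hf, -, hc⟩ := kernel_elementary hZ hab hd hHa hHc hHf
    exact ⟨p, f, hp, hf, hc.symm⟩
  rcases Nat.even_or_odd (Nat.card (stab₂ G a b)) with hev | hodd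
  · exact big (le_two_mul_of_even hZ hab hev)
  · rcases feit_inequality hZ hab hh rfl hodd hHa hHc hHf with hle | ⟨h2, -, -⟩
    · have hle' : h - 1 ≤ 2 * Nat.card (stab₂ G a b) := hle
      exact big (by omega)
    · have := Fact.mk Nat.prime_two
      obtain ⟨f, hf⟩ := IsPGroup.iff_card.1 h2
      refine ⟨2, f, Nat.prime_two, ?_, hf.symm⟩
      rcases Nat.eq_zero_or_pos f with rfl | h0
      · rw [pow_zero] at hf; omega
      · exact h0

/-- A two-point stabiliser of odd order lies in the commutator subgroup if the group has no normal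
complement to a Sylow subgroup of the stabiliser. -/
theorem stab₂_le_commutator (hZ : Cfsg.IsZassenhausGroup G Ω) (hab : a ≠ b)
    (hodd : Odd (Nat.card (stab₂ G a b)))
    (hnil : ∀ q : ℕ, q.Prime → q ∣ Nat.card (stab₂ G a b) →
      ¬ ∃ N : Subgroup G, N.Normal ∧ N.index = q ^ (Nat.card G).factorization q) :
    ∀ u ∈ stab₂ G a b, u ∈ _root_.commutator G := by
  obtain ⟨h, hh⟩ : ∃ h, Fintype.card Ω = h + 1 :=
    ⟨_, (Nat.sub_add_cancel (Fintype.card_pos_iff.mpr ⟨a⟩)).symm⟩
  have hh2 := two_le hZ hab hh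
  obtain ⟨H, hHa, hHc, hHf⟩ := exists_kernel hZ hab
  have hn := kernel_normal hZ hab hh hHa hHc hHf
  have hfpf := fpf hab hZ hHa hHf
  set E := stab₂ G a b with hE
  have hEN : E ≤ Subgroup.normalizer (H : Set G) := fun x hx =>
    Subgroup.mem_normalizer_fintype fun u hu => hn x hx.1 u hu
  have hcardG := card_group hZ hab hh (rfl : Nat.card E = _)
  have hdvd : Nat.card E ∣ h - 1 := by
    have := hfpf.card_dvd hEN
    rwa [show Nat.card H = h by omega] at this
  suffices key : ∀ q : ℕ, q.Prime → q ∣ Nat.card E → ∀ Q : Sylow q E,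
      (Q : Subgroup E) ≤ (_root_.commutator G).subgroupOf E by
    have htop : (_root_.commutator G).subgroupOf E = ⊤ := by
      rw [← Subgroup.index_eq_one]
      by_contra hne
      obtain ⟨q, hq, hqd⟩ := Nat.exists_prime_and_dvd hne
      have := Fact.mk hq
      obtain ⟨Q⟩ : Nonempty (Sylow q E) := inferInstance
      have hqE : q ∣ Nat.card E := hqd.trans (Subgroup.index_dvd_card _)
      exact Q.not_dvd_index (hqd.trans (Subgroup.index_dvd_of_le (key q hq hqE Q)))
    intro u hu
    have : (⟨u, hu⟩ : E) ∈ (_root_.commutator G).subgroupOf E := htop ▸ Subgroup.mem_top _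
    exact this
  intro q hq hqE Q
  have := Fact.mk hq
  have hq2 : q ≠ 2 := by
    rintro rfl
    exact Nat.not_even_iff_odd.2 hodd (even_iff_two_dvd.2 hqE)
  let A : Subgroup G := (Q : Subgroup E).map E.subtype
  have hA : Nat.card A = q ^ (Nat.card G).factorization q := by
    rw [← Nat.card_congr (Subgroup.equivMapOfInjective (Q : Subgroup E) E.subtype
      E.subtype_injective).toEquiv, Q.card_eq_multiplicity]
    congr 1
    have h1 : ¬ q ∣ h := fun hd => by
      have h3 := Nat.dvd_sub hd (hqE.trans hdvd)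
      rw [show h - (h - 1) = 1 by omega] at h3
      exact hq.not_dvd_one h3
    have h2 : ¬ q ∣ h + 1 := fun hd => by
      have h3 := Nat.dvd_sub hd (hqE.trans hdvd)
      rw [show h + 1 - (h - 1) = 2 by omega] at h3
      exact hq2 ((Nat.prime_dvd_prime_iff_eq hq Nat.prime_two).1 h3)
    have hE0 : Nat.card E ≠ 0 := Nat.card_pos.ne'
    rw [hcardG, Nat.factorization_mul (by positivity) (Nat.mul_ne_zero (by omega) hE0),
      Nat.factorization_mul (by omega) hE0, Finsupp.add_apply, Finsupp.add_apply,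
      Nat.factorization_eq_zero_of_not_dvd h1, Nat.factorization_eq_zero_of_not_dvd h2]
    simp
  let P : Sylow q G := Sylow.ofCard A hA
  have hPA : (P : Subgroup G) = A := rfl
  have hcyc : IsCyclic (P : Subgroup G) := by
    have hHne : H ≠ ⊥ := fun h' => by rw [h', Subgroup.card_bot] at hHc; omega
    rw [hPA]
    rcases (hfpf.mono (Subgroup.map_subtype_le _)).isCyclic_or_quaternion
      ((Subgroup.map_subtype_le _).trans hEN) hHne (Q.2.map E.subtype) with h' | ⟨h', -⟩
    · exact h'
    · exact absurd h' hq2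
  rcases Sylow.normalizer_le_centralizer_or_le_commutator P with h' | h'
  · exact absurd ⟨(MonoidHom.transferSylow P h').ker, inferInstance,
      (MonoidHom.ker_transferSylow_isComplement' P h').symm.index_eq_card.trans (hPA ▸ hA)⟩ (hnil q hq hqE)
  · intro u hu
    exact h' ⟨u, hu, rfl⟩

end Cfsg.Lib.RankOne
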