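import Cfsg.Agent.RankOne.SharpEvenStab
import Cfsg.Agent.RankOne.StabOrder
import Cfsg.Agent.OddChar.Zassenhaus.Coherent
import Cfsg.Agent.Small.Toolkit
import Mathlib

/-! There is no simple sharply triply transitive group with a two-point stabiliser of even order. -/

set_option autoImplicit false
set_option linter.unusedSectionVars false

open MulAction

namespace Cfsg.Lib.RankOne

open Cfsg.Lib.OddChar.Zassenhaus

/-- Endomorphisms of an abelian group commuting with an irreducible abelian family of endomorphisms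
commute with each other. -/
theorem comm_of_irreducible {U ι : Type*} [CommGroup U] (c : ι → U →* U)
    (hc : ∀ i j, ∀ x, c i (c j x) = c j (c i x))
    (hirr : ∀ W : Subgroup U, (∀ i, ∀ w ∈ W, c i w ∈ W) → W = ⊥ ∨ W = ⊤)
    (α β : U →* U) (hα : ∀ i x, α (c i x) = c i (α x)) (hβ : ∀ i x, β (c i x) = c i (β x)) (x : U) :
    α (β x) = β (α x) := by
  rcases subsingleton_or_nontrivial U with h | h
  · exact Subsingleton.elim _ _
  obtain ⟨u₀, hu₀⟩ := exists_ne (1 : U)
  let Pr : (U →* U) → Prop := fun P =>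
    ∀ γ : U →* U, (∀ i x, γ (c i x) = c i (γ x)) → ∀ x, P (γ x) = γ (P x)
  let W : Subgroup U :=
    { carrier := {p | ∃ P : U →* U, Pr P ∧ P u₀ = p}
      one_mem' := ⟨1, fun γ _ x => by simp, rfl⟩
      mul_mem' := by
        rintro p q ⟨P, hP, rfl⟩ ⟨Q, hQ, rfl⟩
        exact ⟨P * Q, fun γ hγ x => by simp [hP γ hγ x, hQ γ hγ x], rfl⟩
      inv_mem' := by
        rintro p ⟨P, hP, rfl⟩
        exact ⟨P⁻¹, fun γ hγ x => by simp [hP γ hγ x], rfl⟩ }
  have hW : W = ⊤ := by
    refine (hirr W ?_).resolve_left fun hbot => hu₀ ?_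
    · rintro i _ ⟨P, hP, rfl⟩
      refine ⟨(c i).comp P, fun γ hγ x => ?_, rfl⟩
      show c i (P (γ x)) = γ (c i (P x))
      rw [hP γ hγ, hγ]
    · have h1 : u₀ ∈ W := ⟨MonoidHom.id U, fun γ _ x => rfl, rfl⟩
      rwa [hbot, Subgroup.mem_bot] at h1
  obtain ⟨P, hP, hPu⟩ : β u₀ ∈ W := hW ▸ Subgroup.mem_top _
  have hPβ : ∀ y, P y = β y := by
    let V : Subgroup U := MonoidHom.eqLocus P β
    have hV : V = ⊤ := by
      refine (hirr V ?_).resolve_left fun hbot => hu₀ ?_
      · intro i w hw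
        show P (c i w) = β (c i w)
        rw [hP (c i) (fun j x => hc i j x), hβ, show P w = β w from hw]
      · have h1 : u₀ ∈ V := hPu
        rwa [hbot, Subgroup.mem_bot] at h1
    exact fun y => show y ∈ V from hV ▸ Subgroup.mem_top y
  rw [← hPβ, ← hPβ, hP α hα]

variable {G Ω : Type*} [Group G] [Finite G] [MulAction G Ω] [Fintype Ω]
variable {a b : Ω} {H : Subgroup G}

/-- An involution with a fixed point interchanging two points inverts all elements of order three of
their stabiliser, provided the kernel is abelian and inverted by an involution of the stabiliser. -/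
theorem swapper_cube (hZ : Cfsg.IsZassenhausGroup G Ω) (hab : a ≠ b)
    (hHa : H ≤ stabilizer G a) (hHcard : Nat.card H + 1 = Fintype.card Ω)
    (hHfix : ∀ u ∈ H, u ≠ 1 → ∀ c : Ω, u • c = c → c = a)
    (hHab : ∀ u ∈ H, ∀ v ∈ H, u * v = v * u)
    {z : G} (hz : z ∈ stab₂ G a b) (hz2 : z * z = 1) (hz1 : z ≠ 1)
    (hzc : ∀ u ∈ stab₂ G a b, z * u = u * z)
    {s : G} (hsa : s • a = b) (hsb : s • b = a) (hs2 : s * s = 1) {c : Ω} (hsc : s • c = c)
    {v : G} (hv : v ∈ stab₂ G a b) (hv3 : v ^ 3 = 1) : s * v * s = v * v := by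
  rcases eq_or_ne v 1 with rfl | hv1
  · simp [hs2]
  obtain ⟨h, hh⟩ : ∃ h, Fintype.card Ω = h + 1 :=
    ⟨_, (Nat.sub_add_cancel (Fintype.card_pos_iff.mpr ⟨a⟩)).symm⟩
  have hn := kernel_normal hZ hab hh hHa hHcard hHfix
  have hfpf := fpf hab hZ hHa hHfix
  set E := stab₂ G a b
  have hca : c ≠ a := fun h' => hab (by rw [h'] at hsc; exact hsc.symm.trans hsa)
  have hcb : c ≠ b := fun h' => hab (by rw [h'] at hsc; exact (hsc.symm.trans hsb).symm)
  obtain ⟨t, ht, htb⟩ := exists_kernel_map hHa hHcard hHfix hab.symm hca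
  have hta : t • a = a := hHa ht
  have hzt : z * t * z⁻¹ = t⁻¹ :=
    inverts_of_fpf hz2 (hn z hz.1) (fun u hu hc => hfpf.eq_one hz hz1 hu hc) t ht
  have hzi : z⁻¹ = z := inv_eq_of_mul_eq_one_right hz2
  have hzb : z • b = b := hz.2
  have hza : z • a = a := hz.1
  have hsE : ∀ u ∈ E, s * u * s ∈ E := fun u hu => ⟨by
      show (s * u * s) • a = a
      rw [mul_smul, mul_smul, hsa, show u • b = b from hu.2, hsb], by
      show (s * u * s) • b = b
      rw [mul_smul, mul_smul, hsb, show u • a = a from hu.1, hsa]⟩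
  have hszs : s * z * s = z := by
    refine stab₂_involution_unique hZ hab (hsE z hz) hz ?_ hz1 ?_ hz2
    · intro h1
      refine hz1 ?_
      calc z = (s * s) * z * (s * s) := by rw [hs2]; group
        _ = s * (s * z * s) * s := by group
        _ = 1 := by rw [h1, mul_one, hs2]
    · calc s * z * s * (s * z * s) = s * z * (s * s) * z * s := by group
        _ = s * (z * z) * s := by rw [hs2]; group
        _ = 1 := by rw [hz2, mul_one, hs2]
  have hszc : s * z = z * s := by
    calc s * z = s * z * (s * s) := by rw [hs2, mul_one]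
      _ = s * z * s * s := by group
      _ = z * s := by rw [hszs]
  set d : Ω := z • c with hd
  have htd : t • d = b := by
    rw [hd, ← htb, ← mul_smul, ← mul_smul]
    have h1 : z * t * z⁻¹ * z = z * t := by group
    rw [hzt] at h1
    rw [mul_assoc, ← h1, ← mul_assoc, mul_inv_cancel, one_mul, hzb]
  have hsd : s • d = d := by rw [hd, ← mul_smul, hszc, mul_smul, hsc]
  have hzd : z • d = c := by rw [hd, ← mul_smul, hz2, one_smul]
  -- the fundamental identity
  have hid : s * t * s = t * z * s * t := by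
    have hda : d ≠ a := fun h' => hab (by rw [h', hta] at htd; exact htd)
    have hdb : d ≠ b := fun h' => hcb (by rw [← hzd, h', hzb])
    refine inv_mul_eq_one.1 (eq_one_of_three hZ hab hda hdb ?_ ?_ ?_)
    · rw [mul_smul, inv_smul_eq_iff]
      simp only [mul_smul]
      rw [hta, hsa, hzb, htb, hsc]
    · rw [mul_smul, inv_smul_eq_iff]
      simp only [mul_smul]
      rw [hsb, hta, hsa, htb, hsc, ← hd, htd]
    · rw [mul_smul, inv_smul_eq_iff]
      simp only [mul_smul]
      rw [htd, hsb, hza, hta, hsd, htd, hsb]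
  -- translating the points of an element of order three
  have hkey : ∀ u ∈ E, u ^ 3 = 1 → u ≠ 1 → t • u • c = (z * (u * u)) • c := by
    intro u hu hu3 hu1
    have hub : u • b = b := hu.2
    have ht1 : u * t * u⁻¹ ∈ H := hn u hu.1 t ht
    have ht2 : u * (u * t * u⁻¹) * u⁻¹ ∈ H := hn u hu.1 _ ht1
    have h3 : u * u * u = 1 := by rw [← hu3, pow_succ, pow_two]
    have hprod : t * (u * t * u⁻¹) * (u * (u * t * u⁻¹) * u⁻¹) = 1 := by
      refine hfpf.eq_one hu hu1 (mul_mem (mul_mem ht ht1) ht2) ?_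
      have hshift : u * (t * (u * t * u⁻¹) * (u * (u * t * u⁻¹) * u⁻¹)) * u⁻¹
          = (u * t * u⁻¹) * (u * (u * t * u⁻¹) * u⁻¹) * t := by
        calc _ = (u * t * u⁻¹) * (u * (u * t * u⁻¹) * u⁻¹) * ((u * u * u) * t * (u * u * u)⁻¹) := by group
          _ = _ := by rw [h3]; group
      rw [← mul_inv_eq_iff_eq_mul, hshift, ← hHab t ht _ (mul_mem ht1 ht2), ← mul_assoc]
    have hl : t * (u * t * u⁻¹) = (u * (u * t * u⁻¹) * u⁻¹)⁻¹ := eq_inv_of_mul_eq_one_left hprod
    have hzi2 : z * (u * (u * t * u⁻¹) * u⁻¹) = (u * (u * t * u⁻¹) * u⁻¹)⁻¹ * z := by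
      have := inverts_of_fpf hz2 (hn z hz.1) (fun u hu hc => hfpf.eq_one hz hz1 hu hc) _ ht2
      rwa [mul_inv_eq_iff_eq_mul] at this
    calc t • u • c = (t * (u * t * u⁻¹) * u) • b := by
          rw [← htb, ← mul_smul, ← mul_smul]; congr 1; group
      _ = ((u * (u * t * u⁻¹) * u⁻¹)⁻¹) • b := by rw [hl, mul_smul, hub]
      _ = ((u * (u * t * u⁻¹) * u⁻¹)⁻¹ * z * (u * u)) • b := by
          rw [mul_smul _ (u * u), mul_smul u, hub, hub, mul_smul _ z, hzb]
      _ = (z * (u * u) * t) • b := by rw [← hzi2]; congr 1; group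
      _ = (z * (u * u)) • c := by rw [mul_smul _ t, htb]
  -- regularity at `c`
  have hreg : ∀ u ∈ E, ∀ w ∈ E, u • c = w • c → u = w := fun u hu w hw he => by
    refine (inv_mul_eq_one.1 (eq_one_of_three hZ hab hca hcb ?_ ?_ ?_)).symm
    · rw [mul_smul, show u • a = a from hu.1, inv_smul_eq_iff, show w • a = a from hw.1]
    · rw [mul_smul, show u • b = b from hu.2, inv_smul_eq_iff, show w • b = b from hw.2]
    · rw [mul_smul, he, inv_smul_smul]
  set w := s * v * s with hw
  have hwE : w ∈ E := hsE v hv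
  have hsi : s⁻¹ = s := inv_eq_of_mul_eq_one_right hs2
  have hw3 : w ^ 3 = 1 := by
    have h1 := conj_pow (i := 3) (a := s) (b := v)
    rw [hsi] at h1
    rw [hw, h1, hv3, mul_one, hs2]
  have hw1 : w ≠ 1 := fun h1 => hv1 (by
    calc v = (s * s) * v * (s * s) := by rw [hs2]; group
      _ = s * (s * v * s) * s := by group
      _ = 1 := by rw [← hw, h1, mul_one, hs2])
  have hsm : ∀ u : G, s • u • c = (s * u * s) • c := fun u => by
    rw [mul_smul _ s, hsc, mul_smul]
  have hz3 : ∀ u ∈ E, s * (z * u) * s = z * (s * u * s) := fun u _ => by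
    rw [show s * (z * u) * s = s * z * u * s by group, hszc]; group
  have hww : s * (w * w) * s = v * v := by
    calc s * (w * w) * s = (s * s) * v * (s * s) * v * (s * s) := by rw [hw]; group
      _ = v * v := by rw [hs2]; group
  have hvv : s * (v * v) * s = w * w := by
    calc s * (v * v) * s = s * v * 1 * v * s := by group
      _ = s * v * (s * s) * v * s := by rw [hs2]
      _ = w * w := by rw [hw]; group
  have e1 : (s * t * s) • v • c = (z * (v * v)) • c := by
    rw [mul_smul, mul_smul, hsm v, ← hw, hkey w hwE hw3 hw1, hsm, hz3 _ (mul_mem hwE hwE), hww]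
  have e2 : (t * z * s * t) • v • c = t • (w * w) • c := by
    rw [mul_smul, mul_smul, mul_smul, hkey v hv hv3 hv1, hsm, hz3 _ (mul_mem hv hv), hvv, ← mul_smul z,
      ← mul_assoc, hz2, one_mul]
  rw [hid, e2, ← hkey v hv hv3 hv1] at e1
  have h2 := hreg _ (mul_mem hwE hwE) v hv (smul_left_cancel t e1)
  calc w = w * w * (w * w) := by
        rw [show w * w * (w * w) = w ^ 3 * w by simp [pow_succ, mul_assoc], hw3, one_mul]
    _ = v * v := by rw [h2]

/-- A non-abelian simple group has no element inducing an odd permutation; the two-point stabiliser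
of a sharply triply transitive one has no cyclic Sylow `2`-subgroup if its order is even. -/
theorem sharp_not_cyclic [IsSimpleGroup G] (hZ : Cfsg.IsZassenhausGroup G Ω) (hab : a ≠ b)
    (hnc : ¬ ∀ x y : G, x * y = y * x) (hev : Even (Nat.card (stab₂ G a b)))
    (hd : Nat.card (stab₂ G a b) + 2 = Fintype.card Ω) (Q : Sylow 2 (stab₂ G a b)) :
    ¬ IsCyclic (Q : Subgroup (stab₂ G a b)) := by
  classical
  intro hQ
  have : Fact (Nat.Prime 2) := ⟨Nat.prime_two⟩
  have := hZ.1
  obtain ⟨q, hq⟩ := hQ.exists_generator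
  set u : G := ((q : stab₂ G a b) : G) with hu
  set n := Nat.card (Q : Subgroup (stab₂ G a b)) with hn
  have hou : orderOf u = n := by
    rw [hu, Subgroup.orderOf_coe, Subgroup.orderOf_coe, orderOf_eq_card_of_forall_mem_zpowers hq]
  have hn2 : Even n := even_iff_two_dvd.2 (Q.dvd_card_of_dvd_card hev.two_dvd)
  have hn0 : 0 < n := Nat.card_pos
  have hu1 : u ≠ 1 := fun h => by
    rw [h, orderOf_one] at hou
    obtain ⟨m, hm⟩ := hn2
    omega
  have hua : u • a = a := (q : stab₂ G a b).2.1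
  have hub : u • b = b := (q : stab₂ G a b).2.2
  set σ : Equiv.Perm Ω := MulAction.toPermHom G Ω u with hσ
  have hσx : ∀ (m : ℕ) (x : Ω), (σ ^ m) x = u ^ m • x := fun m x => by
    rw [hσ, ← map_pow]; rfl
  have hsupp : σ.support = Finset.univ \ {a, b} := by
    ext x
    simp only [Equiv.Perm.mem_support, Finset.mem_sdiff, Finset.mem_univ, true_and, Finset.mem_insert,
      Finset.mem_singleton, not_or]
    constructor
    · intro hx
      exact ⟨fun h => hx (h ▸ hua), fun h => hx (h ▸ hub)⟩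
    · intro hx he
      exact hu1 (eq_one_of_three hZ hab hx.1 hx.2 hua hub he)
  have hmem : ∀ l ∈ σ.cycleType, l = n := by
    intro l hl
    refine Nat.dvd_antisymm ((Equiv.Perm.dvd_of_mem_cycleType hl).trans (hou ▸ orderOf_map_dvd _ _)) ?_
    obtain ⟨c, r, hcr, hdis, hcyc, hcard⟩ := Equiv.Perm.mem_cycleType_iff.1 hl
    obtain ⟨x, hx⟩ := hcyc.nonempty_support
    have hrx : r x = x := (hdis x).resolve_left (Equiv.Perm.mem_support.1 hx)
    have hfix : u ^ l • x = x := by
      rw [← hσx, hcr, hdis.commute.mul_pow, Equiv.Perm.mul_apply,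
        Equiv.Perm.pow_apply_eq_self_of_apply_eq_self hrx, ← hcard, ← hcyc.orderOf, pow_orderOf_eq_one]
      rfl
    have hxs : x ∈ σ.support := by
      rw [hcr, hdis.support_mul]
      exact Finset.mem_union_left _ hx
    rw [hsupp] at hxs
    simp only [Finset.mem_sdiff, Finset.mem_univ, true_and, Finset.mem_insert, Finset.mem_singleton, not_or] at hxs
    rw [← hou]
    refine orderOf_dvd_of_pow_eq_one (eq_one_of_three hZ hab hxs.1 hxs.2 ?_ ?_ hfix)
    · exact mem_stabilizer_iff.1 (pow_mem (mem_stabilizer_iff.2 hua) l)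
    · exact mem_stabilizer_iff.1 (pow_mem (mem_stabilizer_iff.2 hub) l)
  have hrep := Multiset.eq_replicate_of_mem hmem
  set m := Multiset.card σ.cycleType with hm
  have hsum : σ.cycleType.sum = Nat.card (stab₂ G a b) := by
    rw [Equiv.Perm.sum_cycleType, hsupp, Finset.card_sdiff_of_subset (Finset.subset_univ _),
      Finset.card_univ, Finset.card_pair hab]
    omega
  have hmn : m * n = Nat.card (stab₂ G a b) := by
    rw [← hsum]
    conv_rhs => rw [hrep, Multiset.sum_replicate, smul_eq_mul]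
  have hmidx : m = (Q : Subgroup (stab₂ G a b)).index := by
    have h1 := (Q : Subgroup (stab₂ G a b)).index_mul_card
    rw [← hmn, ← hn] at h1
    exact (Nat.eq_of_mul_eq_mul_right hn0 h1).symm
  have hsign := Cfsg.Lib.Small.sign_toPerm hnc Ω u
  rw [← hσ, Equiv.Perm.sign_of_cycleType, hsum, ← hm, ← hmn] at hsign
  have hodd : Odd (m * n + m) := by
    refine Even.add_odd (hn2.mul_left m) ?_
    rw [hmidx, Nat.odd_iff]
    have := Q.not_dvd_index
    omega
  rw [hodd.neg_one_pow] at hsign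
  exact absurd hsign (by decide)

/-- A minimal invariant subgroup of the kernel gives a numerical contradiction. -/
theorem decomposition_false (hZ : Cfsg.IsZassenhausGroup G Ω) (hab : a ≠ b)
    (hev : Even (Nat.card (stab₂ G a b))) (hd : Nat.card (stab₂ G a b) + 2 = Fintype.card Ω)
    (hex : ∃ R D : Subgroup (stab₂ G a b), Nonempty (R ≃* QuaternionGroup 2) ∧ IsMulCommutative D ∧
      Odd (Nat.card D) ∧ 3 ∣ Nat.card D ∧ Nat.card (stab₂ G a b) = 24 * Nat.card D ∧
      ∀ d ∈ D, ∀ r ∈ R, d * r = r * d) : False := by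
  classical
  have := Fintype.ofFinite G
  have := hZ.1
  obtain ⟨h, hh⟩ : ∃ h, Fintype.card Ω = h + 1 :=
    ⟨_, (Nat.sub_add_cancel (Fintype.card_pos_iff.mpr ⟨a⟩)).symm⟩
  have hh2 := two_le hZ hab hh
  obtain ⟨H, hHa, hHc, hHf⟩ := exists_kernel hZ hab
  have hn := kernel_normal hZ hab hh hHa hHc hHf
  have hfpf := fpf hab hZ hHa hHf
  have hHcomm : ∀ u ∈ H, ∀ v ∈ H, u * v = v * u := fun u hu v hv =>
    congrArg Subtype.val ((kernel_elementary hZ hab (by omega) hHa hHc hHf).1.is_comm.comm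
      (⟨u, hu⟩ : H) ⟨v, hv⟩)
  set E := stab₂ G a b with hE
  have hEN : E ≤ Subgroup.normalizer (H : Set G) := fun x hx =>
    Subgroup.mem_normalizer_fintype fun u hu => hn x hx.1 u hu
  have hHne : H ≠ ⊥ := fun h' => by rw [h', Subgroup.card_bot] at hHc; omega
  obtain ⟨R, D, ⟨eqR⟩, hDcomm, hDodd, hD3, hcardE, hcent⟩ := hex
  -- a minimal subgroup of the kernel invariant under `D`
  let Inv : Subgroup G → Prop := fun W => ∀ d ∈ D, ∀ w ∈ W, (d : G) * w * (d : G)⁻¹ ∈ W
  obtain ⟨U, hU, hUmin⟩ := Finset.exists_min_image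
    ((Finset.univ : Finset (Subgroup G)).filter fun W => W ≤ H ∧ W ≠ ⊥ ∧ Inv W) (fun W => Nat.card W)
    ⟨H, by simp only [Finset.mem_filter, Finset.mem_univ, true_and]
           exact ⟨le_rfl, hHne, fun d _ w hw => hn _ d.2.1 w hw⟩⟩
  simp only [Finset.mem_filter, Finset.mem_univ, true_and] at hU hUmin
  obtain ⟨hUH, hUne, hUinv⟩ := hU
  have hmin : ∀ W ≤ U, Inv W → W = ⊥ ∨ W = U := fun W hW hWi => by
    by_cases hWb : W = ⊥
    · exact Or.inl hWb
    · exact Or.inr (Subgroup.eq_of_le_of_card_ge hW (hUmin W ⟨hW.trans hUH, hWb, hWi⟩))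
  -- some element of `R` moves `U` to a subgroup meeting it trivially
  obtain ⟨r, hr, w₀, hw₀, hrw⟩ : ∃ r ∈ R, ∃ w ∈ U, (r : G) * w * (r : G)⁻¹ ∉ U := by
    by_contra hcon
    push Not at hcon
    let : CommGroup U := { (inferInstance : Group U) with
      mul_comm := fun x y => Subtype.ext (hHcomm x (hUH x.2) y (hUH y.2)) }
    let act : ∀ e : E, (∀ w ∈ U, (e : G) * w * (e : G)⁻¹ ∈ U) → U →* U := fun e he =>
      MonoidHom.mk' (fun w => ⟨(e : G) * w * (e : G)⁻¹, he w w.2⟩) fun x y => Subtype.ext (by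
        show (e : G) * ((x : G) * y) * (e : G)⁻¹ = (e : G) * x * (e : G)⁻¹ * ((e : G) * y * (e : G)⁻¹)
        group)
    let cD : D → U →* U := fun d => act d.1 (hUinv d d.2)
    have hcDc : ∀ i j : D, ∀ x, cD i (cD j x) = cD j (cD i x) := fun i j x => Subtype.ext (by
      have h1 : ((i : E) : G) * (j : E) = (j : E) * (i : E) :=
        congrArg (fun q : D => ((q : E) : G)) (hDcomm.is_comm.comm i j)
      show ((i : E) : G) * (((j : E) : G) * x * ((j : E) : G)⁻¹) * ((i : E) : G)⁻¹
        = ((j : E) : G) * (((i : E) : G) * x * ((i : E) : G)⁻¹) * ((j : E) : G)⁻¹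
      rw [show ((i : E) : G) * (((j : E) : G) * x * ((j : E) : G)⁻¹) * ((i : E) : G)⁻¹
        = (((i : E) : G) * (j : E)) * x * (((i : E) : G) * (j : E))⁻¹ by group, h1]
      group)
    have hirr : ∀ W : Subgroup U, (∀ i, ∀ w ∈ W, cD i w ∈ W) → W = ⊥ ∨ W = ⊤ := by
      intro W hW
      rcases hmin (W.map U.subtype) (Subgroup.map_subtype_le W) (by
        rintro d hd' _ ⟨w, hw, rfl⟩
        exact ⟨cD ⟨d, hd'⟩ w, hW _ w hw, rfl⟩) with h1 | h1
      · exact Or.inl ((Subgroup.map_eq_bot_iff_of_injective W U.subtype_injective).1 h1)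
      · refine Or.inr (Subgroup.map_injective U.subtype_injective ?_)
        rw [h1, ← MonoidHom.range_eq_map, Subgroup.range_subtype]
    have hcomR : ∀ r (hr : r ∈ R), ∀ (i : D) x,
        act r (hcon r hr) (cD i x) = cD i (act r (hcon r hr) x) := fun r hr i x => Subtype.ext (by
      have h1 : ((i : E) : G) * r = r * (i : E) :=
        congrArg (fun q : E => (q : G)) (hcent i i.2 r hr)
      show (r : G) * (((i : E) : G) * x * ((i : E) : G)⁻¹) * (r : G)⁻¹
        = ((i : E) : G) * ((r : G) * x * (r : G)⁻¹) * ((i : E) : G)⁻¹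
      rw [show ((i : E) : G) * ((r : G) * x * (r : G)⁻¹) * ((i : E) : G)⁻¹
        = (((i : E) : G) * r) * x * (((i : E) : G) * r)⁻¹ by group, h1]
      group)
    obtain ⟨r₁, r₂, hne⟩ := quaternion_not_comm eqR
    obtain ⟨w, hw, hw1⟩ := (Subgroup.bot_or_exists_ne_one U).resolve_left hUne
    have h1 := congrArg Subtype.val (comm_of_irreducible cD hcDc hirr _ _ (hcomR r₁ r₁.2) (hcomR r₂ r₂.2)
      (⟨w, hw⟩ : U))
    change ((r₁ : E) : G) * (((r₂ : E) : G) * w * ((r₂ : E) : G)⁻¹) * ((r₁ : E) : G)⁻¹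
      = ((r₂ : E) : G) * (((r₁ : E) : G) * w * ((r₁ : E) : G)⁻¹) * ((r₂ : E) : G)⁻¹ at h1
    refine hw1 (hfpf.eq_one (a := (((r₂ * r₁)⁻¹ * (r₁ * r₂) : R) : E)) (SetLike.coe_mem _) ?_ (hUH hw) ?_)
    · intro h'
      exact hne (inv_mul_eq_one.1 (Subtype.ext (Subtype.ext h') : (r₂ * r₁)⁻¹ * (r₁ * r₂) = 1)).symm
    · simp only [Subgroup.coe_mul, Subgroup.coe_inv, mul_inv_rev]
      calc ((r₁ : E) : G)⁻¹ * ((r₂ : E) : G)⁻¹ * (((r₁ : E) : G) * (r₂ : E)) * w
          = ((r₁ : E) : G)⁻¹ * ((r₂ : E) : G)⁻¹ *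
              (((r₁ : E) : G) * (((r₂ : E) : G) * w * ((r₂ : E) : G)⁻¹) * ((r₁ : E) : G)⁻¹) *
              (((r₁ : E) : G) * (r₂ : E)) := by group
        _ = w * (((r₁ : E) : G)⁻¹ * ((r₂ : E) : G)⁻¹ * (((r₁ : E) : G) * (r₂ : E))) := by rw [h1]; group
  -- the orders
  let cr : G →* G := (MulAut.conj (r : G)).toMonoidHom
  have hcr : ∀ w, cr w = (r : G) * w * (r : G)⁻¹ := fun w => rfl
  set U' := U.map cr with hU'
  have hU'H : U' ≤ H := by
    rintro _ ⟨w, hw, rfl⟩
    exact hn r r.2.1 w (hUH hw)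
  have hdisj : U ⊓ U' = ⊥ := by
    refine (hmin (U ⊓ U') inf_le_left ?_).resolve_right fun h1 => hrw ?_
    · rintro d hd' w ⟨hw, w', hw', rfl⟩
      refine ⟨hUinv d hd' _ hw, (d : G) * w' * (d : G)⁻¹, hUinv d hd' _ hw', ?_⟩
      have h1 : (d : G) * r = r * d := congrArg (fun q : E => (q : G)) (hcent d hd' r hr)
      rw [hcr, hcr, show (d : G) * ((r : G) * w' * (r : G)⁻¹) * (d : G)⁻¹
        = ((d : G) * r) * w' * ((d : G) * r)⁻¹ by group, h1]
      group
    · have h2 : U ≤ U' := h1 ▸ inf_le_right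
      have h3 : U = U' := Subgroup.eq_of_le_of_card_ge h2 (le_of_eq
        (Nat.card_congr (Subgroup.equivMapOfInjective U cr (MulAut.conj (r : G)).injective).toEquiv).symm)
      rw [h3]
      exact ⟨w₀, hw₀, rfl⟩
  have hsq : Nat.card U * Nat.card U ≤ Nat.card H := by
    rw [← Nat.card_prod]
    refine Nat.card_le_card_of_injective (fun q : U × U => (⟨q.1 * cr q.2,
      mul_mem (hUH q.1.2) (hU'H ⟨q.2, q.2.2, rfl⟩)⟩ : H)) ?_
    rintro ⟨x, y⟩ ⟨x', y'⟩ hq
    have h1 : (x : G) * cr y = x' * cr y' := congrArg Subtype.val hq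
    have h2 : (x' : G)⁻¹ * x ∈ U ⊓ U' := Subgroup.mem_inf.2 ⟨mul_mem (inv_mem x'.2) x.2, by
      rw [show (x' : G)⁻¹ * x = cr ((y' : G) * (y : G)⁻¹) by
        rw [map_mul, map_inv, eq_mul_inv_iff_mul_eq, mul_assoc, h1, inv_mul_cancel_left]]
      exact ⟨_, mul_mem y'.2 (inv_mem y.2), rfl⟩⟩
    rw [hdisj, Subgroup.mem_bot, inv_mul_eq_one] at h2
    rw [h2] at h1
    rw [Subtype.ext h2.symm, Subtype.ext ((MulAut.conj (r : G)).injective (mul_left_cancel h1))]
  have hdvd : Nat.card D ∣ Nat.card U - 1 := by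
    have hDE : D.map E.subtype ≤ E := Subgroup.map_subtype_le D
    have h1 : Cfsg.Lib.Frobenius.Fpf (D.map E.subtype) U := fun x hx hx1 => by
      rw [eq_bot_iff]
      exact (inf_le_inf_right _ hUH).trans (hfpf x (hDE hx) hx1).le
    have h2 := h1.card_dvd (fun x hx => by
      obtain ⟨d, hd', rfl⟩ := hx
      exact Subgroup.mem_normalizer_fintype fun w hw => hUinv d hd' w hw)
    rwa [← Nat.card_congr (Subgroup.equivMapOfInjective D E.subtype E.subtype_injective).toEquiv] at h2
  have hUdvd : Nat.card U ∣ Nat.card H := Subgroup.card_dvd_of_le hUH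
  have hU1 : 1 < Nat.card U := Finite.one_lt_card_iff_nontrivial.2 (U.nontrivial_iff_ne_bot.2 hUne)
  have hH : Nat.card H = 24 * Nat.card D + 1 := by omega
  obtain ⟨m, hm⟩ := hDodd
  have key : ∀ n d : ℕ, 1 < n → n * n ≤ 24 * d + 1 → d ∣ n - 1 → n ∣ 24 * d + 1 → 3 ∣ d → d % 2 = 1 → False := by
    intro n d h1 h2 h3 h4 h5 h6
    have h7 : d ≤ n - 1 := Nat.le_of_dvd (by omega) h3
    have h8 : n ≤ 23 := by
      by_contra h9
      have := Nat.mul_le_mul (show 24 ≤ n by omega) (le_refl n)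
      omega
    interval_cases n <;> interval_cases d <;> omega
  exact key (Nat.card U) (Nat.card D) hU1 (hH ▸ hsq) hdvd (hH ▸ hUdvd) hD3 (by omega)


/-- The properties of the two-point stabiliser derived from a swapping involution `s` fixing `c`. -/
theorem sharpStab_of_swapper (hZ : Cfsg.IsZassenhausGroup G Ω) (hab : a ≠ b)
    (hev : Even (Nat.card (stab₂ G a b))) (hd : Nat.card (stab₂ G a b) + 2 = Fintype.card Ω)
    {s : G} (hsa : s • a = b) (hsb : s • b = a) (hs2 : s * s = 1) {c : Ω} (hsc : s • c = c) :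
    ∃ τ : MulAut (stab₂ G a b), (∀ u, ((τ u : stab₂ G a b) : G) = s * u * s) ∧ (∀ u, τ (τ u) = u) ∧
      (∀ u, τ u = u → u * u = 1) ∧
      (∀ (p : ℕ) (A : Subgroup (stab₂ G a b)), p.Prime → IsPGroup p A →
        IsCyclic A ∨ (p = 2 ∧ ∃ n : ℕ, Nonempty (A ≃* QuaternionGroup (2 ^ n)))) ∧
      ((¬ Cfsg.HasNormalPComplement 2 (stab₂ G a b)) → SharpStab τ) := by
  classical
  have := Fintype.ofFinite G
  have := hZ.1
  have h2f : Fact (Nat.Prime 2) := ⟨Nat.prime_two⟩
  obtain ⟨h, hh⟩ : ∃ h, Fintype.card Ω = h + 1 :=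
    ⟨_, (Nat.sub_add_cancel (Fintype.card_pos_iff.mpr ⟨a⟩)).symm⟩
  have hh2 := two_le hZ hab hh
  obtain ⟨H, hHa, hHc, hHf⟩ := exists_kernel hZ hab
  have hn := kernel_normal hZ hab hh hHa hHc hHf
  have hfpf := fpf hab hZ hHa hHf
  have hHcomm : ∀ u ∈ H, ∀ v ∈ H, u * v = v * u := fun u hu v hv =>
    congrArg Subtype.val ((kernel_elementary hZ hab (by omega) hHa hHc hHf).1.is_comm.comm
      (⟨u, hu⟩ : H) ⟨v, hv⟩)
  set E := stab₂ G a b with hE
  have hEN : E ≤ Subgroup.normalizer (H : Set G) := fun x hx =>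
    Subgroup.mem_normalizer_fintype fun u hu => hn x hx.1 u hu
  have hHne : H ≠ ⊥ := fun h' => by rw [h', Subgroup.card_bot] at hHc; omega
  -- the central involution
  obtain ⟨z, hz⟩ := exists_prime_orderOf_dvd_card' (G := E) 2 hev.two_dvd
  have hz1 : (z : G) ≠ 1 := fun h => by rw [← Subgroup.orderOf_coe, h, orderOf_one] at hz; omega
  have hz2 : (z : G) * z = 1 := by
    have h1 := pow_orderOf_eq_one (z : G)
    rwa [Subgroup.orderOf_coe, hz, sq] at h1
  have hzc : ∀ u ∈ E, (z : G) * u = u * z := fun u hu => by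
    have h1 : u * z * u⁻¹ = z := stab₂_involution_unique hZ hab (mul_mem (mul_mem hu z.2) (inv_mem hu)) z.2
      (fun h' => hz1 (conj_eq_one_iff.1 h')) hz1 (by
        calc u * z * u⁻¹ * (u * z * u⁻¹) = u * ((z : G) * z) * u⁻¹ := by group
          _ = 1 := by rw [hz2]; group) hz2
    exact (mul_inv_eq_iff_eq_mul.1 h1).symm
  obtain ⟨X, hX1, -, hX3, -⟩ := swappers_of_even hZ hab hev
  have hca : c ≠ a := fun h' => hab (by rw [h'] at hsc; exact hsc.symm.trans hsa)
  have hcb : c ≠ b := fun h' => hab (by rw [h'] at hsc; exact (hsc.symm.trans hsb).symm)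
  have hsi : s⁻¹ = s := inv_eq_of_mul_eq_one_right hs2
  have hsE : ∀ u ∈ E, s * u * s ∈ E := fun u hu => ⟨by
      show (s * u * s) • a = a
      rw [mul_smul, mul_smul, hsa, show u • b = b from hu.2, hsb], by
      show (s * u * s) • b = b
      rw [mul_smul, mul_smul, hsb, show u • a = a from hu.1, hsa]⟩
  have hinvol : ∀ u : G, s * (s * u * s) * s = u := fun u => by
    rw [show s * (s * u * s) * s = (s * s) * u * (s * s) by group, hs2, one_mul, mul_one]
  let τ : MulAut E :=
    { toFun := fun u => ⟨s * u * s, hsE u u.2⟩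
      invFun := fun u => ⟨s * u * s, hsE u u.2⟩
      left_inv := fun u => Subtype.ext (hinvol u)
      right_inv := fun u => Subtype.ext (hinvol u)
      map_mul' := fun u v => Subtype.ext (by
        show s * ((u : G) * v) * s = s * u * s * (s * v * s)
        rw [show s * (u : G) * s * (s * v * s) = s * u * (s * s) * v * s by group, hs2]
        group) }
  have hτ : ∀ u : E, ((τ u : E) : G) = s * u * s := fun u => rfl
  have hfix : ∀ u, τ u = u → u * u = 1 := by
    intro u hu
    · -- an element commuting with `s` permutes the two fixed points of `s`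
      have hu' : s * u * s = (u : G) := congrArg Subtype.val hu
      have hcom : s * (u : G) = u * s := by
        calc s * (u : G) = s * u * (s * s) := by rw [hs2, mul_one]
          _ = s * u * s * s := by group
          _ = u * s := by rw [hu']
      have hs1 : s ≠ 1 := fun h' => hab (by rw [h', one_smul] at hsa; exact hsa)
      have hsu : ∀ x : Ω, s • x = x → s • ((u : G) • x) = (u : G) • x := fun x hx => by
        rw [← mul_smul, hcom, mul_smul, hx]
      have hfa : (u : G) • a = a := u.2.1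
      have hfb : (u : G) • b = b := u.2.2
      apply Subtype.ext
      refine eq_one_of_three hZ hab hca hcb ?_ ?_ ?_
      · rw [Subgroup.coe_mul, mul_smul, hfa, hfa]
      · rw [Subgroup.coe_mul, mul_smul, hfb, hfb]
      rw [Subgroup.coe_mul, mul_smul]
      rcases eq_or_ne ((u : G) • c) c with h1 | h1
      · rw [h1, h1]
      by_contra h2
      exact hs1 (eq_one_of_three hZ h1.symm h2
        (fun h3 => h1 (smul_left_cancel (u : G) h3)) hsc (hsu c hsc) (hsu _ (hsu c hsc)))
  have hpg : ∀ (p : ℕ) (A : Subgroup E), p.Prime → IsPGroup p A →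
      IsCyclic A ∨ (p = 2 ∧ ∃ n : ℕ, Nonempty (A ≃* QuaternionGroup (2 ^ n))) := by
    intro p A hp hA
    · have := Fact.mk hp
      rcases (hfpf.mono (Subgroup.map_subtype_le A)).isCyclic_or_quaternion
        ((Subgroup.map_subtype_le A).trans hEN) hHne (hA.map E.subtype) with h1 | ⟨h1, m, ⟨e⟩⟩
      · exact Or.inl ((Subgroup.equivMapOfInjective A E.subtype E.subtype_injective).symm.isCyclic.mp h1)
      · exact Or.inr ⟨h1, m, ⟨(Subgroup.equivMapOfInjective A E.subtype E.subtype_injective).trans e⟩⟩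
  refine ⟨τ, hτ, fun u => Subtype.ext (hinvol u), hfix, hpg, fun htwo =>
    { invol := fun u => Subtype.ext (hinvol u), fixed := hfix, two := htwo, pgroup := hpg,
      cyclic_of_comm := fun A hA => ?_, inverted := ?_ }⟩
  · have : IsMulCommutative (A.map E.subtype) := by
      refine ⟨⟨?_⟩⟩
      rintro ⟨_, x, hx, rfl⟩ ⟨_, y, hy, rfl⟩
      have h1 : (⟨x, hx⟩ : A) * ⟨y, hy⟩ = ⟨y, hy⟩ * ⟨x, hx⟩ := hA.is_comm.comm _ _
      exact Subtype.ext (congrArg (fun q : A => ((q : E) : G)) h1)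
    have h1 := (hfpf.mono (Subgroup.map_subtype_le A)).isCyclic_of_comm
      ((Subgroup.map_subtype_le A).trans hEN) hHne
    exact (Subgroup.equivMapOfInjective A E.subtype E.subtype_injective).symm.isCyclic.mp h1
  · refine ⟨{u : E | s * (u : G) ∈ X}, ?_, fun u hu => ?_⟩
    · have h1 : X.card ≤ Set.ncard {u : E | s * (u : G) ∈ X} := by
        rw [← Nat.card_coe_set_eq, ← Nat.card_eq_finsetCard]
        refine Nat.card_le_card_of_injective (fun q : {q // q ∈ X} =>
          (⟨⟨s * q.1, ?_⟩, ?_⟩ : {u : E | s * (u : G) ∈ X})) ?_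
        · obtain ⟨hqa, hqb, -, -⟩ := hX3 q.1 q.2
          exact ⟨by show (s * q.1) • a = a; rw [mul_smul, hqa, hsb],
            by show (s * q.1) • b = b; rw [mul_smul, hqb, hsa]⟩
        · show s * (s * q.1) ∈ X
          rw [← mul_assoc, hs2, one_mul]
          exact q.2
        · intro q q' hq
          exact Subtype.ext (mul_left_cancel (congrArg (fun p : {u : E | s * (u : G) ∈ X} => ((p.1 : E) : G)) hq))
      omega
    · obtain ⟨hqa, hqb, hq2, d, hqd⟩ := hX3 _ hu
      have hsu : s * (u : G) * s = (u : G)⁻¹ := by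
        refine eq_inv_of_mul_eq_one_left ?_
        rw [← hq2]; group
      refine ⟨Subtype.ext hsu, fun v hv => ?_⟩
      have hv3 : (v : G) ^ 3 = 1 := congrArg Subtype.val hv
      have h1 := swapper_cube hZ hab hHa hHc hHf hHcomm z.2 hz2 hz1 hzc hsa hsb hs2 hsc v.2 hv3
      have h2 := swapper_cube hZ hab hHa hHc hHf hHcomm z.2 hz2 hz1 hzc hqa hqb hq2 hqd v.2 hv3
      apply Subtype.ext
      show (u : G) * v = v * u
      refine mul_inv_eq_iff_eq_mul.1 ?_
      have hq' : s * (u : G) = (u : G)⁻¹ * s := by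
        rw [← hsu, mul_assoc _ s s, hs2, mul_one]
      calc (u : G) * v * (u : G)⁻¹ = (s * s) * ((u : G) * v * (u : G)⁻¹) * (s * s) := by rw [hs2]; group
        _ = s * (s * u * v * ((u : G)⁻¹ * s)) * s := by group
        _ = s * (s * u * v * (s * u)) * s := by rw [hq']
        _ = s * ((v : G) * v) * s := by rw [h2]
        _ = s * v * (s * s) * v * s := by rw [hs2]; group
        _ = (s * v * s) * (s * v * s) := by group
        _ = (v : G) ^ 3 * v := by rw [h1]; simp [pow_succ, mul_assoc]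
        _ = v := by rw [hv3, one_mul]

theorem no_sharp_even [IsSimpleGroup G] (hZ : Cfsg.IsZassenhausGroup G Ω) (hab : a ≠ b)
    (hev : Even (Nat.card (stab₂ G a b))) (hd : Nat.card (stab₂ G a b) + 2 = Fintype.card Ω) :
    False := by
  classical
  have := Fintype.ofFinite G
  have := hZ.1
  have h2f : Fact (Nat.Prime 2) := ⟨Nat.prime_two⟩
  obtain ⟨h, hh⟩ : ∃ h, Fintype.card Ω = h + 1 :=
    ⟨_, (Nat.sub_add_cancel (Fintype.card_pos_iff.mpr ⟨a⟩)).symm⟩
  have hh2 := two_le hZ hab hh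
  obtain ⟨H, hHa, hHc, hHf⟩ := exists_kernel hZ hab
  have hn := kernel_normal hZ hab hh hHa hHc hHf
  have hfpf := fpf hab hZ hHa hHf
  have hHcomm : ∀ u ∈ H, ∀ v ∈ H, u * v = v * u := fun u hu v hv =>
    congrArg Subtype.val ((kernel_elementary hZ hab (by omega) hHa hHc hHf).1.is_comm.comm
      (⟨u, hu⟩ : H) ⟨v, hv⟩)
  set E := stab₂ G a b with hE
  have hEN : E ≤ Subgroup.normalizer (H : Set G) := fun x hx =>
    Subgroup.mem_normalizer_fintype fun u hu => hn x hx.1 u hu
  have hHne : H ≠ ⊥ := fun h' => by rw [h', Subgroup.card_bot] at hHc; omega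
  have hnc : ¬ ∀ x y : G, x * y = y * x := by
    intro hc
    have h1 := commutator_eq_top hZ hab
    have h2 : _root_.commutator G = ⊥ := by
      rw [eq_bot_iff, _root_.commutator_def, Subgroup.commutator_le]
      intro x _ y _
      rw [Subgroup.mem_bot]
      exact commutatorElement_eq_one_iff_mul_comm.mpr (hc x y)
    exact bot_ne_top (h2.symm.trans h1)
  -- swappers
  obtain ⟨X, hX1, -, hX3, -⟩ := swappers_of_even hZ hab hev
  obtain ⟨s, hs⟩ : X.Nonempty := Finset.card_pos.1 (by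
    have : 0 < Nat.card E := Nat.card_pos
    omega)
  obtain ⟨hsa, hsb, hs2, c, hsc⟩ := hX3 s hs
  have hsi : s⁻¹ = s := inv_eq_of_mul_eq_one_right hs2
  have hsE : ∀ u ∈ E, s * u * s ∈ E := fun u hu => ⟨by
      show (s * u * s) • a = a
      rw [mul_smul, mul_smul, hsa, show u • b = b from hu.2, hsb], by
      show (s * u * s) • b = b
      rw [mul_smul, mul_smul, hsb, show u • a = a from hu.1, hsa]⟩
  obtain ⟨τ, hτ, hinvol, hfix, hpg, hS⟩ := sharpStab_of_swapper hZ hab hev hd hsa hsb hs2 hsc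
  have hcomm : ∀ u, u * τ u ∈ _root_.commutator E := fun u => by
      obtain ⟨π, -, hπ⟩ := exists_retraction hZ hab hh hHa hHc hHf
      have hm := hom_mul_conj hZ hab (Abelianization.of.comp π) (u := (u : G)) (x := s) u.2.1
        (by rw [hsa]; exact hab.symm) (by rw [hsi]; exact (hsE u u.2).1)
        (commutator_eq_top hZ hab ▸ Subgroup.mem_top _)
      have e1 : π ⟨(u : G), u.2.1⟩ = u := Subtype.ext (hπ _ u.2)
      have e2 : ∀ h' , π ⟨s⁻¹ * (u : G) * s, h'⟩ = τ u := fun h' => Subtype.ext (by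
        rw [hπ _ (by show s⁻¹ * (u : G) * s ∈ E; rw [hsi]; exact hsE u u.2), hτ]
        show s⁻¹ * (u : G) * s = s * u * s
        rw [hsi])
      rw [MonoidHom.comp_apply, MonoidHom.comp_apply, e1, e2, ← map_mul, ← MonoidHom.mem_ker,
        Abelianization.ker_of] at hm
      exact hm
  exact decomposition_false hZ hab hev hd
    (hS (not_two_nilpotent_of_comm hinvol hfix hcomm hpg (sharp_not_cyclic hZ hab hnc hev hd))).decomposition

end Cfsg.Lib.RankOne
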