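import Cfsg.Agent.RankOne.Inverted
import Cfsg.Prelude.Def_Solvable
import Cfsg.Agent.Thompson.FixedPointFree

/-! The rank-one set-up: elementary consequences. -/

set_option autoImplicit false
set_option linter.unusedSectionVars false

open MulAction

namespace Cfsg.Lib.RankOne

variable {G Ω : Type*} [Group G] [Finite G] [MulAction G Ω] {a : Ω} {t : G} {Q : Subgroup G}

/-- The two-point stabiliser. -/
abbrev twoStab (Ω : Type*) [MulAction G Ω] (a : Ω) (t : G) : Subgroup G :=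
  stabilizer G a ⊓ stabilizer G (t • a)

variable (hS : Cfsg.IsRankOneSetup G Ω a t Q)
include hS

theorem t_inv : t⁻¹ = t := inv_of_sq hS.mul_self

theorem ta_ne : t • a ≠ a := hS.not_mem

theorem t_ta : t • t • a = a := by rw [← mul_smul, hS.mul_self, one_smul]

theorem trans₂ {p q r s : Ω} (h1 : p ≠ q) (h2 : r ≠ s) : ∃ g : G, g • p = r ∧ g • q = s :=
  is_two_pretransitive_iff.1 hS.two_transitive h1 h2

theorem trans₁ (p r : Ω) : ∃ g : G, g • p = r := by
  rcases eq_or_ne p r with rfl | h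
  · exact ⟨1, one_smul _ _⟩
  · exact (trans₂ hS h h.symm).imp fun g hg => hg.1

theorem finite_pts : Finite Ω := Finite.of_surjective (fun g : G => g • a) fun p => trans₁ hS a p

theorem fix_a {x : G} (hx : x ∈ Q) : x • a = a := hS.le hx

theorem qd {g : G} (hg : g ∈ stabilizer G a) : ∃ q ∈ Q, ∃ d ∈ twoStab Ω a t, g = q * d := by
  have hn : twoStab Ω a t ≤ Subgroup.normalizer (Q : Set G) := fun d hd => by
    rw [Subgroup.mem_normalizer_iff]
    refine fun x => ⟨hS.conj_mem d hd.1 x, fun h => ?_⟩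
    have := hS.conj_mem d⁻¹ (inv_mem hd.1) _ h
    simpa [mul_assoc] using this
  rw [← hS.sup_eq, sup_comm, ← SetLike.mem_coe, Subgroup.coe_mul_of_left_le_normalizer_right _ _ hn] at hg
  obtain ⟨d, hd, q, hq, rfl⟩ := hg
  exact ⟨d * q * d⁻¹, hS.conj_mem d hd.1 q hq, d, hd, by simp⟩

theorem regular {b c : Ω} (hb : b ≠ a) (hc : c ≠ a) : ∃! x : Q, (x : G) • b = c := by
  have ex : ∀ c, c ≠ a → ∃ x : Q, (x : G) • t • a = c := fun c hc => by
    obtain ⟨g, g1, g2⟩ := trans₂ hS (ta_ne hS).symm hc.symm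
    obtain ⟨q, hq, d, hd, rfl⟩ := qd hS (show g ∈ stabilizer G a from g1)
    exact ⟨⟨q, hq⟩, by rw [← g2, mul_smul, show d • t • a = t • a from hd.2]⟩
  obtain ⟨y, hy⟩ := ex b hb
  obtain ⟨z, hz⟩ := ex c hc
  refine ⟨z * y⁻¹, ?_, fun x hx => ?_⟩
  · show ((z : G) * (y : G)⁻¹) • b = c
    rw [← hy, ← hz, mul_smul, inv_smul_smul]
  · have hx' : (x : G) • b = c := hx
    have h : (z : G)⁻¹ * x * y ∈ Q ⊓ stabilizer G (t • a) := by
      refine ⟨Q.mul_mem (Q.mul_mem (Q.inv_mem z.2) x.2) y.2, ?_⟩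
      show ((z : G)⁻¹ * x * y) • t • a = t • a
      rw [mul_smul, mul_smul, hy, hx', inv_smul_eq_iff, hz]
    rw [hS.inf_eq_bot, Subgroup.mem_bot] at h
    refine Subtype.ext ?_
    calc (x : G) = z * ((z : G)⁻¹ * x * y) * (y : G)⁻¹ := by group
      _ = _ := by rw [h, mul_one]; rfl

theorem fix_only {x : G} (hx : x ∈ Q) (hx1 : x ≠ 1) {p : Ω} (hp : x • p = p) : p = a := by
  by_contra h
  obtain ⟨y, -, hy⟩ := regular hS h h
  exact hx1 (congrArg Subtype.val ((hy ⟨x, hx⟩ hp).trans (hy 1 (one_smul _ _)).symm))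

theorem card_pts : Nat.card Ω = Nat.card Q + 1 := by
  classical
  have := finite_pts hS
  let f : Option Q → Ω := fun o => match o with
    | none => a
    | some x => (x : G) • t • a
  have hne : ∀ x : Q, (x : G) • t • a ≠ a := fun x h => ta_ne hS (MulAction.injective (x : G) (h.trans (fix_a hS x.2).symm))
  have hf : Function.Bijective f := by
    refine ⟨fun u v h => ?_, fun p => ?_⟩
    · rcases u with _ | u <;> rcases v with _ | v
      · rfl
      · exact absurd h.symm (hne v)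
      · exact absurd h (hne u)
      · obtain ⟨w, -, hw⟩ := regular hS (ta_ne hS) (hne v)
        exact congrArg some ((hw u h).trans (hw v rfl).symm)
    · rcases eq_or_ne p a with rfl | hp
      · exact ⟨none, rfl⟩
      · obtain ⟨x, hx, -⟩ := regular hS (ta_ne hS) hp
        exact ⟨some x, hx⟩
  rw [← Nat.card_eq_of_bijective f hf, Finite.card_option]

theorem odd_pts : Odd (Nat.card Ω) := by rw [card_pts hS]; exact hS.even_card.add_one

theorem card_stab : Nat.card (stabilizer G a) = Nat.card Q * Nat.card (twoStab Ω a t) := by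
  rw [← Nat.card_prod]
  refine (Nat.card_eq_of_bijective (fun p : Q × twoStab Ω a t =>
    (⟨p.1.1 * p.2.1, mul_mem (hS.le p.1.2) p.2.2.1⟩ : stabilizer G a)) ⟨fun p q h => ?_, fun g => ?_⟩).symm
  · have h' : p.1.1 * p.2.1 = q.1.1 * q.2.1 := congrArg Subtype.val h
    have hm : q.1.1⁻¹ * p.1.1 ∈ Q ⊓ stabilizer G (t • a) := by
      refine ⟨Q.mul_mem (Q.inv_mem q.1.2) p.1.2, ?_⟩
      have e : q.1.1⁻¹ * p.1.1 = q.2.1 * p.2.1⁻¹ := by
        rw [eq_mul_inv_iff_mul_eq, mul_assoc, h', inv_mul_cancel_left]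
      rw [e]
      exact (stabilizer G (t • a)).mul_mem q.2.2.2 ((stabilizer G (t • a)).inv_mem p.2.2.2)
    rw [hS.inf_eq_bot, Subgroup.mem_bot, inv_mul_eq_one] at hm
    exact Prod.ext (Subtype.ext hm.symm) (Subtype.ext (mul_left_cancel (hm ▸ h')))
  · obtain ⟨q, hq, d, hd, e⟩ := qd hS g.2
    exact ⟨(⟨q, hq⟩, ⟨d, hd⟩), Subtype.ext e.symm⟩

theorem card_group : Nat.card G = Nat.card Q * Nat.card (twoStab Ω a t) * (Nat.card Q + 1) := by
  rw [← card_stab hS, ← card_pts hS, ← (stabilizer G a).card_mul_index]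
  congr 1
  have : IsPretransitive G Ω := ⟨trans₁ hS⟩
  exact MulAction.index_stabilizer_of_transitive G a

theorem sylow_le : ∃ P : Sylow 2 G, (P : Subgroup G) ≤ Q := by
  have : Fact (Nat.Prime 2) := ⟨Nat.prime_two⟩
  obtain ⟨R⟩ : Nonempty (Sylow 2 Q) := inferInstance
  let R' : Subgroup G := (R : Subgroup Q).map Q.subtype
  have hR : IsPGroup 2 R' := R.isPGroup'.map _
  refine ⟨hR.toSylow ?_, Subgroup.map_subtype_le _⟩
  intro hd
  have h2 : R'.index = (R : Subgroup Q).index * Q.index := by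
    rw [Subgroup.index_map_subtype]
  rw [h2] at hd
  rcases (Nat.Prime.dvd_mul Nat.prime_two).1 hd with h | h
  · exact R.not_dvd_index h
  · have h3 := Q.card_mul_index
    rw [card_group hS, mul_assoc] at h3
    rw [Nat.eq_of_mul_eq_mul_left Nat.card_pos h3] at h
    exact Nat.not_even_iff_odd.2 (hS.odd_card.mul hS.even_card.add_one) (even_iff_two_dvd.2 h)

theorem inv_mem_Q {s : G} (hs : s ∈ stabilizer G a) (h2 : s * s = 1) : s ∈ Q := by
  obtain ⟨q, hq, d, hd, rfl⟩ := qd hS hs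
  have hdd : d * d ∈ Q := by
    have e : d * d = (d * q * d⁻¹)⁻¹ * q⁻¹ * (q * d * (q * d)) := by group
    rw [e, h2, mul_one]
    exact mul_mem (inv_mem (hS.conj_mem d hd.1 q hq)) (inv_mem hq)
  have h : d * d ∈ Q ⊓ stabilizer G (t • a) := ⟨hdd, mul_mem hd.2 hd.2⟩
  rw [hS.inf_eq_bot, Subgroup.mem_bot] at h
  rw [eq_one_of_odd (orderOf_odd_mem hS.odd_card hd) h, mul_one]
  exact hq

theorem exists_fix {s : G} (h2 : s * s = 1) : ∃ p : Ω, s • p = p := by
  classical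
  have := finite_pts hS
  let : Fintype Ω := Fintype.ofFinite Ω
  have : Fact (Nat.Prime 2) := ⟨Nat.prime_two⟩
  have hp : MulAction.toPermHom G Ω s ^ 2 ^ 1 = 1 := by rw [pow_one, ← map_pow, pow_two, h2, map_one]
  have hodd : ¬ 2 ∣ Fintype.card Ω := by
    rw [← Nat.card_eq_fintype_card, ← even_iff_two_dvd, Nat.not_even_iff_odd]; exact odd_pts hS
  obtain ⟨p, hp⟩ := Equiv.Perm.exists_fixed_point_of_prime hodd hp
  exact ⟨p, hp⟩

theorem inv_fix_unique {s : G} (hs1 : s ≠ 1) (h2 : s * s = 1) {p r : Ω} (hp : s • p = p) (hr : s • r = r) :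
    r = p := by
  obtain ⟨g, hg⟩ := trans₁ hS p a
  have hm : g * s * g⁻¹ ∈ stabilizer G a := by
    show (g * s * g⁻¹) • a = a
    rw [← hg, mul_smul, mul_smul, inv_smul_smul, hp]
  have hq := inv_mem_Q hS hm (by rw [show g * s * g⁻¹ * (g * s * g⁻¹) = g * (s * s) * g⁻¹ by group, h2]; group)
  have := fix_only hS hq (fun h => hs1 (by rwa [mul_inv_eq_one, mul_eq_left] at h))
    (show (g * s * g⁻¹) • g • r = g • r by rw [mul_smul, mul_smul, inv_smul_smul, hr])
  rw [← hg] at this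
  exact MulAction.injective g this

theorem commute_fix {z s : G} (hs1 : s ≠ 1) (hs2 : s * s = 1) (hc : Commute z s) {p : Ω} (hp : s • p = p) :
    z • p = p :=
  inv_fix_unique hS hs1 hs2 hp (by rw [← mul_smul, ← hc.eq, mul_smul, hp])

theorem odd_of_fix {s u : G} (hs1 : s ≠ 1) (hs2 : s * s = 1) (hu1 : u ≠ 1) (hu2 : u * u = 1) {p : Ω}
    (hp : s • p = p) (hup : u • p ≠ p) : Odd (orderOf (s * u)) := by
  refine (odd_mul_or_central hs2 hu2).resolve_right fun ⟨z, hz1, hz2, hzs, hzu⟩ => hup ?_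
  exact commute_fix hS hz1 hz2 hzu.symm (commute_fix hS hs1 hs2 hzs hp)

theorem conj_all {u v : G} (hu1 : u ≠ 1) (hu2 : u * u = 1) (hv1 : v ≠ 1) (hv2 : v * v = 1) :
    ∃ g : G, g * u * g⁻¹ = v := by
  obtain ⟨p, hp⟩ := exists_fix hS hu2
  obtain ⟨r, hr⟩ := exists_fix hS hv2
  obtain ⟨r', hr'⟩ : ∃ r', r' ≠ r := by
    rcases eq_or_ne r a with h | h
    · exact ⟨t • a, by rw [h]; exact ta_ne hS⟩
    · exact ⟨a, h.symm⟩
  obtain ⟨g, hg⟩ := trans₁ hS p r'
  set w := g * u * g⁻¹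
  have hw : w • r' = r' := by rw [← hg, mul_smul, mul_smul, inv_smul_smul, hp]
  have hw1 : w ≠ 1 := fun h => hu1 (by rwa [mul_inv_eq_one, mul_eq_left] at h)
  have hw2 : w * w = 1 := by rw [show w * w = g * (u * u) * g⁻¹ by simp only [w]; group, hu2]; group
  have hne : w • r ≠ r := fun h => hr' (inv_fix_unique hS hw1 hw2 hw h).symm
  obtain ⟨k, -, hk⟩ := conj_of_odd_mul hv2 hw2 (odd_of_fix hS hv1 hv2 hw1 hw2 hr hne)
  exact ⟨k * g, by rw [← hk]; simp only [w]; group⟩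

theorem normalizer_le {X : Set G} (hX : X ⊆ (Q : Set G)) (h : ∃ x ∈ X, x ≠ 1) :
    Subgroup.normalizer X ≤ stabilizer G a := by
  intro g hg
  obtain ⟨x, hx, hx1⟩ := h
  have hy : g * x * g⁻¹ ∈ X := (Subgroup.mem_set_normalizer_iff.1 hg x).1 hx
  exact fix_only hS (hX hy) (fun h => hx1 (by rwa [mul_inv_eq_one, mul_eq_left] at h))
    (by rw [mul_smul, mul_smul, inv_smul_smul, fix_a hS (hX hx)])

theorem exists_nontriv : ∃ x ∈ (Q : Set G), x ≠ 1 := by
  by_contra h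
  push Not at h
  have h1 : Q = ⊥ := (Subgroup.eq_bot_iff_forall Q).2 h
  have := hS.even_card
  rw [h1, Subgroup.card_bot] at this
  exact Nat.not_even_one this

theorem normalizer_Q : Subgroup.normalizer (Q : Set G) = stabilizer G a := by
  refine le_antisymm (normalizer_le hS subset_rfl (exists_nontriv hS)) fun h hh => ?_
  rw [Subgroup.mem_normalizer_iff]
  refine fun x => ⟨hS.conj_mem h hh x, fun hx => ?_⟩
  have := hS.conj_mem h⁻¹ (inv_mem hh) _ hx
  simpa [mul_assoc] using this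

theorem normalizer_stab : Subgroup.normalizer (stabilizer G a : Set G) = stabilizer G a := by
  refine le_antisymm (fun g hg => ?_) Subgroup.le_normalizer
  obtain ⟨x, hx, hx1⟩ := exists_nontriv hS
  by_contra hne
  have h : ∀ y ∈ stabilizer G a, y • g • a = g • a := fun y hy => by
    have h2 := (Subgroup.mem_normalizer_iff.1 (inv_mem hg) y).1 hy
    have h3 : (g⁻¹ * y * g⁻¹⁻¹) • a = a := h2
    rwa [inv_inv, mul_smul, mul_smul, inv_smul_eq_iff] at h3
  exact hne (fix_only hS hx hx1 (h x (hS.le hx)))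

theorem conj_invol {x s : G} (h1 : x • a = a) (hs : s ∈ Cfsg.involutionsIn (stabilizer G a : Set G)) :
    x * s * x⁻¹ ∈ Cfsg.involutionsIn (stabilizer G a : Set G) := by
  refine ⟨mul_mem (mul_mem h1 hs.1) (inv_mem (show x ∈ stabilizer G a from h1)),
    fun h => hs.2.1 (by rwa [mul_inv_eq_one, mul_eq_left] at h), ?_⟩
  rw [show x * s * x⁻¹ * (x * s * x⁻¹) = x * (s * s) * x⁻¹ by group, hs.2.2]; group

theorem exists_invol : ∃ s, s ∈ Cfsg.involutionsIn (stabilizer G a : Set G) := by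
  obtain ⟨p, hp⟩ := exists_fix hS hS.mul_self
  obtain ⟨g, hg⟩ := trans₁ hS p a
  refine ⟨g * t * g⁻¹, ?_, fun h => hS.ne_one (by rwa [mul_inv_eq_one, mul_eq_left] at h), ?_⟩
  · show (g * t * g⁻¹) • a = a
    rw [← hg, mul_smul, mul_smul, inv_smul_smul, hp]
  · rw [show g * t * g⁻¹ * (g * t * g⁻¹) = g * (t * t) * g⁻¹ by group, hS.mul_self]; group

theorem conj_D {x : G} (hx : x ∈ twoStab Ω a t) : t * x * t⁻¹ ∈ twoStab Ω a t := by
  obtain ⟨h1, h2⟩ := Subgroup.mem_inf.1 hx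
  rw [t_inv hS]
  refine Subgroup.mem_inf.2 ⟨?_, ?_⟩
  · show (t * x * t) • a = a
    rw [mul_smul, mul_smul, show x • t • a = t • a from h2, t_ta hS]
  · show (t * x * t) • t • a = t • a
    rw [mul_smul, mul_smul, t_ta hS, show x • a = a from h1]

/-- Involutions exchanging the two points are the products with inverted elements. -/
theorem swap_iff {u : G} : (u ≠ 1 ∧ u * u = 1 ∧ u • a = t • a) ↔
    ∃ k ∈ Cfsg.invertedBy (twoStab Ω a t) t, u = k * t := by
  constructor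
  · rintro ⟨hu1, hu2, hua⟩
    have hu3 : u • t • a = a := by rw [← hua, ← mul_smul, hu2, one_smul]
    refine ⟨u * t, ⟨Subgroup.mem_inf.2 ⟨?_, ?_⟩, ?_⟩, by rw [mul_assoc, hS.mul_self, mul_one]⟩
    · show (u * t) • a = a
      rw [mul_smul, hu3]
    · show (u * t) • t • a = t • a
      rw [mul_smul, t_ta hS, hua]
    · rw [mul_inv_rev, t_inv hS, inv_of_sq hu2, mul_assoc, mul_assoc, hS.mul_self, mul_one]
  · rintro ⟨k, ⟨hk, hki⟩, rfl⟩
    rw [t_inv hS] at hki
    refine ⟨fun h => hS.not_mem ?_, ?_, ?_⟩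
    · rw [mul_eq_one_iff_inv_eq] at h
      rw [← h]; exact inv_mem (Subgroup.mem_inf.1 hk).1
    · rw [show k * t * (k * t) = k * (t * k * t) by simp only [mul_assoc], hki, mul_inv_cancel]
    · rw [mul_smul, show k • t • a = t • a from (Subgroup.mem_inf.1 hk).2]

theorem swap_card :
    Nat.card (Cfsg.invertedBy (twoStab Ω a t) t) = Nat.card (Cfsg.involutionsIn (stabilizer G a : Set G)) := by
  classical
  have := finite_pts hS
  let I := {u : G // u ≠ 1 ∧ u * u = 1}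
  let J := Cfsg.involutionsIn (stabilizer G a : Set G)
  have e1 : Nat.card (Cfsg.invertedBy (twoStab Ω a t) t) = Nat.card {u : I // u.1 • a = t • a} := by
    refine Nat.card_eq_of_bijective (fun k => ⟨⟨k.1 * t, ?_, ?_⟩, ?_⟩) ⟨fun k l h => ?_, fun u => ?_⟩
    · exact ((swap_iff hS).2 ⟨k.1, k.2, rfl⟩).1
    · exact ((swap_iff hS).2 ⟨k.1, k.2, rfl⟩).2.1
    · exact ((swap_iff hS).2 ⟨k.1, k.2, rfl⟩).2.2
    · exact Subtype.ext (mul_right_cancel (congrArg (fun z => z.1.1) h))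
    · obtain ⟨k, hk, e⟩ := (swap_iff hS).1 ⟨u.1.2.1, u.1.2.2, u.2⟩
      exact ⟨⟨k, hk⟩, Subtype.ext (Subtype.ext e.symm)⟩
  have conjI : ∀ (g : G) (u : I), g * u.1 * g⁻¹ ≠ 1 ∧ g * u.1 * g⁻¹ * (g * u.1 * g⁻¹) = 1 := fun g u =>
    ⟨fun h => u.2.1 (by rwa [mul_inv_eq_one, mul_eq_left] at h),
      by rw [show g * u.1 * g⁻¹ * (g * u.1 * g⁻¹) = g * (u.1 * u.1) * g⁻¹ by group, u.2.2]; group⟩
  -- every involution outside the stabiliser moves the point somewhere
  have eI : Nat.card I = Nat.card Ω * Nat.card J := by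
    have hb : ∀ p : Ω, ∃ g : G, g • a = p := trans₁ hS a
    choose g hg using hb
    rw [← Nat.card_prod]
    refine (Nat.card_eq_of_bijective (fun z : Ω × J =>
      (⟨g z.1 * z.2.1 * (g z.1)⁻¹, conjI (g z.1) ⟨z.2.1, z.2.2.2⟩⟩ : I)) ⟨fun y z h => ?_, fun u => ?_⟩).symm
    · have h' : g y.1 * y.2.1 * (g y.1)⁻¹ = g z.1 * z.2.1 * (g z.1)⁻¹ := congrArg Subtype.val h
      have fy : ∀ z : Ω × J, (g z.1 * z.2.1 * (g z.1)⁻¹) • z.1 = z.1 := fun z => by
        conv_lhs => arg 2; rw [← hg z.1]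
        rw [mul_smul, mul_smul, inv_smul_smul, show z.2.1 • a = a from z.2.2.1, hg]
      have e : z.1 = y.1 := by
        have h0 := conjI (g y.1) ⟨y.2.1, y.2.2.2⟩
        exact inv_fix_unique hS h0.1 h0.2 (fy y) (by rw [h']; exact fy z)
      rw [e] at h'
      exact Prod.ext e.symm (Subtype.ext (mul_left_cancel (mul_right_cancel h')))
    · obtain ⟨p, hp⟩ := exists_fix hS u.2.2
      have hm : (g p)⁻¹ * u.1 * g p ∈ stabilizer G a := by
        show ((g p)⁻¹ * u.1 * g p) • a = a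
        rw [mul_smul, mul_smul, hg, hp, inv_smul_eq_iff, hg]
      have h0 := conjI (g p)⁻¹ u
      rw [inv_inv] at h0
      exact ⟨(p, ⟨_, hm, h0⟩), Subtype.ext (by show g p * ((g p)⁻¹ * u.1 * g p) * (g p)⁻¹ = u.1; group)⟩
  have eI2 : Nat.card I = Nat.card J + Nat.card Q * Nat.card {u : I // u.1 • a = t • a} := by
    have h1 : Nat.card I = Nat.card {u : I // u.1 • a = a} + Nat.card {u : I // ¬ u.1 • a = a} := by
      rw [← Nat.card_sum, Nat.card_congr (Equiv.sumCompl (fun u : I => u.1 • a = a))]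
    have h2 : Nat.card {u : I // u.1 • a = a} = Nat.card J := Nat.card_congr
      { toFun := fun u => ⟨u.1.1, u.2, u.1.2⟩, invFun := fun s => ⟨⟨s.1, s.2.2⟩, s.2.1⟩,
        left_inv := fun _ => rfl, right_inv := fun _ => rfl }
    have h3 : Nat.card {u : I // ¬ u.1 • a = a} = Nat.card Q * Nat.card {u : I // u.1 • a = t • a} := by
      rw [← Nat.card_prod]
      refine (Nat.card_eq_of_bijective (fun z : Q × {u : I // u.1 • a = t • a} =>
        (⟨⟨(z.1 : G) * z.2.1.1 * (z.1 : G)⁻¹, conjI z.1 z.2.1⟩, ?_⟩ : {u : I // ¬ u.1 • a = a})) ⟨fun y z h => ?_, fun u => ?_⟩).symm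
      · show ¬ ((z.1 : G) * z.2.1.1 * (z.1 : G)⁻¹) • a = a
        rw [mul_smul, mul_smul, smul_inv_smul_fix z.1.1 (fix_a hS z.1.2), z.2.2]
        exact fun h => ta_ne hS (MulAction.injective (z.1 : G) (h.trans (fix_a hS z.1.2).symm))
      · have h' : (y.1 : G) * y.2.1.1 * (y.1 : G)⁻¹ = (z.1 : G) * z.2.1.1 * (z.1 : G)⁻¹ := congrArg (fun w => w.1.1) h
        have e := congrArg (fun g : G => g • a) h'
        simp only [mul_smul, smul_inv_smul_fix y.1.1 (fix_a hS y.1.2), smul_inv_smul_fix z.1.1 (fix_a hS z.1.2),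
          y.2.2, z.2.2] at e
        obtain ⟨w, -, hw⟩ := regular hS (ta_ne hS)
          (fun h => ta_ne hS (MulAction.injective (z.1 : G) (h.trans (fix_a hS z.1.2).symm)))
        have e1 : y.1 = z.1 := (hw y.1 e).trans (hw z.1 rfl).symm
        rw [e1] at h'
        exact Prod.ext e1 (Subtype.ext (Subtype.ext (mul_left_cancel (mul_right_cancel h'))))
      · obtain ⟨x, hx, -⟩ := regular hS (ta_ne hS) (show u.1.1 • a ≠ a from u.2)
        have h0 := conjI (x : G)⁻¹ u.1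
        rw [inv_inv] at h0
        have h1 : ((x : G)⁻¹ * u.1.1 * x) • a = t • a := by
          rw [mul_smul, mul_smul, fix_a hS x.2, inv_smul_eq_iff, hx]
        exact ⟨(x, ⟨⟨_, h0⟩, h1⟩), Subtype.ext (Subtype.ext (by
          show (x : G) * ((x : G)⁻¹ * u.1.1 * x) * (x : G)⁻¹ = u.1.1
          group))⟩
    omega
  rw [e1]
  rw [card_pts hS, eI] at *
  have h := eI2
  rw [Nat.add_mul, one_mul, Nat.add_comm] at h
  exact (Nat.eq_of_mul_eq_mul_left Nat.card_pos (Nat.add_left_cancel h)).symm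
where
  smul_inv_smul_fix (x : G) (hx : x • a = a) : x⁻¹ • a = a := by rw [inv_smul_eq_iff, hx]

theorem conj_inj {s : G} (hs : s ∈ Cfsg.involutionsIn (stabilizer G a : Set G)) {k l : G}
    (hk : k ∈ Cfsg.invertedBy (twoStab Ω a t) t) (hl : l ∈ Cfsg.invertedBy (twoStab Ω a t) t)
    (h : k⁻¹ * s * k = l⁻¹ * s * l) : k = l := by
  have hkl : l * k⁻¹ ∈ twoStab Ω a t := mul_mem hl.1 (inv_mem hk.1)
  have hu := (swap_iff hS).2 ⟨k, hk, rfl⟩
  have hki := hk.2
  have hli := hl.2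
  have hodd : Odd (orderOf (s * (k * t))) :=
    odd_of_fix hS hs.2.1 hs.2.2 hu.1 hu.2.1 hs.1 (by rw [hu.2.2]; exact ta_ne hS)
  have h1 : s * (l * k⁻¹) * s⁻¹ = l * k⁻¹ := by
    rw [mul_inv_eq_iff_eq_mul]
    calc s * (l * k⁻¹) = l * (l⁻¹ * s * l) * k⁻¹ := by group
      _ = l * (k⁻¹ * s * k) * k⁻¹ := by rw [h]
      _ = _ := by group
  have h2 : k * t * (l * k⁻¹) * (k * t)⁻¹ = (l * k⁻¹)⁻¹ := by
    rw [show k * t * (l * k⁻¹) * (k * t)⁻¹ = k * ((t * l * t⁻¹) * (t * k * t⁻¹)⁻¹) * k⁻¹ by group, hli, hki]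
    group
  exact (mul_inv_eq_one.1 (inverted_centralised hodd h1 h2 (orderOf_odd_mem hS.odd_card hkl))).symm

theorem conj_surj {s s' : G} (hs : s ∈ Cfsg.involutionsIn (stabilizer G a : Set G))
    (hs' : s' ∈ Cfsg.involutionsIn (stabilizer G a : Set G)) :
    ∃ k ∈ Cfsg.invertedBy (twoStab Ω a t) t, k⁻¹ * s * k = s' := by
  have hmem : ∀ k ∈ Cfsg.invertedBy (twoStab Ω a t) t, k⁻¹ * s * k ∈ Cfsg.involutionsIn (stabilizer G a : Set G) :=
    fun k hk => by
      have := conj_invol hS (x := k⁻¹) (inv_smul_eq_iff.2 (Subgroup.mem_inf.1 hk.1).1.symm) hs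
      rwa [inv_inv] at this
  let f : Cfsg.invertedBy (twoStab Ω a t) t → Cfsg.involutionsIn (stabilizer G a : Set G) :=
    fun k => ⟨_, hmem k k.2⟩
  have hf : Function.Injective f := fun k l h => Subtype.ext (conj_inj hS hs k.2 l.2 (congrArg Subtype.val h))
  obtain ⟨k, hk⟩ := (hf.bijective_of_nat_card_le (swap_card hS).ge).2 ⟨s', hs'⟩
  exact ⟨k, k.2, congrArg Subtype.val hk⟩

theorem partner : ∃! p : G × G, p.1 ∈ Cfsg.involutionsIn (stabilizer G a : Set G) ∧ p.2 ∈ Q ∧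
    t * p.1 * t = p.2⁻¹ * t * p.2 := by
  obtain ⟨f, hf⟩ := exists_fix hS hS.mul_self
  have hfa : f ≠ a := fun h => ta_ne hS (by rw [← h]; exact hf)
  obtain ⟨r, hr, hru⟩ := regular hS (ta_ne hS) hfa
  have hr' : (r : G) • t • a = f := hr
  refine ⟨(t * ((r : G)⁻¹ * t * r) * t, r), ⟨⟨?_, fun h => hS.ne_one ?_, ?_⟩, r.2, ?_⟩, ?_⟩
  · show (t * ((r : G)⁻¹ * t * r) * t) • a = a
    rw [mul_smul, mul_smul, mul_smul, mul_smul, hr', hf, ← hr', inv_smul_smul, t_ta hS]
  · have : (r : G)⁻¹ * t * r = 1 := by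
      calc (r : G)⁻¹ * t * r = t⁻¹ * (t * ((r : G)⁻¹ * t * r) * t) * t⁻¹ := by group
        _ = t⁻¹ * 1 * t⁻¹ := by rw [show t * ((r : G)⁻¹ * t * r) * t = 1 from h]
        _ = 1 := by rw [t_inv hS, mul_one, hS.mul_self]
    calc t = (r : G) * ((r : G)⁻¹ * t * r) * (r : G)⁻¹ := by group
      _ = 1 := by rw [this]; group
  · have htt := hS.mul_self
    calc t * ((r : G)⁻¹ * t * r) * t * (t * ((r : G)⁻¹ * t * r) * t)
        = t * ((r : G)⁻¹ * t * r) * (t * t) * (((r : G)⁻¹ * t * r) * t) := by simp only [mul_assoc]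
      _ = t * ((r : G)⁻¹ * (t * t) * r) * t := by
          simp only [htt, mul_one, mul_assoc, mul_inv_cancel_left]
          rw [← mul_assoc t t, htt, one_mul]
      _ = 1 := by rw [htt, mul_one, inv_mul_cancel, mul_one, htt]
  · show t * (t * ((r : G)⁻¹ * t * r) * t) * t = _
    rw [show t * (t * ((r : G)⁻¹ * t * r) * t) * t = (t * t) * ((r : G)⁻¹ * t * r) * (t * t) by
      simp only [mul_assoc], hS.mul_self, one_mul, mul_one]
  · rintro ⟨s, r'⟩ ⟨hs, hr'Q, e⟩
    have h1 : (r'⁻¹ * t * r') • t • a = t • a := by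
      rw [← e, mul_smul, mul_smul, t_ta hS, show s • a = a from hs.1]
    have h2 : t • r' • t • a = r' • t • a := by
      rw [mul_smul, mul_smul, inv_smul_eq_iff] at h1
      exact h1
    have h3 : (⟨r', hr'Q⟩ : Q) = r := hru ⟨r', hr'Q⟩ (inv_fix_unique hS hS.ne_one hS.mul_self hf h2)
    have h4 : r' = (r : G) := congrArg Subtype.val h3
    simp only at e
    refine Prod.ext ?_ h4
    show s = _
    rw [← h4, ← e, show t * (t * s * t) * t = (t * t) * s * (t * t) by simp only [mul_assoc], hS.mul_self, one_mul,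
      mul_one]

theorem cent_eq {s r : G} (hs : s ∈ Cfsg.involutionsIn (stabilizer G a : Set G)) (hr : r ∈ Q)
    (e : t * s * t = r⁻¹ * t * r) :
    twoStab Ω a t ⊓ Subgroup.centralizer {t} = twoStab Ω a t ⊓ Subgroup.centralizer {s} := by
  have hle : twoStab Ω a t ⊓ Subgroup.centralizer {t} ≤ twoStab Ω a t ⊓ Subgroup.centralizer {s} := by
    intro x hx
    obtain ⟨hxD, hxt⟩ := Subgroup.mem_inf.1 hx
    rw [Subgroup.mem_centralizer_singleton_iff] at hxt
    refine Subgroup.mem_inf.2 ⟨hxD, Subgroup.mem_centralizer_singleton_iff.2 ?_⟩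
    obtain ⟨p, -, hpu⟩ := partner hS
    have hx' : Commute x t := hxt
    have h1 := hpu (s, r) ⟨hs, hr, e⟩
    have h2 := hpu (x * s * x⁻¹, x * r * x⁻¹) ⟨conj_invol hS (Subgroup.mem_inf.1 hxD).1 hs,
      hS.conj_mem x (Subgroup.mem_inf.1 hxD).1 r hr, by
        have hxi : Commute x⁻¹ t := hx'.inv_left
        calc t * (x * s * x⁻¹) * t = (t * x) * s * (x⁻¹ * t) := by simp only [mul_assoc]
          _ = (x * t) * s * (t * x⁻¹) := by rw [hx'.eq, hxi.eq]
          _ = x * (t * s * t) * x⁻¹ := by simp only [mul_assoc]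
          _ = x * (r⁻¹ * t * r) * x⁻¹ := by rw [e]
          _ = x * r⁻¹ * x⁻¹ * (x * t * x⁻¹) * (x * r * x⁻¹) := by group
          _ = _ := by rw [hx'.eq, mul_inv_cancel_right]; group⟩
    have h3 := congrArg Prod.fst (h2.trans h1.symm)
    exact mul_inv_eq_iff_eq_mul.1 h3
  refine Subgroup.eq_of_le_of_card_ge hle ?_
  have hc := card_factor hS.mul_self hS.odd_card (fun x hx => conj_D hS hx)
  have hc2 : Nat.card (twoStab Ω a t) = Nat.card ↥(twoStab Ω a t ⊓ Subgroup.centralizer {s}) *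
      Nat.card (Cfsg.involutionsIn (stabilizer G a : Set G)) := by
    rw [← Nat.card_prod]
    have hsur : ∀ s', s' ∈ Cfsg.involutionsIn (stabilizer G a : Set G) →
        ∃ k : twoStab Ω a t, (k : G)⁻¹ * s * k = s' := fun s' h => by
      obtain ⟨k, hk, h'⟩ := conj_surj hS hs h
      exact ⟨⟨k, hk.1⟩, h'⟩
    choose k hk using hsur
    refine (Nat.card_eq_of_bijective
      (fun z : ↥(twoStab Ω a t ⊓ Subgroup.centralizer {s}) × Cfsg.involutionsIn (stabilizer G a : Set G) =>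
      (⟨z.1.1 * (k z.2.1 z.2.2).1, mul_mem (Subgroup.mem_inf.1 z.1.2).1 (k z.2.1 z.2.2).2⟩ : twoStab Ω a t))
      ⟨fun y z h => ?_, fun x => ?_⟩).symm
    · have h' : y.1.1 * (k y.2.1 y.2.2).1 = z.1.1 * (k z.2.1 z.2.2).1 := congrArg Subtype.val h
      have cs : ∀ z : ↥(twoStab Ω a t ⊓ Subgroup.centralizer {s}) × Cfsg.involutionsIn (stabilizer G a : Set G),
          (z.1.1 * (k z.2.1 z.2.2).1)⁻¹ * s * (z.1.1 * (k z.2.1 z.2.2).1) = z.2.1 := fun z => by
        rw [mul_inv_rev, show ((k z.2.1 z.2.2).1)⁻¹ * z.1.1⁻¹ * s * (z.1.1 * (k z.2.1 z.2.2).1) =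
          ((k z.2.1 z.2.2).1)⁻¹ * (z.1.1⁻¹ * (s * z.1.1)) * (k z.2.1 z.2.2).1 by simp only [mul_assoc],
          ← Subgroup.mem_centralizer_singleton_iff.1 (Subgroup.mem_inf.1 z.1.2).2, inv_mul_cancel_left, hk]
      have e2 : y.2 = z.2 := Subtype.ext (by rw [← cs y, h', cs z])
      rw [e2] at h'
      exact Prod.ext (Subtype.ext (mul_right_cancel h')) e2
    · have hm : (x : G)⁻¹ * s * x ∈ Cfsg.involutionsIn (stabilizer G a : Set G) := by
        have := conj_invol hS (x := (x : G)⁻¹) (inv_smul_eq_iff.2 (Subgroup.mem_inf.1 x.2).1.symm) hs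
        rwa [inv_inv] at this
      refine ⟨(⟨(x : G) * (k _ hm).1⁻¹, Subgroup.mem_inf.2 ⟨mul_mem x.2 (inv_mem (k _ hm).2),
        Subgroup.mem_centralizer_singleton_iff.2 ?_⟩⟩, ⟨_, hm⟩), Subtype.ext (inv_mul_cancel_right _ _)⟩
      calc (x : G) * (k _ hm).1⁻¹ * s
          = (x : G) * ((k _ hm).1⁻¹ * s * (k _ hm).1) * (k _ hm).1⁻¹ := by group
        _ = (x : G) * ((x : G)⁻¹ * s * x) * (k _ hm).1⁻¹ := by rw [hk]
        _ = _ := by group
  have : Nonempty (Cfsg.involutionsIn (stabilizer G a : Set G)) := ⟨⟨s, hs⟩⟩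
  rw [swap_card hS] at hc
  exact le_of_eq (Nat.eq_of_mul_eq_mul_right Nat.card_pos (hc2.symm.trans hc))

end Cfsg.Lib.RankOne
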