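import Cfsg.Agent.OddChar.Zassenhaus.Basic
import Cfsg.Agent.Frobenius.Kernel
import Cfsg.Agent.OddChar.Zassenhaus.Results
import Cfsg.Agent.RankOne.Basic

/-! Normal subgroups of Zassenhaus groups; Zassenhaus groups of odd degree are simple. -/

set_option autoImplicit false
set_option linter.unusedSectionVars false

open MulAction
open scoped Pointwise

namespace Cfsg.Lib.RankOne

open Cfsg.Lib.OddChar.Zassenhaus

variable {G Ω : Type*} [Group G] [Finite G] [MulAction G Ω]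

theorem normal_connects [FaithfulSMul G Ω] (h2 : IsMultiplyPretransitive G Ω 2) {N : Subgroup G} (hN : N.Normal)
    (hne : N ≠ ⊥) {q r : Ω} (hqr : q ≠ r) : ∃ n ∈ N, n • q = r := by
  obtain ⟨⟨n, hn⟩, hn1⟩ := Subgroup.ne_bot_iff_exists_ne_one.1 hne
  obtain ⟨p, hp⟩ : ∃ p : Ω, n • p ≠ p := by
    by_contra h
    push Not at h
    exact hn1 (Subtype.ext (eq_of_smul_eq_smul fun p : Ω => (h p).trans (one_smul G p).symm))
  obtain ⟨g, g1, g2⟩ := is_two_pretransitive_iff.1 h2 (Ne.symm hp) hqr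
  refine ⟨g * n * g⁻¹, hN.conj_mem n hn g, ?_⟩
  rw [← g1, mul_smul, mul_smul, inv_smul_smul, g2]

theorem normal_pretransitive [FaithfulSMul G Ω] (h2 : IsMultiplyPretransitive G Ω 2) {N : Subgroup G} (hN : N.Normal)
    (hne : N ≠ ⊥) : IsPretransitive N Ω := ⟨fun q r => by
  rcases eq_or_ne q r with rfl | h
  · exact ⟨1, one_smul _ _⟩
  · obtain ⟨n, hn, e⟩ := normal_connects h2 hN hne h
    exact ⟨⟨n, hn⟩, e⟩⟩

/-- A regular normal subgroup of a doubly transitive group is abelian. -/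
theorem regular_normal_abelian {G Ω : Type*} [Group G] [Finite G] [MulAction G Ω] [FaithfulSMul G Ω]
    (h2 : IsMultiplyPretransitive G Ω 2) {M : Subgroup G} (hM : M.Normal) (hMr : ∀ a : Ω, stabilizer M a = ⊥) :
    ∀ m ∈ M, ∀ n ∈ M, m * n = n * m := by
  have hsemi : ∀ m ∈ M, ∀ p : Ω, m • p = p → m = 1 := fun m hm p hp => by
    have : (⟨m, hm⟩ : M) ∈ stabilizer M p := hp
    rw [hMr, Subgroup.mem_bot] at this
    exact congrArg Subtype.val this
  rcases eq_or_ne M ⊥ with h | hne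
  · intro m hm n _; rw [h, Subgroup.mem_bot] at hm; rw [hm, one_mul, mul_one]
  obtain ⟨⟨m0, hm0⟩, hm01⟩ := Subgroup.ne_bot_iff_exists_ne_one.1 hne
  have hm01' : m0 ≠ 1 := fun h => hm01 (Subtype.ext h)
  obtain ⟨a⟩ : Nonempty Ω := by
    by_contra h
    rw [not_nonempty_iff] at h
    exact hm01' (eq_of_smul_eq_smul fun p : Ω => isEmptyElim p)
  have hconj : ∀ m ∈ M, ∀ n ∈ M, m ≠ 1 → n ≠ 1 → ∃ f : G, f * m * f⁻¹ = n := by
    intro m hm n hn hm1 hn1
    obtain ⟨f, f1, f2⟩ := is_two_pretransitive_iff.1 h2 (show a ≠ m • a from fun h => hm1 (hsemi m hm a h.symm))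
      (show a ≠ n • a from fun h => hn1 (hsemi n hn a h.symm))
    refine ⟨f, ?_⟩
    have h : (n⁻¹ * (f * m * f⁻¹)) • a = a := by
      conv_lhs => rw [← f1]
      rw [mul_smul, mul_smul, mul_smul, inv_smul_smul, f2, inv_smul_smul]
    exact (inv_mul_eq_one.1 (hsemi _ (M.mul_mem (M.inv_mem hn) (hM.conj_mem m hm f)) a h)).symm
  obtain ⟨p, hp, hpd⟩ := Nat.exists_prime_and_dvd (n := orderOf m0) (fun h => hm01' (orderOf_eq_one_iff.1 h))
  have ho : orderOf (m0 ^ (orderOf m0 / p)) = p := orderOf_pow_orderOf_div (orderOf_pos m0).ne' hpd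
  have : Fact p.Prime := ⟨hp⟩
  have hpg : IsPGroup p M := fun m => by
    refine ⟨1, ?_⟩
    rcases eq_or_ne (m : G) 1 with h | h
    · exact Subtype.ext (by rw [SubmonoidClass.coe_pow, h, one_pow, OneMemClass.coe_one])
    · obtain ⟨f, hf⟩ := hconj _ (M.pow_mem hm0 _) m.1 m.2
        (fun e => hp.ne_one (by rw [← ho, e, orderOf_one])) h
      refine Subtype.ext ?_
      rw [SubmonoidClass.coe_pow, ← hf, conj_pow, pow_one]
      nth_rw 2 [← ho]
      rw [pow_orderOf_eq_one, mul_one, mul_inv_cancel]; rfl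
  have : Nontrivial M := ⟨⟨⟨m0, hm0⟩, 1, hm01⟩⟩
  have := hpg.center_nontrivial
  obtain ⟨⟨z, hz⟩, hz1⟩ := exists_ne (1 : Subgroup.center M)
  have hz1' : (z : G) ≠ 1 := fun h => hz1 (Subtype.ext (Subtype.ext h))
  intro m hm n hn
  rcases eq_or_ne m 1 with rfl | hm1
  · rw [one_mul, mul_one]
  obtain ⟨f, rfl⟩ := hconj _ z.2 m hm hz1' hm1
  have h := congrArg Subtype.val
    (Subgroup.mem_center_iff.1 hz ⟨f⁻¹ * n * f, by simpa [mul_assoc] using hM.conj_mem n hn f⁻¹⟩)
  simp only [Subgroup.coe_mul] at h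
  calc f * z * f⁻¹ * n = f * ((z : G) * (f⁻¹ * n * f)) * f⁻¹ := by group
    _ = f * (f⁻¹ * n * f * z) * f⁻¹ := by rw [h]
    _ = _ := by group

/-- A regular normal subgroup of a doubly transitive group equals its centraliser. -/
theorem regular_normal_centralizer {G Ω : Type*} [Group G] [Finite G] [MulAction G Ω] [FaithfulSMul G Ω]
    (h2 : IsMultiplyPretransitive G Ω 2) {M : Subgroup G} (hM : M.Normal) (hMt : IsPretransitive M Ω)
    (hMr : ∀ a : Ω, stabilizer M a = ⊥) {x : G} (hx : ∀ m ∈ M, m * x = x * m) : x ∈ M := by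
  have hab := regular_normal_abelian h2 hM hMr
  rcases isEmpty_or_nonempty Ω with h | ⟨⟨a⟩⟩
  · have : x = 1 := eq_of_smul_eq_smul fun p : Ω => isEmptyElim p
    exact this ▸ M.one_mem
  obtain ⟨⟨m, hm⟩, hma⟩ := hMt.exists_smul_eq a (x • a)
  have e : x = m := by
    refine eq_of_smul_eq_smul fun p : Ω => ?_
    obtain ⟨⟨n, hn⟩, hnp⟩ := hMt.exists_smul_eq a p
    have hnp' : n • a = p := hnp
    rw [← hnp', ← mul_smul, ← mul_smul, ← hx n hn, hab m hm n hn, mul_smul, mul_smul]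
    exact congrArg (n • ·) (show m • a = x • a from hma).symm
  exact e ▸ hm

variable [Fintype Ω]

theorem kernel_le_normal (hZ : Cfsg.IsZassenhausGroup G Ω) {a b : Ω} (hab : a ≠ b) {H : Subgroup G}
    (hHa : H ≤ stabilizer G a) (hHc : Nat.card H + 1 = Fintype.card Ω)
    (hHf : ∀ u ∈ H, u ≠ 1 → ∀ c : Ω, u • c = c → c = a) {N : Subgroup G} (hN : N.Normal) (hne : N ≠ ⊥) :
    H ≤ N ∧ ∃ v ∈ N, v ≠ 1 ∧ v • a = a ∧ ∃ c, c ≠ a ∧ v • c = c := by
  classical
  have := hZ.1
  have htr := normal_pretransitive hZ.2.1 hN hne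
  have hh : Fintype.card Ω = (Fintype.card Ω - 1) + 1 :=
    (Nat.sub_add_cancel (Fintype.card_pos_iff.mpr ⟨a⟩)).symm
  by_cases hex : ∃ v ∈ N, v ≠ 1 ∧ v • a = a ∧ ∃ c, c ≠ a ∧ v • c = c
  · refine ⟨?_, hex⟩
    obtain ⟨v, hv, hv1, hva, c, hca, hvc⟩ := hex
    have hfpf := fpf hca.symm hZ hHa hHf
    have hnorm := kernel_normal hZ hab hh hHa hHc hHf
    let f : H → H := fun u => ⟨(u : G)⁻¹ * (v * u * v⁻¹), H.mul_mem (H.inv_mem u.2) (hnorm v hva u u.2)⟩
    have hf : Function.Injective f := fun u w h => by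
      have h' : (u : G)⁻¹ * (v * u * v⁻¹) = (w : G)⁻¹ * (v * w * v⁻¹) := congrArg Subtype.val h
      have h2 : v * ((u : G) * (w : G)⁻¹) = (u : G) * (w : G)⁻¹ * v := by
        calc v * ((u : G) * (w : G)⁻¹) = (u : G) * ((u : G)⁻¹ * (v * u * v⁻¹)) * ((w : G)⁻¹ * (v * w * v⁻¹))⁻¹ * (w : G)⁻¹ * v := by
              group
          _ = _ := by rw [h']; group
      exact Subtype.ext (mul_inv_eq_one.1 (hfpf.eq_one (Subgroup.mem_inf.2 ⟨hva, hvc⟩) hv1 (H.mul_mem u.2 (H.inv_mem w.2)) h2))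
    intro u hu
    obtain ⟨w, hw⟩ := (Finite.injective_iff_surjective.1 hf) ⟨u, hu⟩
    have hw' : (w : G)⁻¹ * (v * w * v⁻¹) = u := congrArg Subtype.val hw
    rw [← hw', show (w : G)⁻¹ * (v * w * v⁻¹) = (w : G)⁻¹ * v * w * v⁻¹ by group]
    exact N.mul_mem (by simpa using hN.conj_mem v hv (w : G)⁻¹) (N.inv_mem hv)
  exfalso
  push Not at hex
  obtain ⟨a0, ha0⟩ := hZ.2.2.2.2 N hN htr
  -- all stabilisers in `N` are nontrivial and fix a single point
  have only : ∀ p : Ω, ∀ v ∈ N, v ≠ 1 → v • p = p → ∀ c, v • c = c → c = p := by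
    intro p v hv hv1 hvp c hvc
    by_contra hcp
    obtain ⟨g, g1, g2⟩ := exists_map hZ (Ne.symm hcp) hab
    refine hex (g * v * g⁻¹) (hN.conj_mem v hv g) (fun h => hv1 (by rwa [mul_inv_eq_one, mul_eq_left] at h)) ?_ b hab.symm ?_
    · rw [← g1, mul_smul, mul_smul, inv_smul_smul, hvp]
    · rw [← g2, mul_smul, mul_smul, inv_smul_smul, hvc]
  set A := stabilizer N a0
  have hFC : Cfsg.IsFrobeniusComplement A := by
    refine ⟨ha0, fun htop => ?_, fun g hg => ?_⟩
    · rcases eq_or_ne a0 a with h | h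
      · obtain ⟨n, hn⟩ := htr.exists_smul_eq a0 b
        have : n ∈ A := htop ▸ Subgroup.mem_top n
        exact hab (h.symm.trans ((show n • a0 = a0 from this).symm.trans hn))
      · obtain ⟨n, hn⟩ := htr.exists_smul_eq a0 a
        have : n ∈ A := htop ▸ Subgroup.mem_top n
        exact h ((show n • a0 = a0 from this).symm.trans hn)
    · rw [eq_bot_iff]
      intro u hu
      obtain ⟨hu1, hu2⟩ := Subgroup.mem_inf.mp hu
      rw [Subgroup.mem_pointwise_smul_iff_inv_smul_mem] at hu2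
      have h3 : ((g : G)⁻¹ * u * g) • a0 = a0 := by
        have h4 : (g⁻¹ * u * g : N) • a0 = a0 := by simpa [A, mem_stabilizer_iff] using hu2
        exact h4
      rw [mul_smul, mul_smul, inv_smul_eq_iff] at h3
      rw [Subgroup.mem_bot]
      by_contra hne1
      exact hg (only a0 u u.2 (fun h => hne1 (Subtype.ext h)) hu1 _ h3)
  obtain ⟨K, hK, hKn, hKc⟩ := Cfsg.Lib.Frobenius.exists_kernel hFC
  have hKset : ∀ k : N, k ∈ K ↔ (k : G) = 1 ∨ ∀ p : Ω, (k : G) • p ≠ p := by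
    intro k
    rw [← SetLike.mem_coe, hK]
    refine or_congr ⟨fun h => by rw [h]; rfl, fun h => Subtype.ext h⟩ ⟨fun h p hp => ?_, fun h g hg => ?_⟩
    · obtain ⟨n, hn⟩ := htr.exists_smul_eq a0 p
      have hn' : (n : G) • a0 = p := hn
      refine h n ?_
      rw [Subgroup.mem_pointwise_smul_iff_inv_smul_mem]
      suffices h5 : (n⁻¹ * k * n : N) • a0 = a0 by simpa [A, mem_stabilizer_iff] using h5
      show ((n : G)⁻¹ * k * n) • a0 = a0
      rw [mul_smul, mul_smul, hn', hp, inv_smul_eq_iff, hn']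
    · rw [Subgroup.mem_pointwise_smul_iff_inv_smul_mem] at hg
      have h4 : (g⁻¹ * k * g : N) • a0 = a0 := by simpa [A, mem_stabilizer_iff] using hg
      have h3 : ((g : G)⁻¹ * k * g) • a0 = a0 := h4
      rw [mul_smul, mul_smul, inv_smul_eq_iff] at h3
      exact h _ h3
  set K' : Subgroup G := K.map N.subtype
  have hK'n : K'.Normal := by
    refine ⟨?_⟩
    rintro _ ⟨k, hk, rfl⟩ g
    refine ⟨⟨g * k * g⁻¹, hN.conj_mem _ k.2 g⟩, (hKset _).2 ?_, rfl⟩
    rcases (hKset k).1 hk with h | h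
    · exact Or.inl (by show g * (k : G) * g⁻¹ = 1; rw [h]; group)
    · refine Or.inr fun p hp => h (g⁻¹ • p) ?_
      have hp' : (g * (k : G) * g⁻¹) • p = p := hp
      conv_rhs => rw [← hp']
      rw [mul_smul, mul_smul, inv_smul_smul]
  have hsemi : ∀ k ∈ K', ∀ p : Ω, k • p = p → k = 1 := by
    rintro _ ⟨k, hk, rfl⟩ p hp
    rcases (hKset k).1 hk with h | h
    · exact h
    · exact absurd hp (h p)
  have hKt : IsPretransitive K' Ω := by
    let f : K' → Ω := fun k => (k : G) • a0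
    have hf : Function.Injective f := fun k l h => by
      have h' : (k : G) • a0 = (l : G) • a0 := h
      refine Subtype.ext ?_
      have := hsemi _ (K'.mul_mem (K'.inv_mem l.2) k.2) a0 (by rw [mul_smul, h', inv_smul_smul])
      exact (inv_mul_eq_one.1 this).symm
    have hc : Nat.card Ω ≤ Nat.card K' := by
      rw [Subgroup.card_map_of_injective N.subtype_injective, ← hKc.index_eq_card,
        MulAction.index_stabilizer_of_transitive N a0]
    have hs := (hf.bijective_of_nat_card_le hc).2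
    refine ⟨fun p r => ?_⟩
    obtain ⟨k, hk⟩ := hs p
    obtain ⟨l, hl⟩ := hs r
    exact ⟨l * k⁻¹, by rw [mul_smul, ← hk, show k⁻¹ • f k = a0 from inv_smul_smul k a0]; exact hl⟩
  obtain ⟨p, hp⟩ := hZ.2.2.2.2 K' hK'n hKt
  exact hp ((Subgroup.eq_bot_iff_forall _).2 fun k hk => Subtype.ext (hsemi _ k.2 p hk))

theorem normal_zassenhaus (hZ : Cfsg.IsZassenhausGroup G Ω) {N : Subgroup G} (hN : N.Normal) (hne : N ≠ ⊥) :
    Cfsg.IsZassenhausGroup N Ω := by
  classical
  have := hZ.1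
  obtain ⟨g0, hg0, a, b, hab, -, -⟩ := hZ.2.2.2.1
  have htr := normal_pretransitive hZ.2.1 hN hne
  obtain ⟨H, hHa, hHc, hHf⟩ := exists_kernel hZ hab
  obtain ⟨hHN, v, hv, hv1, hva, c, hca, hvc⟩ := kernel_le_normal hZ hab hHa hHc hHf hN hne
  have hfaith : FaithfulSMul N Ω := ⟨fun {x y} h => Subtype.ext (eq_of_smul_eq_smul fun p : Ω => h p)⟩
  have h2N : IsMultiplyPretransitive N Ω 2 := by
    rw [is_two_pretransitive_iff]
    intro p q r s hpq hrs
    obtain ⟨n, hn⟩ := htr.exists_smul_eq p a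
    obtain ⟨n', hn'⟩ := htr.exists_smul_eq r a
    obtain ⟨u, hu, hus⟩ := exists_kernel_map hHa hHc hHf (c := n • q) (d := n' • s)
      (fun h => hpq (MulAction.injective n (hn.trans h.symm)))
      (fun h => hrs (MulAction.injective n' (hn'.trans h.symm)))
    have hua : (⟨u, hHN hu⟩ : N) • a = a := hHa hu
    refine ⟨n'⁻¹ * ⟨u, hHN hu⟩ * n, ?_, ?_⟩
    · rw [mul_smul, mul_smul, hn, hua, inv_smul_eq_iff, hn']
    · rw [mul_smul, mul_smul, show (⟨u, hHN hu⟩ : N) • n • q = n' • s from hus, inv_smul_smul]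
  refine ⟨hfaith, h2N,
    fun g p q r h1 h2 h3 e1 e2 e3 => Subtype.ext (hZ.2.2.1 g p q r h1 h2 h3 e1 e2 e3),
    ⟨⟨v, hv⟩, fun h => hv1 (congrArg Subtype.val h), a, c, hca.symm, hva, hvc⟩, fun M hM hMt => ?_⟩
  by_contra hcon
  push Not at hcon
  set M' : Subgroup G := M.map N.subtype
  have hsemiM : ∀ m ∈ M, ∀ p : Ω, m • p = p → m = 1 := fun m hm p hp => by
    have : (⟨m, hm⟩ : M) ∈ stabilizer M p := hp
    rw [hcon, Subgroup.mem_bot] at this
    exact congrArg Subtype.val this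
  have hM'n : M'.Normal := by
    refine ⟨?_⟩
    rintro _ ⟨m, hm, rfl⟩ g
    -- the conjugate subgroup
    let M2 : Subgroup N := M.map ((MulAut.conjNormal g : MulAut N)).toMonoidHom
    have hM2 : M2.Normal := hM.map _ ((MulAut.conjNormal g : MulAut N)).surjective
    have hle : M2 ≤ M := by
      rcases eq_or_ne (M ⊓ M2) ⊥ with h | h
      · intro x hx
        refine regular_normal_centralizer h2N hM hMt hcon fun y hy => ?_
        exact Subgroup.commute_of_normal_of_disjoint M M2 hM hM2 (disjoint_iff.2 h) y x hy hx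
      · have hn2 : (M ⊓ M2).Normal := inferInstance
        have hL := normal_pretransitive h2N hn2 h
        have hLM : M ⊓ M2 = M := by
          refine le_antisymm inf_le_left fun x hx => ?_
          obtain ⟨⟨y, hy⟩, hyx⟩ := hL.exists_smul_eq a (x • a)
          have e : y⁻¹ * x = 1 := hsemiM _ (M.mul_mem (M.inv_mem (Subgroup.mem_inf.1 hy).1) hx) a
            (by rw [mul_smul, ← hyx]; exact inv_smul_smul y a)
          rw [← inv_mul_eq_one.1 e]; exact hy
        have hle' : M ≤ M2 := hLM ▸ inf_le_right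
        exact (Subgroup.eq_of_le_of_card_ge hle' (by
          exact (Subgroup.card_map_of_injective ((MulAut.conjNormal g : MulAut N)).injective).le)).ge
    exact ⟨(MulAut.conjNormal g : MulAut N) m, hle ⟨m, hm, rfl⟩, MulAut.conjNormal_apply g m⟩
  have hM't : IsPretransitive M' Ω := ⟨fun p q => by
    obtain ⟨m, hm⟩ := hMt.exists_smul_eq p q
    exact ⟨⟨(m.1 : G), ⟨m.1, m.2, rfl⟩⟩, hm⟩⟩
  obtain ⟨p, hp⟩ := hZ.2.2.2.2 M' hM'n hM't
  refine hp ((Subgroup.eq_bot_iff_forall _).2 fun k hk => ?_)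
  obtain ⟨⟨_, ⟨m, hm, rfl⟩⟩, rfl⟩ : ∃ k' : M', k' = k := ⟨k, rfl⟩
  exact Subtype.ext (show N.subtype m = 1 by rw [hsemiM m hm p hk]; rfl)

theorem odd_degree_simple (hZ : Cfsg.IsZassenhausGroup G Ω) (hodd : Odd (Fintype.card Ω)) : IsSimpleGroup G := by
  classical
  have := hZ.1
  obtain ⟨g0, hg0, a, b, hab, -, -⟩ := hZ.2.2.2.1
  obtain ⟨H, hHa, hHc, hHf⟩ := exists_kernel hZ hab
  set h := Nat.card H
  have hh : Fintype.card Ω = h + 1 := hHc.symm
  have hheven : Even h := by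
    rw [hh] at hodd
    exact Nat.not_odd_iff_even.1 (fun ho => Nat.not_even_iff_odd.2 hodd ho.add_one)
  set E := stab₂ G a b
  have hfpf := fpf hab hZ hHa hHf
  have hnorm := kernel_normal hZ hab hh hHa hHc hHf
  have hEN : E ≤ Subgroup.normalizer (H : Set G) := fun x hx =>
    Subgroup.mem_normalizer_fintype fun u hu => hnorm x hx.1 u hu
  have hco := hfpf.coprime hEN
  have hEodd : Odd (Nat.card E) := by
    rw [← Nat.not_even_iff_odd, even_iff_two_dvd]
    exact fun h2 => Nat.not_coprime_of_dvd_of_dvd one_lt_two h2 (even_iff_two_dvd.1 hheven) hco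
  -- an involution exchanging the two points
  obtain ⟨w, hwa, hwb⟩ := exists_map hZ hab hab.symm
  have hww : w * w ∈ E := Subgroup.mem_inf.2
    ⟨show (w * w) • a = a by rw [mul_smul, hwa, hwb], show (w * w) • b = b by rw [mul_smul, hwb, hwa]⟩
  obtain ⟨k, hk⟩ := orderOf_odd_mem hEodd hww
  set t := w ^ (2 * k + 1) with htdef
  have hwE : w ^ (2 * k) ∈ E := by rw [pow_mul, pow_two]; exact E.pow_mem hww k
  have hta : t • a = b := by
    rw [htdef, pow_succ', mul_smul, show w ^ (2 * k) • a = a from (Subgroup.mem_inf.1 hwE).1, hwa]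
  have ht2 : t * t = 1 := by rw [htdef, ← pow_add, ← two_mul, pow_mul, pow_two, ← hk, pow_orderOf_eq_one]
  have ht1 : t ≠ 1 := fun h => hab (by rw [← hta, h, one_smul])
  have hS : Cfsg.IsRankOneSetup G Ω a t H :=
    { two_transitive := hZ.2.1, mul_self := ht2, ne_one := ht1
      not_mem := fun h => hab ((show t • a = a from h).symm.trans hta)
      le := hHa, conj_mem := fun x hx u hu => hnorm x hx u hu
      inf_eq_bot := (Subgroup.eq_bot_iff_forall _).2 fun u hu => by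
        obtain ⟨h1, h2⟩ := Subgroup.mem_inf.1 hu
        by_contra hne
        exact hab (hHf u h1 hne b (by rw [← hta]; exact h2)).symm
      sup_eq := by
        refine le_antisymm (sup_le hHa inf_le_left) fun g hg => ?_
        have hga : g • a = a := hg
        obtain ⟨u, hu, hub⟩ := exists_kernel_map hHa hHc hHf hab.symm
          (fun h' => hab (MulAction.injective g (hga.trans h'.symm)) : g • b ≠ a)
        rw [← mul_inv_cancel_left u g]
        refine Subgroup.mul_mem_sup hu (Subgroup.mem_inf.2 ⟨mul_mem (inv_mem (hHa hu)) hg, ?_⟩)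
        show (u⁻¹ * g) • t • a = t • a
        rw [hta, mul_smul, ← hub, inv_smul_smul]
      even_card := hheven
      odd_card := by rw [hta]; exact hEodd }
  have hD : twoStab Ω a t = E := by show stabilizer G a ⊓ stabilizer G (t • a) = E; rw [hta]
  obtain ⟨s, hs⟩ := exists_invol hS
  have hsH := inv_mem_Q hS hs.1 hs.2.2
  -- every element of the two-point stabiliser is inverted
  have hinv : ∀ x ∈ E, x ∈ Cfsg.invertedBy (twoStab Ω a t) t := by
    let f : E → Cfsg.involutionsIn (stabilizer G a : Set G) := fun x =>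
      ⟨(x : G) * s * (x : G)⁻¹, conj_invol hS x.2.1 hs⟩
    have hf : Function.Injective f := fun x y h => by
      have h' : (x : G) * s * (x : G)⁻¹ = (y : G) * s * (y : G)⁻¹ := congrArg Subtype.val h
      by_contra hne
      refine hs.2.1 (hfpf.eq_one (E.mul_mem (E.inv_mem y.2) x.2) (fun h1 => hne (Subtype.ext (inv_mul_eq_one.1 h1).symm)) hsH ?_)
      calc (y : G)⁻¹ * x * s = (y : G)⁻¹ * (x * s * (x : G)⁻¹) * x := by group
        _ = (y : G)⁻¹ * (y * s * (y : G)⁻¹) * x := by rw [h']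
        _ = _ := by group
    have hc := Nat.card_le_card_of_injective f hf
    rw [← swap_card hS] at hc
    let g : Cfsg.invertedBy (twoStab Ω a t) t → E := fun x => ⟨x.1, hD ▸ x.2.1⟩
    have hg : Function.Injective g := fun x y h => Subtype.ext (congrArg (fun z : E => (z : G)) h)
    intro x hx
    obtain ⟨⟨y, hy⟩, hyx⟩ := (hg.bijective_of_nat_card_le hc).2 ⟨x, hx⟩
    rw [← show y = x from congrArg Subtype.val hyx]
    exact hy
  have : Nontrivial G := ⟨⟨g0, 1, hg0⟩⟩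
  refine ⟨fun N hN => or_iff_not_imp_left.2 fun hne => ?_⟩
  obtain ⟨hHN, -⟩ := kernel_le_normal hZ hab hHa hHc hHf hN hne
  have hinvN : ∀ u : G, u ≠ 1 → u * u = 1 → u ∈ N := fun u hu1 hu2 => by
    obtain ⟨g, hg⟩ := conj_all hS hs.2.1 hs.2.2 hu1 hu2
    rw [← hg]; exact hN.conj_mem s (hHN hsH) g
  have htN := hinvN t ht1 ht2
  have hEle : E ≤ N := fun x hx => by
    obtain ⟨h1, h2, -⟩ := (swap_iff hS).2 ⟨x, hinv x hx, rfl⟩
    have := N.mul_mem (hinvN _ h1 h2) (N.inv_mem htN)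
    rwa [mul_inv_cancel_right] at this
  rw [eq_top_iff]
  intro g _
  obtain ⟨⟨n, hn⟩, hna⟩ := (normal_pretransitive hZ.2.1 hN hne).exists_smul_eq a (g • a)
  have hna' : n • a = g • a := hna
  obtain ⟨q, hq, d, hd, e⟩ := qd hS (show n⁻¹ * g ∈ stabilizer G a by
    show (n⁻¹ * g) • a = a
    rw [mul_smul, ← hna', inv_smul_smul])
  rw [← mul_inv_cancel_left n g, e]
  exact N.mul_mem hn (N.mul_mem (hHN hq) (hEle (hD ▸ hd)))

end Cfsg.Lib.RankOne
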