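import Cfsg.Agent.RankOne.StabOrder
import Cfsg.Agent.RankOne.PrimeKernelPGL
import Cfsg.Agent.RankOne.IrreducibleCoords
import Cfsg.Agent.Classical.SL
import Mathlib

/-! Sharply triply transitive groups with an abelian two-point stabiliser are the groups `PGL(2, q)`. -/

set_option autoImplicit false
set_option linter.unusedSectionVars false

open MulAction
open scoped OnePoint

namespace Cfsg.Lib.RankOne

open Cfsg.Lib.OddChar.Zassenhaus Matrix

variable {G Ω : Type*} [Group G] [Finite G] [MulAction G Ω] [Fintype Ω]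
variable {a b : Ω} {H : Subgroup G}

theorem sharp_pgl (hZ : Cfsg.IsZassenhausGroup G Ω) (hab : a ≠ b)
    (hd : Nat.card (stab₂ G a b) + 2 = Fintype.card Ω)
    (hEcomm : ∀ x ∈ stab₂ G a b, ∀ y ∈ stab₂ G a b, x * y = y * x)
    (hHa : H ≤ stabilizer G a) (hHcard : Nat.card H + 1 = Fintype.card Ω)
    (hHf : ∀ u ∈ H, u ≠ 1 → ∀ c : Ω, u • c = c → c = a) :
    ∃ (F : Type) (_ : Field F) (_ : Fintype F),
      Fintype.card F = Nat.card H ∧ Nonempty (G ≃* Matrix.ProjGenLinGroup (Fin 2) F) := by
  classical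
  have := hZ.1
  have hb : b ≠ a := hab.symm
  obtain ⟨h, hh⟩ : ∃ h, Fintype.card Ω = h + 1 :=
    ⟨_, (Nat.sub_add_cancel (Fintype.card_pos_iff.mpr ⟨a⟩)).symm⟩
  have hh2 := two_le hZ hab hh
  have hn := kernel_normal hZ hab hh hHa hHcard hHf
  have hfpf := fpf hab hZ hHa hHf
  have hHab := (kernel_elementary hZ hab (by omega) hHa hHcard hHf).1
  set E := stab₂ G a b
  have hEa : ∀ u : E, (u : G) • a = a := fun u => u.2.1
  have hEb : ∀ u : E, (u : G) • b = b := fun u => u.2.2
  have hirr : ∀ W : Subgroup G, W ≤ H → (∀ u ∈ E, ∀ x ∈ W, u * x * u⁻¹ ∈ W) → W = ⊥ ∨ W = H := by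
    intro W hW hinv
    rcases Subgroup.bot_or_exists_ne_one W with h' | ⟨x, hx, hx1⟩
    · exact Or.inl h'
    refine Or.inr (Subgroup.eq_of_le_of_card_ge hW ?_)
    have hS : Function.Injective (fun s : Option E => (match s with
        | none => (1 : W)
        | some u => ⟨(u : G) * x * (u : G)⁻¹, hinv u u.2 x hx⟩)) := by
      rintro (_ | u) (_ | v) huv <;> have huv' := congrArg Subtype.val huv <;> simp only at huv'
      · rfl
      · exact absurd (conj_eq_one_iff.1 huv'.symm) hx1
      · exact absurd (conj_eq_one_iff.1 huv') hx1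
      · by_contra hne
        refine hx1 (hfpf.eq_one (mul_mem (inv_mem v.2) u.2)
          (fun h' => hne (congrArg some (Subtype.ext (inv_mul_eq_one.1 h').symm))) (hW hx) ?_)
        calc (v : G)⁻¹ * u * x = (v : G)⁻¹ * ((u : G) * x * (u : G)⁻¹) * u := by group
          _ = (v : G)⁻¹ * ((v : G) * x * (v : G)⁻¹) * u := by rw [huv']
          _ = _ := by group
    have := Nat.card_le_card_of_injective _ hS
    rw [Finite.card_option] at this
    omega
  obtain ⟨F, _, _, j, χ, hFcard, hj, hj0, hjadd, hχ0, hχinj, hχone, hχmul, -⟩ := exists_irreducible_coords H E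
    hHab hEcomm (fun u hu x hx => hn u hu.1 x hx) (fun u hu hu1 x hx hc => hfpf.eq_one hu hu1 hx hc) (by omega) hirr
  refine ⟨F, ‹_›, ‹_›, hFcard, ?_⟩
  let ι : F → G := fun x => (j x : G)
  have hιP : ∀ x, ι x ∈ H := fun x => (j x).2
  have hιadd : ∀ x y, ι (x + y) = ι x * ι y := fun x y => by
    show (j (x + y) : G) = j x * j y
    rw [hjadd]; rfl
  have hιinj : Function.Injective ι := fun x y hxy => hj.1 (Subtype.ext hxy)
  have hιa : ∀ x, ι x • a = a := fun x => hHa (hιP x)
  have hιb : ∀ x, ι x • b ≠ a := fun x h => hb (smul_left_cancel (ι x) (h.trans (hιa x).symm))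
  let θ : OnePoint F → Ω := fun x => OnePoint.rec a (fun y => ι y • b) x
  have hθinj : Function.Injective θ := by
    intro x y hxy
    cases x using OnePoint.rec with
    | infty =>
      cases y using OnePoint.rec with
      | infty => rfl
      | coe y => exact absurd hxy.symm (hιb y)
    | coe x =>
      cases y using OnePoint.rec with
      | infty => exact absurd hxy (hιb x)
      | coe y =>
        have hxy' : ι x • b = ι y • b := hxy
        by_contra hne
        refine hb (hHf _ (mul_mem (inv_mem (hιP y)) (hιP x))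
          (fun h' => hne (congrArg _ (hιinj (inv_mul_eq_one.1 h').symm))) b ?_)
        rw [mul_smul, hxy', inv_smul_smul]
  have hθ : Function.Bijective θ :=
    hθinj.bijective_of_nat_card_le (by
      rw [Nat.card_eq_fintype_card]
      exact le_of_eq (by rw [show Nat.card (OnePoint F) = Nat.card (Option F) from rfl,
        Finite.card_option, Nat.card_eq_fintype_card, hFcard, hHcard]))
  have hθinf : θ ∞ = a := rfl
  have hθ0 : θ ((0 : F) : OnePoint F) = b := by
    show (j 0 : G) • b = b; rw [hj0]; exact one_smul G b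
  have hT : ∀ z x : F, ι z • θ x = θ ((z + x : F) : OnePoint F) := fun z x => by
    show ι z • ι x • b = ι (z + x) • b
    rw [hιadd, mul_smul]
  have hM : ∀ (u : E) (x : F), (u : G) • θ x = θ ((χ u * x : F) : OnePoint F) := fun u x => by
    show (u : G) • ι x • b = ι (χ u * x) • b
    rw [show ι (χ u * x) = (u : G) * ι x * (u : G)⁻¹ from hχmul u x, mul_smul, mul_smul,
      show (u : G)⁻¹ • b = b from inv_smul_eq_iff.2 (hEb u).symm]
  have hχsurj : ∀ s : F, s ≠ 0 → ∃ u, χ u = s := by
    have hb'' : Function.Injective (fun u : E => (⟨χ u, hχ0 u⟩ : {x : F // x ≠ 0})) :=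
      fun u v h => hχinj (congrArg Subtype.val h)
    have hb' := hb''.bijective_of_nat_card_le (by
      rw [Nat.card_eq_fintype_card, Fintype.card_subtype_compl, Fintype.card_subtype_eq, hFcard]
      omega)
    intro s hs
    obtain ⟨u, hu⟩ := hb'.2 ⟨s, hs⟩
    exact ⟨u, congrArg Subtype.val hu⟩
  -- the involution
  obtain ⟨g₀, hg₀a, hg₀b⟩ := MulAction.is_two_pretransitive_iff.1 hZ.2.1 hb.symm hb
  have hmoves : ∀ (g : G), g • a = b → g • b = a → ∀ x : F, x ≠ 0 →
      ∃ y : F, y ≠ 0 ∧ g • θ x = θ y := by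
    intro g hga hgb x hx
    obtain ⟨q, hq⟩ := hθ.2 (g • θ x)
    cases q using OnePoint.rec with
    | infty =>
      exfalso
      apply hx
      exact OnePoint.coe_injective (hθinj (smul_left_cancel g (by rw [hθ0, hgb]; exact hq.symm) : θ x = θ (0 : F)))
    | coe y =>
      refine ⟨y, fun hy => ?_, hq.symm⟩
      rw [hy, hθ0] at hq
      exact OnePoint.coe_ne_infty x (hθinj (smul_left_cancel g (hq.symm.trans hga.symm) : θ x = θ ∞))
  obtain ⟨y, hy, hy'⟩ := hmoves g₀ hg₀a hg₀b 1 one_ne_zero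
  obtain ⟨u₀, hu₀⟩ := hχsurj y⁻¹ (inv_ne_zero hy)
  set w := (u₀ : G) * g₀
  have hwa : w • a = b := by rw [mul_smul, hg₀a, hEb]
  have hwb : w • b = a := by rw [mul_smul, hg₀b, hEa]
  have hw1' : w • θ (1 : F) = θ (1 : F) := by rw [mul_smul, hy', hM, hu₀, inv_mul_cancel₀ hy]
  have hθ1a : θ (1 : F) ≠ a := hιb 1
  have hθ1b : θ (1 : F) ≠ b := fun h => one_ne_zero (OnePoint.coe_injective (hθinj (h.trans hθ0.symm)))
  have hw2 : w * w = 1 := eq_one_of_three hZ hab hθ1a hθ1b (by rw [mul_smul, hwa, hwb]) (by rw [mul_smul, hwb, hwa])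
    (by rw [mul_smul, hw1', hw1'])
  have hww : ∀ c : Ω, w • w • c = c := fun c => by rw [← mul_smul, hw2, one_smul]
  choose f hf0 hf using hmoves w hwa hwb
  let g : F → F := fun x => if hx : x = 0 then 0 else f x hx
  have hg0 : ∀ x, x ≠ 0 → g x ≠ 0 := fun x hx => by simp only [g, dif_neg hx]; exact hf0 x hx
  have hg : ∀ x : F, x ≠ 0 → w • θ x = θ (g x : F) := fun x hx => by
    simp only [g, dif_neg hx]; exact hf x hx
  have hgg : ∀ x, x ≠ 0 → g (g x) = x := fun x hx => OnePoint.coe_injective (hθinj (by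
    rw [← hg _ (hg0 x hx), ← hg x hx, hww]))
  have hg1 : g 1 = 1 := OnePoint.coe_injective (hθinj (by rw [← hg 1 one_ne_zero, hw1']))
  have hgmul : ∀ s x, s ≠ 0 → x ≠ 0 → g (s * x) = g s * g x := by
    intro s x hs hx
    obtain ⟨u, hu⟩ := hχsurj s hs
    have hv : w * (u : G) * w ∈ E := Subgroup.mem_inf.2
      ⟨mem_stabilizer_iff.2 (by rw [mul_smul, mul_smul, hwa, hEb, hwb]),
        mem_stabilizer_iff.2 (by rw [mul_smul, mul_smul, hwb, hEa, hwa])⟩
    have hkey : ∀ z, z ≠ 0 → g (s * z) = χ ⟨_, hv⟩ * g z := fun z hz => OnePoint.coe_injective (hθinj (by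
      rw [← hg _ (mul_ne_zero hs hz), ← hu, ← hM, ← hM, ← hg z hz, ← mul_smul, ← mul_smul]
      show (w * (u : G)) • θ z = (w * u * w * w) • θ z
      rw [mul_assoc (w * (u : G)), hw2, mul_one]))
    have h1 := hkey 1 one_ne_zero
    rw [mul_one, hg1, mul_one] at h1
    rw [hkey x hx, h1]
  have hgfix : ∀ r, r ≠ 0 → g r = r → r = 1 ∨ r = -1 := by
    intro r hr hgr
    by_contra hcon
    push Not at hcon
    -- `1`, `r` and `r * r` are three fixed points of `w`
    have hrr : r * r ≠ 1 := fun h => (mul_self_eq_one_iff.1 h).elim hcon.1 hcon.2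
    have hrr' : r * r ≠ r := fun h => hcon.1 (mul_eq_left₀ hr |>.1 h)
    have hw1 : w ≠ 1 := fun h => hb (by rw [h, one_smul] at hwa; exact hwa.symm)
    refine hw1 (eq_one_of_three hZ (a := θ (1 : F)) (b := θ r) (c := θ (r * r : F)) ?_ ?_ ?_ hw1' ?_ ?_)
    · exact fun h => hcon.1 (OnePoint.coe_injective (hθinj h)).symm
    · exact fun h => hrr (OnePoint.coe_injective (hθinj h))
    · exact fun h => hrr' (OnePoint.coe_injective (hθinj h))
    · rw [hg r hr, hgr]
    · rw [hg _ (mul_ne_zero hr hr), hgmul r r hr hr, hgr]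
  have hpm : ∀ x, x ≠ 0 → g x * x = 1 ∨ g x * x = -1 := fun x hx => by
    refine hgfix _ (mul_ne_zero (hg0 x hx) hx) ?_
    rw [hgmul _ _ (hg0 x hx) hx, hgg x hx, mul_comm]
  have hginv : ∀ x, x ≠ 0 → g x = x⁻¹ := by
    suffices key : ∀ x, x ≠ 0 → g x * x = 1 from fun x hx => eq_inv_of_mul_eq_one_left (key x hx)
    intro x hx
    by_contra hne
    have hgm1 : g (-1) = -1 := by
      rcases hpm (-1) (neg_ne_zero.2 one_ne_zero) with h | h
      · linear_combination -h
      · have h1 : g (-1) = 1 := by linear_combination -h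
        have h2 := hgg (-1) (neg_ne_zero.2 one_ne_zero)
        rw [h1, hg1] at h2
        exact h1.trans h2
    -- the elements of sign one form an additive subgroup
    have hsucc : ∀ n : F, n ≠ 0 → n + 1 ≠ 0 → g n * n = 1 → g (n + 1) * (n + 1) = 1 := by
      intro n hn0 hnn hn1
      by_contra hne1
      have hgn : g n = n⁻¹ := eq_inv_of_mul_eq_one_left hn1
      have hgn1 : g (n + 1) = -(n + 1)⁻¹ := by
        rw [← mul_right_inj' hnn, mul_comm (n + 1) (g (n + 1)), (hpm _ hnn).resolve_left hne1, mul_neg, mul_inv_cancel₀ hnn]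
      obtain ⟨z, hz⟩ := hχsurj (-1) (neg_ne_zero.2 one_ne_zero)
      have hLR : (w * ι 1 * w) = (ι 1 * (z : G) * w * ι 1) := by
        have h4 : (ι 1 * (z : G) * w * ι 1)⁻¹ * (w * ι 1 * w) = 1 := by
          refine eq_one_of_three hZ hab (c := θ (-1 : F)) (hιb _)
            (fun h => neg_ne_zero.2 one_ne_zero (OnePoint.coe_injective (hθinj (h.trans hθ0.symm)))) ?_ ?_ ?_
          · rw [mul_smul, inv_smul_eq_iff]
            simp only [mul_smul, hιa, hwa]
            rw [show ι 1 • b = θ (1 : F) from rfl, hw1', hEb]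
            rfl
          · rw [mul_smul, inv_smul_eq_iff]
            simp only [mul_smul, hwb, hιa, hwa]
            rw [show ι 1 • b = θ (1 : F) from rfl, hw1', hM, hz, hT, mul_one, add_neg_cancel, hθ0]
          · rw [mul_smul, inv_smul_eq_iff]
            simp only [mul_smul]
            rw [hg _ (neg_ne_zero.2 one_ne_zero), hgm1, hT, add_neg_cancel, hθ0, hwb, hEa, hιa]
        exact (inv_mul_eq_one.1 h4).symm
      have hnn' : n⁻¹ + 1 = (n + 1) * n⁻¹ := by field_simp; ring
      have hp := congrArg (· • θ (n : F)) hLR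
      simp only [mul_smul] at hp
      rw [hg n hn0, hgn, hT, add_comm (1 : F) n⁻¹, hnn', hg _ (mul_ne_zero hnn (inv_ne_zero hn0)),
        hgmul _ _ hnn (inv_ne_zero hn0), ← hgn, hgg n hn0, hT, add_comm (1 : F) n, hg _ hnn, hgn1, hM, hz, hT] at hp
      have hp' := OnePoint.coe_injective (hθinj hp)
      field_simp at hp'
      have h2 : (2 : F) * (n + 1) = 0 := by linear_combination -hp'
      rcases mul_eq_zero.1 h2 with h | h
      · apply hne1
        rcases hpm _ hnn with h' | h'
        · exact h'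
        · rw [h']; linear_combination -h
      · exact hnn h
    have hmulS : ∀ s t : F, s ≠ 0 → t ≠ 0 → g s * s = 1 → g t * t = 1 → g (s * t) * (s * t) = 1 := by
      intro s t hs ht h1 h2
      rw [hgmul s t hs ht, mul_mul_mul_comm, h1, h2, one_mul]
    let K : AddSubgroup F :=
      { carrier := {s | s = 0 ∨ g s * s = 1}
        zero_mem' := Or.inl rfl
        neg_mem' := fun {s} hs => by
          rcases eq_or_ne s 0 with rfl | hs0
          · exact Or.inl neg_zero
          · right
            rw [neg_eq_neg_one_mul]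
            exact hmulS _ _ (neg_ne_zero.2 one_ne_zero) hs0 (by rw [hgm1]; ring) (hs.resolve_left hs0)
        add_mem' := fun {s t} hs ht => by
          rcases eq_or_ne s 0 with rfl | hs0
          · rw [zero_add]; exact ht
          rcases eq_or_ne t 0 with rfl | ht0
          · rw [add_zero]; exact hs
          rcases eq_or_ne (s + t) 0 with h | h
          · exact Or.inl h
          right
          have hti : g t⁻¹ * t⁻¹ = 1 := by
            have h2 : g t = t⁻¹ := eq_inv_of_mul_eq_one_left (ht.resolve_left ht0)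
            rw [← h2, hgg t ht0, h2, mul_inv_cancel₀ ht0]
          have h1 := hmulS s t⁻¹ hs0 (inv_ne_zero ht0) (hs.resolve_left hs0) hti
          have h3 : s * t⁻¹ + 1 ≠ 0 := fun h' => h (by
            rw [show s + t = (s * t⁻¹ + 1) * t by field_simp, h', zero_mul])
          rw [show s + t = (s * t⁻¹ + 1) * t by field_simp]
          exact hmulS _ _ h3 ht0 (hsucc _ (mul_ne_zero hs0 (inv_ne_zero ht0)) h3 h1) (ht.resolve_left ht0) }
    have hK : ∀ s, s ∈ K ↔ s = 0 ∨ g s * s = 1 := fun s => Iff.rfl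
    set k := (Finset.univ.filter fun s => s ∈ K) with hk
    have hkc : k.card = Nat.card K := by rw [Nat.card_eq_fintype_card, Fintype.card_subtype]
    have hcover : (Finset.univ : Finset F) ⊆ k ∪ (k.erase 0).image (fun s => x * s) := by
      intro y _
      by_cases hy : y ∈ K
      · exact Finset.mem_union_left _ (Finset.mem_filter.2 ⟨Finset.mem_univ _, hy⟩)
      rw [hK, not_or] at hy
      have hxi : x⁻¹ ≠ 0 := inv_ne_zero hx
      have hgxi : g x⁻¹ * x⁻¹ = -1 := by
        have h1 : g x = -x⁻¹ := by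
          rw [← mul_left_inj' hx, (hpm x hx).resolve_left hne, neg_mul, inv_mul_cancel₀ hx]
        have h2 := hgg x hx
        rw [h1, neg_eq_neg_one_mul, hgmul _ _ (neg_ne_zero.2 one_ne_zero) hxi, hgm1] at h2
        linear_combination (-x⁻¹) * h2 - mul_inv_cancel₀ hx
      refine Finset.mem_union_right _ (Finset.mem_image.2 ⟨x⁻¹ * y, Finset.mem_erase.2 ⟨mul_ne_zero hxi hy.1,
        Finset.mem_filter.2 ⟨Finset.mem_univ _, Or.inr ?_⟩⟩, mul_inv_cancel_left₀ hx y⟩)
      rw [hgmul _ _ hxi hy.1, mul_mul_mul_comm, hgxi, (hpm y hy.1).resolve_left hy.2, neg_mul_neg, one_mul]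
    have h0k : (0 : F) ∈ k := Finset.mem_filter.2 ⟨Finset.mem_univ _, K.zero_mem⟩
    have h1 := (Finset.card_le_card hcover).trans (Finset.card_union_le _ _)
    have h2 : ((k.erase 0).image (fun s => x * s)).card ≤ k.card - 1 :=
      Finset.card_image_le.trans (le_of_eq (Finset.card_erase_of_mem h0k))
    rw [Finset.card_univ] at h1
    have h3 := K.card_mul_index
    rw [Nat.card_eq_fintype_card (α := F), ← hkc] at h3
    have hk0 : 0 < k.card := Finset.card_pos.2 ⟨0, h0k⟩
    have hKtop : K = ⊤ := by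
      rw [← AddSubgroup.index_eq_one]
      by_contra hne'
      have := AddSubgroup.index_ne_zero_of_finite (H := K)
      have h4 := Nat.mul_le_mul_left k.card (show 2 ≤ K.index by omega)
      omega
    exact hne (((hK x).1 (hKtop ▸ AddSubgroup.mem_top x)).resolve_left hx)
  -- the isomorphism
  let e := Equiv.ofBijective θ hθ
  let ψ : G →* Equiv.Perm (OnePoint (F)) :=
    e.symm.permCongrHom.toMonoidHom.comp (MulAction.toPermHom G Ω)
  have hψ : ∀ (x : G) (q : OnePoint (F)), θ (ψ x q) = x • θ q := fun x q => by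
    show e (e.symm (x • e q)) = x • θ q
    rw [Equiv.apply_symm_apply]
    rfl
  have hψinj : Function.Injective ψ := fun x y hxy => eq_of_smul_eq_smul fun d : Ω => by
    obtain ⟨q, rfl⟩ := hθ.2 d
    rw [← hψ, ← hψ, hxy]
  have hψT : ∀ z, ψ (ι z) ∈ (mobiusGL (F := F)).range := fun z =>
    ⟨Matrix.GeneralLinearGroup.mkOfDetNeZero !![1, z; 0, 1] (by simp [det_fin_two]),
      (Equiv.ext fun q => hθinj (by
        rw [hψ]
        cases q using OnePoint.rec with
        | infty => rw [mobiusGL_infty]; simp [Matrix.GeneralLinearGroup.mkOfDetNeZero, hθinf, hιa]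
        | coe x => rw [mobiusGL_some]; simp [Matrix.GeneralLinearGroup.mkOfDetNeZero, hT, add_comm])).symm⟩
  have hψM : ∀ u : E, ψ (u : G) ∈ (mobiusGL (F := F)).range := fun u =>
    ⟨Matrix.GeneralLinearGroup.mkOfDetNeZero !![χ u, 0; 0, 1] (by simp [det_fin_two, hχ0 u]),
      (Equiv.ext fun q => hθinj (by
        rw [hψ]
        cases q using OnePoint.rec with
        | infty => rw [mobiusGL_infty]; simp [Matrix.GeneralLinearGroup.mkOfDetNeZero, hθinf, hEa]
        | coe x => rw [mobiusGL_some]; simp [Matrix.GeneralLinearGroup.mkOfDetNeZero, hM])).symm⟩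
  have hψW : ψ w ∈ (mobiusGL (F := F)).range :=
    ⟨Matrix.GeneralLinearGroup.mkOfDetNeZero !![0, 1; 1, 0] (by simp [det_fin_two]),
      (Equiv.ext fun q => hθinj (by
        rw [hψ]
        cases q using OnePoint.rec with
        | infty => rw [mobiusGL_infty]; simp [Matrix.GeneralLinearGroup.mkOfDetNeZero, hθinf, hwa, hθ0]
        | coe x =>
          rw [mobiusGL_some]
          rcases eq_or_ne x 0 with rfl | hx
          · simp [Matrix.GeneralLinearGroup.mkOfDetNeZero, hθinf, hθ0, hwb]
          · rw [hg x hx, hginv x hx]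
            simp [Matrix.GeneralLinearGroup.mkOfDetNeZero, hx])).symm⟩
  have hGa : ∀ x : G, x • a = a → ψ x ∈ (mobiusGL (F := F)).range := by
    intro x hx
    obtain ⟨q, hq⟩ := hθ.2 (x • b)
    cases q using OnePoint.rec with
    | infty => exact absurd (smul_left_cancel x (hq.symm.trans hx.symm)) hb
    | coe z =>
      have hmem : (ι z)⁻¹ * x ∈ E := Subgroup.mem_inf.2
        ⟨mem_stabilizer_iff.2 (by rw [mul_smul, hx, inv_smul_eq_iff, hιa]),
          mem_stabilizer_iff.2 (by rw [mul_smul, inv_smul_eq_iff]; exact hq.symm)⟩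
      rw [show x = ι z * ((⟨_, hmem⟩ : E) : G) by simp, map_mul]
      exact mul_mem (hψT z) (hψM _)
  have hle : ψ.range ≤ (mobiusGL (F := F)).range := by
    rintro _ ⟨x, rfl⟩
    obtain ⟨q, hq⟩ := hθ.2 (x • a)
    cases q using OnePoint.rec with
    | infty => exact hGa x hq.symm
    | coe z =>
      have hy : (w * (ι z)⁻¹ * x) • a = a := by
        rw [mul_smul, mul_smul, ← hq, show (ι z)⁻¹ • θ z = b from inv_smul_eq_iff.2 rfl, hwb]
      rw [show x = ι z * w * (w * (ι z)⁻¹ * x) by
        rw [show ι z * w * (w * (ι z)⁻¹ * x) = ι z * (w * w) * (ι z)⁻¹ * x by group, hw2]; group, map_mul, map_mul]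
      exact mul_mem (mul_mem (hψT z) hψW) (hGa _ hy)
  let φ : GL (Fin 2) (F) ⧸ Subgroup.center (GL (Fin 2) (F)) ≃* (mobiusGL (F := F)).range :=
    (QuotientGroup.quotientMulEquivOfEq mobiusGL_ker.symm).trans (QuotientGroup.quotientKerEquivRange _)
  have hcard : Nat.card (mobiusGL (F := F)).range ≤ Nat.card ψ.range := by
    rw [← Nat.card_congr φ.toEquiv, ← Nat.card_congr (MonoidHom.ofInjective hψinj).toEquiv]
    have h1 := Cfsg.Lib.Classical.card_PGL (ι := Fin 2) (F := F)
    have h2 := Cfsg.Lib.Classical.card_SL_mul (ι := Fin 2) (F := F)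
    rw [Matrix.card_GL_field] at h2
    simp only [Fin.prod_univ_two, Fin.val_zero, Fin.val_one, pow_zero, pow_one] at h2
    refine le_of_eq (h1.trans ?_)
    have hGc := Cfsg.Lib.OddChar.Zassenhaus.card_group hZ hab hh (rfl : Nat.card E = _)
    obtain ⟨k, hk⟩ : ∃ k, h = k + 2 := ⟨h - 2, by omega⟩
    have hF : Fintype.card F = k + 2 := by omega
    rw [Nat.card_eq_fintype_card (α := F), hF] at h2
    rw [hGc, show Nat.card E = k + 1 by omega, hk]
    apply Nat.eq_of_mul_eq_mul_left (show 0 < k + 2 - 1 by omega)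
    rw [h2, show (k + 2) ^ 2 - 1 = (k + 3) * (k + 1) by ring_nf; omega,
      show (k + 2) ^ 2 - (k + 2) = (k + 2) * (k + 1) by ring_nf; omega, show k + 2 - 1 = k + 1 from rfl]
    ring
  exact ⟨(MonoidHom.ofInjective hψinj).trans
    ((MulEquiv.subgroupCongr (Subgroup.eq_of_le_of_card_ge hle hcard)).trans φ.symm)⟩

end Cfsg.Lib.RankOne
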