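import Cfsg.Agent.SolvStruct.PGroupBasics

/-! Linear actions of groups of odd prime power order with constant stabiliser orders. -/

set_option autoImplicit false
set_option linter.unusedSectionVars false

open MulAction

namespace Cfsg.Lib.RankOne

variable {P E : Type*} [Group P] [Finite P] [AddCommGroup E] [Finite E] [DistribMulAction P E] [FaithfulSMul P E]
  {p q : ℕ} [Fact p.Prime]

/-- The sum over the powers of an element. -/
def powSum (n : ℕ) (x : P) (v : E) : E := ∑ i ∈ Finset.range n, x ^ i • v

theorem powSum_fixed {x : P} (hx : x ^ p = 1) (v : E) : x • powSum p x v = powSum p x v := by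
  have h1 : x • powSum p x v = ∑ i ∈ Finset.range p, x ^ (i + 1) • v := by
    rw [powSum, Finset.smul_sum]
    simp only [← mul_smul, ← pow_succ']
  have h2 : ∑ i ∈ Finset.range p, x ^ (i + 1) • v + v = powSum p x v + v := by
    have e := (Finset.sum_range_succ' (fun i => x ^ i • v) p).symm
    rw [Finset.sum_range_succ] at e
    simp only [hx, pow_zero, one_smul] at e
    exact e
  rw [h1]; exact add_right_cancel h2

theorem cyclic_fpf (hp2 : p ≠ 2) (hP : IsPGroup p P) (hq : q.Prime) (hE : ∀ e : E, q • e = 0)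
    (hconst : ∀ a b : E, a ≠ 0 → b ≠ 0 → Nat.card (stabilizer P a) = Nat.card (stabilizer P b)) :
    IsCyclic P ∧ ∀ g : P, g ≠ 1 → ∀ a : E, g • a = a → a = 0 := by
  classical
  have hp : p.Prime := Fact.out
  have full : ∀ b : E, Nat.card (stabilizer P b) = Nat.card P → ∀ g : P, g • b = b := fun b hb g => by
    have := (stabilizer P b).eq_top_of_card_eq hb
    exact (this ▸ Subgroup.mem_top g : g ∈ stabilizer P b)
  have triv : ∀ g : P, (∀ b : E, g • b = b) → g = 1 := fun g h =>
    eq_of_smul_eq_smul fun b : E => (h b).trans (one_smul P b).symm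
  rcases subsingleton_or_nontrivial P with hsub | hnt
  · exact ⟨isCyclic_of_subsingleton, fun g hg => absurd (Subsingleton.elim g 1) hg⟩
  -- a fixed nonzero vector of the whole group is impossible
  have nofix : ∀ a : E, a ≠ 0 → ∃ g : P, g • a ≠ a := by
    intro a ha
    by_contra h
    push Not at h
    obtain ⟨g, hg⟩ := exists_ne (1 : P)
    refine hg (triv g fun b => ?_)
    rcases eq_or_ne b 0 with rfl | hb
    · exact smul_zero g
    · refine full b ?_ g
      rw [← hconst a b ha hb, (Subgroup.card_eq_iff_eq_top _).2 ((Subgroup.eq_top_iff' _).2 h)]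
  have hqp : q ≠ p := by
    rintro rfl
    rcases subsingleton_or_nontrivial E with hE' | hE'
    · obtain ⟨g, hg⟩ := exists_ne (1 : P)
      exact hg (triv g fun b => Subsingleton.elim _ _)
    have hd : q ∣ Nat.card E := by
      obtain ⟨e, he⟩ := exists_ne (0 : E)
      rw [← addOrderOf_eq_prime (hE e) he]
      exact addOrderOf_dvd_natCard e
    obtain ⟨a, ha, hne⟩ := hP.exists_fixed_point_of_prime_dvd_card_of_fixed_point E hd
      (a := (0 : E)) (fun g => smul_zero g)
    obtain ⟨g, hg⟩ := nofix a (Ne.symm hne)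
    exact hg (ha g)
  have hinv : ∀ v : E, (p : ℕ) • v = 0 → v = 0 := fun v hv => by
    by_contra h
    have h1 := addOrderOf_eq_prime (hp := ⟨hq⟩) (hE v) h
    have h2 := addOrderOf_dvd_of_nsmul_eq_zero hv
    rw [h1] at h2
    exact hqp ((Nat.prime_dvd_prime_iff_eq hq hp).1 h2)
  -- central elements have no fixed vectors
  have central : ∀ z : P, z ∈ Subgroup.center P → z ^ p = 1 → z ≠ 1 → ∀ a : E, z • a = a → a = 0 := by
    intro z hz hzp hz1 a hza
    by_contra ha
    refine hz1 (triv z fun b => ?_)
    have hc : ∀ g : P, z * g = g * z := fun g => (Subgroup.mem_center_iff.1 hz g).symm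
    set u := powSum p z b
    set w := (p : ℕ) • b - u
    have hu : z • u = u := powSum_fixed hzp b
    have hw : powSum p z w = 0 := by
      have h1 : powSum p z u = (p : ℕ) • u := by
        have hzi : ∀ i : ℕ, z ^ i • u = u := fun i =>
          MulAction.mem_stabilizer_iff.1 ((stabilizer P u).pow_mem (MulAction.mem_stabilizer_iff.2 hu) i)
        simp only [powSum, hzi, Finset.sum_const, Finset.card_range]
      have h2 : powSum p z ((p : ℕ) • b) = (p : ℕ) • u := by
        simp only [u, powSum, Finset.smul_sum, DistribSMul.toAddMonoidHom_apply]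
        exact Finset.sum_congr rfl fun i _ => map_nsmul (DistribSMul.toAddMonoidHom E (z ^ i)) p b
      have h3 : powSum p z w = powSum p z ((p : ℕ) • b) - powSum p z u := by
        simp only [w, powSum, smul_sub, Finset.sum_sub_distrib]
      rw [h3, h1, h2, sub_self]
    have hzb : z • ((p : ℕ) • b) = (p : ℕ) • b := by
      by_contra hne
      have hw0 : w ≠ 0 := fun h => hne (by rw [sub_eq_zero.1 h, hu])
      have haw : a + w ≠ 0 := fun h => by
        have : w = -a := eq_neg_of_add_eq_zero_right h
        apply hw0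
        refine hinv w ?_
        rw [← hw, powSum]
        have hzw : z • w = w := by rw [this, smul_neg, hza]
        have hzi : ∀ i : ℕ, z ^ i • w = w := fun i =>
          MulAction.mem_stabilizer_iff.1 ((stabilizer P w).pow_mem (MulAction.mem_stabilizer_iff.2 hzw) i)
        simp only [hzi, Finset.sum_const, Finset.card_range]
      have hle : stabilizer P (a + w) ≤ stabilizer P a ⊓ stabilizer P w := by
        intro g hg
        have hg' : g • a + g • w = a + w := by rw [← smul_add]; exact hg
        have hpa : powSum p z (g • a) = (p : ℕ) • (g • a) := by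
          have h : z • g • a = g • a := by rw [← mul_smul, hc, mul_smul, hza]
          have hzi : ∀ i : ℕ, z ^ i • g • a = g • a := fun i =>
            MulAction.mem_stabilizer_iff.1 ((stabilizer P (g • a)).pow_mem (MulAction.mem_stabilizer_iff.2 h) i)
          simp only [powSum, hzi, Finset.sum_const, Finset.card_range]
        have hpgw : powSum p z (g • w) = 0 := by
          rw [← smul_zero g, ← hw]
          simp only [powSum, Finset.smul_sum, ← mul_smul]
          refine Finset.sum_congr rfl fun i _ => ?_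
          rw [(Commute.pow_left (show Commute z g from hc g) i).eq]
        have hpa' : powSum p z a = (p : ℕ) • a := by
          have hzi : ∀ i : ℕ, z ^ i • a = a := fun i =>
            MulAction.mem_stabilizer_iff.1 ((stabilizer P a).pow_mem (MulAction.mem_stabilizer_iff.2 hza) i)
          simp only [powSum, hzi, Finset.sum_const, Finset.card_range]
        have hadd : ∀ u v : E, powSum p z (u + v) = powSum p z u + powSum p z v := fun u v => by
          simp only [powSum, smul_add, Finset.sum_add_distrib]
        have e := congrArg (powSum p z) hg'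
        rw [hadd, hadd, hpa, hpgw, hpa', hw, add_zero, add_zero] at e
        have hga : g • a = a := sub_eq_zero.1 (hinv _ (by rw [smul_sub, e, sub_self]))
        exact Subgroup.mem_inf.2 ⟨hga, add_left_cancel (a := a) (by rw [hga] at hg'; exact hg')⟩
      have e1 : stabilizer P (a + w) = stabilizer P a :=
        Subgroup.eq_of_le_of_card_ge (hle.trans inf_le_left) (hconst a (a + w) ha haw).le
      have hzw : z • w = w := (Subgroup.mem_inf.1 (hle (e1 ▸ (hza : z ∈ stabilizer P a)))).2
      apply hne
      have : (p : ℕ) • b = w + u := (sub_add_cancel _ _).symm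
      rw [this, smul_add, hzw, hu]
    have h4 : (p : ℕ) • (z • b - b) = 0 := by
      rw [smul_sub]
      exact sub_eq_zero.2 ((map_nsmul (DistribSMul.toAddMonoidHom E z) p b).symm.trans hzb)
    exact sub_eq_zero.1 (hinv _ h4)
  have hcyc : IsCyclic P := by
    by_contra hnc
    obtain ⟨A, hAn, hAe, hAc⟩ := Cfsg.Lib.SolvStruct.exists_normal_elementary_sq hp2 hP hnc
    have hAne : A ≠ ⊥ := fun h => by
      rw [h, Subgroup.card_bot] at hAc
      exact (Nat.one_lt_pow two_ne_zero hp.one_lt).ne hAc
    have := hP.to_subgroup A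
    have hconj : IsPGroup p (ConjAct P) := hP
    obtain ⟨⟨z, hzA⟩, hzfix, hz1⟩ := hconj.exists_fixed_point_of_prime_dvd_card_of_fixed_point A
      (hAc ▸ dvd_pow_self p two_ne_zero) (a := 1) (fun g => smul_one g)
    have hz1' : z ≠ 1 := fun h => hz1 (Subtype.ext h.symm)
    have hzc : z ∈ Subgroup.center P := Subgroup.mem_center_iff.2 fun g => by
      have h : g * z * g⁻¹ = z := congrArg Subtype.val (hzfix (ConjAct.toConjAct g))
      exact mul_inv_eq_iff_eq_mul.1 h
    have hzp := hAe.2 z hzA
    have hzfpf := central z hzc hzp hz1'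
    obtain ⟨x0, hx0A, hx0⟩ : ∃ x ∈ A, x ∉ Subgroup.zpowers z := by
      by_contra h
      push Not at h
      have := Subgroup.card_le_of_le (show A ≤ Subgroup.zpowers z from h)
      rw [hAc, Nat.card_zpowers, orderOf_eq_prime hzp hz1'] at this
      nlinarith [hp.two_le]
    have hcomm : ∀ u ∈ A, ∀ v ∈ A, Commute u v := fun u hu v hv => by
      have := hAe.1
      exact congrArg Subtype.val (this.is_comm.comm (⟨u, hu⟩ : A) ⟨v, hv⟩)
    have hnotpow : ∀ j : ℕ, x0 * z ^ j ≠ 1 := fun j h => hx0 (by
      rw [eq_inv_of_mul_eq_one_left h]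
      exact inv_mem (Subgroup.pow_mem _ (Subgroup.mem_zpowers z) j))
    -- some element outside the centre part has a fixed vector
    obtain ⟨j, a, ha, hja⟩ : ∃ j : ℕ, ∃ a : E, a ≠ 0 ∧ (x0 * z ^ j) • a = a := by
      by_contra h
      push Not at h
      obtain ⟨g, hg⟩ := exists_ne (1 : P)
      obtain ⟨b, hb⟩ : ∃ b : E, b ≠ 0 := by
        by_contra h'
        push Not at h'
        exact hg (triv g fun b => by rw [h' b, smul_zero])
      refine hb (hinv b ?_)
      have hz0 : ∀ j : ℕ, powSum p (x0 * z ^ j) b = 0 := fun j => by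
        by_contra hne
        exact h j _ hne (powSum_fixed (hAe.2 _ (A.mul_mem hx0A (A.pow_mem hzA j))) b)
      have hzz : ∀ v : E, powSum p z v = 0 := fun v => hzfpf _ (powSum_fixed hzp v)
      -- sum over the lines
      have key : ∑ j ∈ Finset.range p, powSum p (x0 * z ^ j) b = (p : ℕ) • b := by
        simp only [powSum]
        rw [Finset.sum_comm]
        have hterm : ∀ i ∈ Finset.range p,
            ∑ j ∈ Finset.range p, (x0 * z ^ j) ^ i • b = if i = 0 then (p : ℕ) • b else 0 := by
          intro i hi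
          rcases eq_or_ne i 0 with rfl | hi0
          · simp
          rw [if_neg hi0]
          have e : ∀ j : ℕ, (x0 * z ^ j) ^ i • b = (z ^ i) ^ j • (x0 ^ i • b) := fun j => by
            rw [(Commute.pow_right (hcomm _ hx0A _ hzA) j).mul_pow, ← pow_mul, mul_comm j i, pow_mul, ← mul_smul,
              ((Commute.pow_pow (hcomm _ hzA _ hx0A) i i).pow_left j).eq]
          simp only [e]
          have hzi1 : z ^ i ≠ 1 := fun h' => by
            have := orderOf_dvd_of_pow_eq_one h'
            rw [orderOf_eq_prime hzp hz1'] at this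
            exact absurd (Nat.le_of_dvd (Nat.pos_of_ne_zero hi0) this) (not_le.2 (Finset.mem_range.1 hi))
          refine central (z ^ i) (Subgroup.pow_mem _ hzc i) (hAe.2 _ (A.pow_mem hzA i)) hzi1 _ ?_
          exact powSum_fixed (hAe.2 _ (A.pow_mem hzA i)) _
        rw [Finset.sum_congr rfl hterm, Finset.sum_ite_eq', if_pos (Finset.mem_range.2 hp.pos)]
      rw [← key, Finset.sum_congr rfl fun j _ => hz0 j, Finset.sum_const_zero]
    set x := x0 * z ^ j
    have hxA : x ∈ A := A.mul_mem hx0A (A.pow_mem hzA j)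
    have hx1 : x ≠ 1 := hnotpow j
    have hxz : x ∉ Subgroup.zpowers z := fun h => hx0 (by
      have := Subgroup.mul_mem _ h (inv_mem (Subgroup.pow_mem _ (Subgroup.mem_zpowers z) j))
      rwa [mul_inv_cancel_right] at this)
    obtain ⟨y, hy⟩ : ∃ y : P, y * x * y⁻¹ ≠ x := by
      by_contra h
      push Not at h
      exact ha (central x (Subgroup.mem_center_iff.2 fun g => mul_inv_eq_iff_eq_mul.1 (h g)) (hAe.2 x hxA) hx1 a hja)
    -- conjugates differ by central elements
    have hdiff : ∀ g : P, (g * x * g⁻¹) * x⁻¹ ∈ Subgroup.zpowers z := by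
      intro g
      by_contra hd
      have hdA : g * x * g⁻¹ * x⁻¹ ∈ A := A.mul_mem (hAn.conj_mem x hxA g) (A.inv_mem hxA)
      -- the quotient by the central line has order `p`
      have hZn : (Subgroup.zpowers z).Normal := ⟨fun w hw g => by
        rw [Subgroup.mem_center_iff.1 ((Subgroup.zpowers_le.2 hzc) hw) g, mul_inv_cancel_right]; exact hw⟩
      set π := QuotientGroup.mk' (Subgroup.zpowers z)
      have hk : Nat.card (A.map π) = p := by
        have h1 : Nat.card (A.map π) * Nat.card (Subgroup.zpowers z) = Nat.card A := by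
          rw [← Subgroup.relIndex_bot_left (Subgroup.zpowers z), ← Subgroup.relIndex_bot_left A]
          rw [← Subgroup.relIndex_mul_relIndex ⊥ (Subgroup.zpowers z) A bot_le (Subgroup.zpowers_le.2 hzA), mul_comm]
          congr 1
          rw [← Subgroup.relIndex_bot_left (A.map π), ← Subgroup.relIndex_comap (f := π) ⊥ A,
            MonoidHom.comap_bot, QuotientGroup.ker_mk']
        rw [Nat.card_zpowers, orderOf_eq_prime hzp hz1', hAc, pow_two] at h1
        exact Nat.eq_of_mul_eq_mul_right hp.pos h1
      have hpq := hP.to_quotient (Subgroup.zpowers z)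
      have : (A.map π).Normal := hAn.map π (QuotientGroup.mk'_surjective _)
      have hcq : IsPGroup p (ConjAct (P ⧸ Subgroup.zpowers z)) := hpq
      obtain ⟨⟨c, hc⟩, hcfix, hc1⟩ := hcq.exists_fixed_point_of_prime_dvd_card_of_fixed_point (A.map π)
        (hk ▸ dvd_rfl) (a := 1) (fun g => smul_one g)
      have hgen : A.map π = Subgroup.zpowers c := by
        refine (Subgroup.eq_of_le_of_card_ge (Subgroup.zpowers_le.2 hc) ?_).symm
        rw [hk, Nat.card_zpowers]
        refine le_of_eq (Eq.symm (orderOf_eq_prime ?_ fun h => hc1 (Subtype.ext h.symm)))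
        obtain ⟨c', hc', rfl⟩ := hc
        rw [← map_pow, hAe.2 c' hc', map_one]
      obtain ⟨i, hi⟩ := Subgroup.mem_zpowers_iff.1 (hgen ▸ Subgroup.mem_map_of_mem π hxA)
      refine hd ((QuotientGroup.eq_one_iff _).1 ?_)
      show π (g * x * g⁻¹ * x⁻¹) = 1
      have hcc : π g * c * (π g)⁻¹ = c := congrArg Subtype.val (hcfix (ConjAct.toConjAct (π g)))
      rw [map_mul, map_mul, map_mul, map_inv, map_inv, ← hi, ← conj_zpow, hcc, mul_inv_cancel]
    set z1 := y * x * y⁻¹ * x⁻¹
    have hz1z : z1 ∈ Subgroup.zpowers z := hdiff y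
    have hz11 : z1 ≠ 1 := fun h => hy (mul_inv_eq_one.1 h)
    have hz1A : z1 ∈ A := (Subgroup.zpowers_le.2 hzA) hz1z
    have hz1c : z1 ∈ Subgroup.center P := (Subgroup.zpowers_le.2 hzc) hz1z
    have hz1p := hAe.2 z1 hz1A
    have hconjx : y * x * y⁻¹ = z1 * x := (inv_mul_cancel_right _ _).symm
    have hzpc : Subgroup.zpowers z1 = Subgroup.zpowers z :=
      Subgroup.eq_of_le_of_card_ge (Subgroup.zpowers_le.2 hz1z)
        (by rw [Nat.card_zpowers, Nat.card_zpowers, orderOf_eq_prime hzp hz1', orderOf_eq_prime hz1p hz11])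
    set b := y • a
    have hb : b ≠ 0 := fun h => ha ((smul_eq_zero_iff_eq y).1 h)
    have hxb : (z1 * x) • b = b := by rw [← hconjx, mul_smul, mul_smul, inv_smul_smul, hja]
    -- projections onto the fixed spaces
    have proj : ∀ (w : P), w ∈ A → ∀ v : E, ∀ i : ℕ, (z1 ^ i * x) • v = v → ∀ k : ℕ, k < p → i < p →
        powSum p (z1 ^ k * x) v = if i = k then (p : ℕ) • v else 0 := by
      intro w _ v i hv k hk hi
      split_ifs with h
      · subst h
        have hfixn : ∀ n : ℕ, (z1 ^ i * x) ^ n • v = v := fun n =>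
          MulAction.mem_stabilizer_iff.1 ((stabilizer P v).pow_mem (MulAction.mem_stabilizer_iff.2 hv) n)
        simp only [powSum, hfixn, Finset.sum_const, Finset.card_range]
      · set d := (z1 ^ k * x) * (z1 ^ i * x)⁻¹
        have hd : d = z1 ^ k * (z1 ^ i)⁻¹ := by simp only [d]; group
        have hdA : d ∈ A := hd ▸ A.mul_mem (A.pow_mem hz1A k) (A.inv_mem (A.pow_mem hz1A i))
        have hd1 : d ≠ 1 := fun e => h (by
          rw [hd, mul_inv_eq_one, pow_inj_mod, orderOf_eq_prime hz1p hz11, Nat.mod_eq_of_lt hk, Nat.mod_eq_of_lt hi] at e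
          exact e.symm)
        have hfixn : ∀ n : ℕ, (z1 ^ k * x) ^ n • v = d ^ n • v := fun n => by
          have e : z1 ^ k * x = d * (z1 ^ i * x) := by simp only [d, inv_mul_cancel_right]
          rw [e, (hcomm d hdA _ (A.mul_mem (A.pow_mem hz1A i) hxA)).mul_pow, mul_smul]
          congr 1
          exact MulAction.mem_stabilizer_iff.1 ((stabilizer P v).pow_mem (MulAction.mem_stabilizer_iff.2 hv) n)
        rw [powSum, Finset.sum_congr rfl fun n _ => hfixn n]
        exact central d (hd ▸ mul_mem (Subgroup.pow_mem _ hz1c k) (inv_mem (Subgroup.pow_mem _ hz1c i)))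
          (hAe.2 d hdA) hd1 _ (powSum_fixed (hAe.2 d hdA) v)
    have hp3 : 3 ≤ p := lt_of_le_of_ne hp.two_le (Ne.symm hp2)
    have hadd : ∀ w : P, ∀ u v : E, powSum p w (u + v) = powSum p w u + powSum p w v := fun w u v => by
      simp only [powSum, smul_add, Finset.sum_add_distrib]
    have hxa : (z1 ^ 0 * x) • a = a := by rw [pow_zero, one_mul]; exact hja
    have hxb' : (z1 ^ 1 * x) • b = b := by rw [pow_one]; exact hxb
    have hpa : (p : ℕ) • a ≠ 0 := fun h => ha (hinv a h)
    have hpb : (p : ℕ) • b ≠ 0 := fun h => hb (hinv b h)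
    have hsum : a + b ≠ 0 := fun h => by
      have e := congrArg (powSum p (z1 ^ 0 * x)) h
      rw [hadd, proj x hxA a 0 hxa 0 hp.pos hp.pos, proj x hxA b 1 hxb' 0 hp.pos hp.one_lt] at e
      simp [powSum] at e
      exact hpa e
    have hle : stabilizer P (a + b) ≤ stabilizer P a ⊓ stabilizer P b := by
      intro g hg
      have hg' : g • a + g • b = a + b := by rw [← smul_add]; exact hg
      have hgx : g * x * g⁻¹ * x⁻¹ ∈ Subgroup.zpowers z1 := hzpc ▸ hdiff g
      obtain ⟨i, hi, hie⟩ : ∃ i : ℕ, i < p ∧ g * x * g⁻¹ = z1 ^ i * x := by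
        obtain ⟨i, hi, e⟩ := Finset.mem_image.1 (mem_zpowers_iff_mem_range_orderOf.1 hgx)
        rw [orderOf_eq_prime hz1p hz11, Finset.mem_range] at hi
        refine ⟨i, hi, ?_⟩
        rw [e, inv_mul_cancel_right]
      have hga : (z1 ^ i * x) • g • a = g • a := by rw [← hie, mul_smul, mul_smul, inv_smul_smul, hja]
      have hgb : (z1 ^ ((i + 1) % p) * x) • g • b = g • b := by
        have e : g * (z1 * x) * g⁻¹ = z1 ^ ((i + 1) % p) * x := by
          rw [show g * (z1 * x) * g⁻¹ = (g * z1) * x * g⁻¹ by simp only [mul_assoc],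
            Subgroup.mem_center_iff.1 hz1c g, show z1 * g * x * g⁻¹ = z1 * (g * x * g⁻¹) by simp only [mul_assoc], hie,
            ← mul_assoc, ← pow_succ']
          congr 1
          rw [← orderOf_eq_prime hz1p hz11, pow_mod_orderOf]
        rw [← e, mul_smul, mul_smul, inv_smul_smul, hxb]
      have hi1 : (i + 1) % p < p := Nat.mod_lt _ hp.pos
      have e0 := congrArg (powSum p (z1 ^ 0 * x)) hg'
      have e1 := congrArg (powSum p (z1 ^ 1 * x)) hg'
      rw [hadd, hadd, proj x hxA a 0 hxa 0 hp.pos hp.pos, proj x hxA b 1 hxb' 0 hp.pos hp.one_lt,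
        proj x hxA _ i hga 0 hp.pos hi, proj x hxA _ _ hgb 0 hp.pos hi1] at e0
      rw [hadd, hadd, proj x hxA a 0 hxa 1 hp.one_lt hp.pos, proj x hxA b 1 hxb' 1 hp.one_lt hp.one_lt,
        proj x hxA _ i hga 1 hp.one_lt hi, proj x hxA _ _ hgb 1 hp.one_lt hi1] at e1
      have hi0 : i = 0 := by
        by_contra hi0
        rcases eq_or_ne (i + 1) p with hip | hip
        · rw [if_neg (show ¬ i = 1 by omega), if_neg (show ¬ (i + 1) % p = 1 by rw [hip, Nat.mod_self]; omega)] at e1
          simp at e1
          exact hpb e1.symm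
        · rw [if_neg hi0, if_neg (show ¬ (i + 1) % p = 0 by rw [Nat.mod_eq_of_lt (by omega)]; omega)] at e0
          simp at e0
          exact hpa e0.symm
      subst hi0
      have h1p : (0 + 1) % p = 1 := Nat.mod_eq_of_lt hp.one_lt
      rw [h1p] at e0
      simp at e0
      have hga' : g • a = a := sub_eq_zero.1 (hinv _ (by rw [smul_sub, e0, sub_self]))
      exact Subgroup.mem_inf.2 ⟨hga', add_left_cancel (a := a) (by rw [hga'] at hg'; exact hg')⟩
    have e1 : stabilizer P (a + b) = stabilizer P a :=
      Subgroup.eq_of_le_of_card_ge (hle.trans inf_le_left) (hconst a (a + b) ha hsum).le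
    have hxb2 : x • b = b := (Subgroup.mem_inf.1 (hle (e1 ▸ (hja : x ∈ stabilizer P a)))).2
    rw [mul_smul, hxb2] at hxb
    exact hb (central z1 hz1c hz1p hz11 b hxb)
  refine ⟨hcyc, fun g hg a hga => ?_⟩
  by_contra ha
  refine hg (triv g fun b => ?_)
  rcases eq_or_ne b 0 with rfl | hb
  · exact smul_zero g
  let : CommGroup P := hcyc.commGroup
  have := hcyc
  have huniq : ∀ S : Subgroup P, S = (powMonoidHom (Nat.card S) : P →* P).ker := fun S => by
    refine Subgroup.eq_of_le_of_card_ge (fun x hx => ?_) ?_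
    · show x ^ Nat.card S = 1
      exact orderOf_dvd_iff_pow_eq_one.1 (Subgroup.orderOf_dvd_natCard S hx)
    · rw [IsCyclic.card_powMonoidHom_ker, Nat.gcd_eq_right (Subgroup.card_subgroup_dvd_card S)]
  have e : stabilizer P a = stabilizer P b := by rw [huniq (stabilizer P a), huniq (stabilizer P b), hconst a b ha hb]
  exact (e ▸ (hga : g ∈ stabilizer P a) : g ∈ stabilizer P b)

end Cfsg.Lib.RankOne
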