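import Cfsg.Agent.RankOne.StabOrder
import Cfsg.Agent.S0740
import Mathlib

/-! Zassenhaus groups with abelian kernel and two-point stabiliser of order `(h - 1) / 2`:
the stabiliser is cyclic and inverted by the elements interchanging the two points. -/

set_option autoImplicit false
set_option linter.unusedSectionVars false

open MulAction

namespace Cfsg.Lib.RankOne

open Cfsg.Lib.OddChar.Zassenhaus

variable {G Ω : Type*} [Group G] [Finite G] [MulAction G Ω] [Fintype Ω]
variable {a b : Ω} {H : Subgroup G}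

theorem half_stab_facts (hZ : Cfsg.IsZassenhausGroup G Ω) (hab : a ≠ b)
    (hd : 2 * Nat.card (stab₂ G a b) + 2 = Fintype.card Ω)
    (hHa : H ≤ stabilizer G a) (hHcard : Nat.card H + 1 = Fintype.card Ω)
    (hHfix : ∀ u ∈ H, u ≠ 1 → ∀ c : Ω, u • c = c → c = a) (hHab : IsMulCommutative H) :
    (∀ x ∈ stab₂ G a b, ∀ y ∈ stab₂ G a b, x * y = y * x) ∧
    (∀ w : G, w • a = b → w • b = a →
      w * w = 1 ∧ (∀ u ∈ stab₂ G a b, w * u * w = u⁻¹) ∧
      ((∃ c : Ω, w • c = c) ↔ Even (Nat.card (stab₂ G a b)))) := by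
  classical
  have := Fintype.ofFinite G
  obtain ⟨h, hh⟩ : ∃ h, Fintype.card Ω = h + 1 :=
    ⟨_, (Nat.sub_add_cancel (Fintype.card_pos_iff.mpr ⟨a⟩)).symm⟩
  have hh2 := two_le hZ hab hh
  set E := stab₂ G a b with hE
  have hmemE : ∀ {w : G}, w • a = b → w • b = a → ∀ u ∈ E, (w * u) • a = b ∧ (w * u) • b = a :=
    fun {w} hwa hwb u hu => ⟨by rw [mul_smul, show u • a = a from hu.1, hwa],
      by rw [mul_smul, show u • b = b from hu.2, hwb]⟩
  rcases Nat.even_or_odd (Nat.card E) with hev | hodd
  · obtain ⟨X, h1, h2, h3, h4⟩ := swappers_of_even hZ hab hev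
    change X.card ≤ Nat.card E at h2
    have heq : X.card = Nat.card E := by omega
    have hinv : ∀ w : G, w • a = b → w • b = a → w * w = 1 ∧ (∀ u ∈ E, w * u * w = u⁻¹) := by
      intro w hwa hwb
      refine ⟨(h3 w (h4 heq w hwa hwb)).2.2.1, fun u hu => ?_⟩
      obtain ⟨hwa', hwb'⟩ := hmemE hwa hwb u hu
      have := (h3 _ (h4 heq _ hwa' hwb')).2.2.1
      refine eq_inv_of_mul_eq_one_left ?_
      rw [← this]; group
    refine ⟨fun x hx y hy => ?_, fun w hwa hwb => ⟨(hinv w hwa hwb).1, (hinv w hwa hwb).2,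
      iff_of_true (h3 w (h4 heq w hwa hwb)).2.2.2 hev⟩⟩
    obtain ⟨w, hwa, hwb⟩ := exists_map hZ hab hab.symm
    obtain ⟨hw2, hw⟩ := hinv w hwa hwb
    have key : w * (x * y) * w = w * x * w * (w * y * w) := by
      calc w * (x * y) * w = w * x * 1 * y * w := by group
        _ = w * x * (w * w) * y * w := by rw [hw2]
        _ = _ := by group
    rw [hw _ (mul_mem hx hy), hw x hx, hw y hy, mul_inv_rev] at key
    have := congrArg (·⁻¹) key
    simpa using this
  · have hnil : ∀ q : ℕ, q.Prime → q ∣ Nat.card E →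
        ¬ ∃ N : Subgroup G, N.Normal ∧ N.index = q ^ (Nat.card G).factorization q := by
      rintro q hq hqE ⟨N, hN, hidx⟩
      have hqG : q ∣ Nat.card G := hqE.trans (Subgroup.card_subgroup_dvd_card E)
      have hv : 0 < (Nat.card G).factorization q := hq.factorization_pos_of_dvd Nat.card_pos.ne' hqG
      have hidx1 : N.index ≠ 1 := by
        rw [hidx]; exact (Nat.one_lt_pow hv.ne' hq.one_lt).ne'
      have hN1 : N ≠ ⊥ := by
        intro h'
        rw [h', Subgroup.index_bot] at hidx
        -- `G` would be a `q`-group, but `H` is non-trivial of order prime to `q`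
        have hn := kernel_normal hZ hab hh hHa hHcard hHfix
        have hdvd := (fpf hab hZ hHa hHfix).card_dvd (A := stab₂ G a b)
          (fun x hx => Subgroup.mem_normalizer_fintype fun u hu => hn x hx.1 u hu)
        have hHq : Nat.card H ∣ q ^ (Nat.card G).factorization q :=
          hidx ▸ Subgroup.card_subgroup_dvd_card H
        obtain ⟨k, -, hk⟩ := (Nat.dvd_prime_pow hq).1 hHq
        have hk0 : k ≠ 0 := by rintro rfl; rw [pow_zero] at hk; omega
        have hq1 : q ∣ Nat.card H := hk ▸ dvd_pow_self q hk0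
        have h5 := Nat.dvd_sub hq1 (hqE.trans hdvd)
        rw [show Nat.card H - (Nat.card H - 1) = 1 by omega] at h5
        exact hq.not_dvd_one h5
      have hZN := normal_isZassenhaus hZ hab hh hHa hHcard hHfix N hN hN1
      have hHN := Cfsg.Lib.OddChar.Zassenhaus.kernel_le_normal hZ hab hh hHa hHcard hHfix N hN hN1
      let f : stab₂ N a b →* E :=
        { toFun := fun x => ⟨(x.1 : G), x.2.1, x.2.2⟩, map_one' := rfl, map_mul' := fun _ _ => rfl }
      have hdvd : Nat.card (stab₂ N a b) ∣ Nat.card E :=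
        Subgroup.card_dvd_of_injective f fun x y h' =>
          Subtype.ext (Subtype.ext (congrArg (fun z : E => (z : G)) h'))
      have hle := Nat.le_of_dvd Nat.card_pos hdvd
      rcases feit_inequality (G := N) (H := H.subgroupOf N) hZN hab hh rfl (hodd.of_dvd_nat hdvd)
          (fun x hx => hHa (Subgroup.mem_subgroupOf.mp hx))
          (by rw [Nat.card_congr (Subgroup.subgroupOfEquivOfLe hHN).toEquiv]; exact hHcard)
          (fun x hx hx1 => hHfix x (Subgroup.mem_subgroupOf.mp hx) fun h' => hx1 (Subtype.ext h'))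
        with h' | ⟨-, ⟨x, y, hxy⟩, -⟩
      · have h'' : h - 1 ≤ 2 * Nat.card (stab₂ N a b) := h'
        have heq : Nat.card (stab₂ N a b) = Nat.card E := by omega
        have hc1 := card_group hZN hab hh (rfl : Nat.card (stab₂ N a b) = _)
        have hc2 := card_group hZ hab hh (rfl : Nat.card E = _)
        rw [heq, ← hc2] at hc1
        exact hidx1 (by rw [Subgroup.eq_top_of_card_eq N hc1, Subgroup.index_top])
      · apply hxy
        have := hHab.is_comm.comm ⟨((x : N) : G), Subgroup.mem_subgroupOf.mp x.2⟩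
          ⟨((y : N) : G), Subgroup.mem_subgroupOf.mp y.2⟩
        have h7 : ((x : N) : G) * (y : N) = (y : N) * (x : N) := congrArg Subtype.val this
        exact Subtype.ext (Subtype.ext h7)
    obtain ⟨hc, hs⟩ := structure₂_of_mem hZ hab hh hodd hHa hHcard hHfix
      (stab₂_le_commutator hZ hab hodd hnil)
    refine ⟨hc, fun w hwa hwb => ?_⟩
    obtain ⟨hw2, hw⟩ := hs w hwa hwb
    have hwi : w⁻¹ = w := inv_eq_of_mul_eq_one_right hw2
    refine ⟨hw2, fun u hu => by have := hw u hu; rwa [hwi] at this,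
      iff_of_false ?_ (Nat.not_even_iff_odd.2 hodd)⟩
    rintro ⟨c, hc'⟩
    have hw1 : w ≠ 1 := fun h' => hab (by rw [h', one_smul] at hwa; exact hwa)
    have hord : orderOf w = 2 := orderOf_eq_prime (by rw [sq]; exact hw2) hw1
    rcases ((Cfsg.Agent.S0740.result hZ hab).2.1 w hord hwa hwb).2 (by rw [← hd]; exact ⟨Nat.card E + 1, by ring⟩)
      with h0 | h2'
    · rw [Finite.card_eq_zero_iff] at h0
      exact h0.false ⟨c, hc'⟩
    · -- two fixed points make `w` an involution of a two-point stabiliser of odd order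
      obtain ⟨⟨c₁, hc1⟩, ⟨c₂, hc2⟩, hne⟩ : ∃ x y : MulAction.fixedBy Ω w, x ≠ y :=
        exists_pair_ne_of_one_lt_natCard (by omega)
      have hc12 : c₁ ≠ c₂ := fun h' => hne (Subtype.ext h')
      have h5 := orderOf_dvd_natCard (⟨w, hc1, hc2⟩ : stab₂ G c₁ c₂)
      rw [← Subgroup.orderOf_coe, hord, card_stab₂ hZ hab hc12] at h5
      exact hodd.not_two_dvd_nat h5
where
  exists_pair_ne_of_one_lt_natCard {X : Type _} (hX : 1 < Nat.card X) : ∃ x y : X, x ≠ y := by
    have : Finite X := Nat.finite_of_card_ne_zero (by omega)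
    exact (Finite.one_lt_card_iff_nontrivial.1 hX).exists_pair_ne

end Cfsg.Lib.RankOne
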