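import Cfsg.Agent.Transfer.Frobenius
import Mathlib

/-! A group with a normal `2`-complement and of even order has a subgroup of index two invariant under
a given involutive automorphism. -/

set_option autoImplicit false
set_option linter.unusedSectionVars false

namespace Cfsg.Lib.RankOne

theorem exists_invariant_index_two {E : Type*} [Group E] [Finite E] (τ : MulAut E) (hτ : ∀ u, τ (τ u) = u)
    (h : Cfsg.HasNormalPComplement 2 E) (hev : Even (Nat.card E)) :
    ∃ M : Subgroup E, M.Normal ∧ M.index = 2 ∧ ∀ u ∈ M, τ u ∈ M := by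
  classical
  have : Fact (Nat.Prime 2) := ⟨Nat.prime_two⟩
  have := Fintype.ofFinite (Subgroup E)
  obtain ⟨P, N, hN, hc⟩ := h
  obtain ⟨hNc, k, hNi⟩ := Cfsg.Lib.Transfer.complement_props hc
  have hNtop : N ≠ ⊤ := fun h' => by
    rw [h', Subgroup.card_top] at hNc
    exact Nat.not_coprime_of_dvd_of_dvd one_lt_two hev.two_dvd dvd_rfl hNc
  have hNτ : ∀ u ∈ N, τ u ∈ N := fun u hu => by
    rw [Cfsg.Lib.Transfer.mem_iff_coprime_orderOf hNc hNi, MulEquiv.orderOf_eq,
      ← Cfsg.Lib.Transfer.mem_iff_coprime_orderOf hNc hNi]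
    exact hu
  obtain ⟨M, hM, hMmax⟩ := Finset.exists_max_image
    ((Finset.univ : Finset (Subgroup E)).filter fun M => M.Normal ∧ (∀ u ∈ M, τ u ∈ M) ∧ N ≤ M ∧ M ≠ ⊤)
    (fun M => Nat.card M) ⟨N, Finset.mem_filter.2 ⟨Finset.mem_univ _, hN, hNτ, le_rfl, hNtop⟩⟩
  simp only [Finset.mem_filter, Finset.mem_univ, true_and] at hM hMmax
  obtain ⟨hMn, hMτ, hNM, hMtop⟩ := hM
  have hup : ∀ M' : Subgroup E, M'.Normal → (∀ u ∈ M', τ u ∈ M') → M ≤ M' → M' = M ∨ M' = ⊤ := by
    intro M' h1 h2 h3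
    by_cases h4 : M' = ⊤
    · exact Or.inr h4
    · exact Or.inl (Subgroup.eq_of_le_of_card_ge h3 (hMmax M' ⟨h1, h2, hNM.trans h3, h4⟩)).symm
  have hX : IsPGroup 2 (E ⧸ M) := by
    obtain ⟨j, -, hj⟩ := (Nat.dvd_prime_pow Nat.prime_two).1 (hNi ▸ Subgroup.index_dvd_of_le hNM)
    exact IsPGroup.of_card (n := j) (by rw [← hj]; rfl)
  have hmem : ∀ u : E, (u : E ⧸ M) = 1 ↔ u ∈ M := fun u => QuotientGroup.eq_one_iff u
  have : Nontrivial (E ⧸ M) := by
    obtain ⟨u, hu⟩ : ∃ u, u ∉ M := by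
      by_contra hcon
      push Not at hcon
      exact hMtop (Subgroup.eq_top_iff' M |>.2 hcon)
    exact ⟨(u : E ⧸ M), 1, fun h' => hu ((hmem u).1 h')⟩
  -- the quotient is abelian
  have hcomm : ∀ x y : E ⧸ M, x * y = y * x := by
    let C : Subgroup E := (Subgroup.center (E ⧸ M)).comap (QuotientGroup.mk' M)
    have hCiff : ∀ u : E, u ∈ C ↔ ∀ v : E, (v * u)⁻¹ * (u * v) ∈ M := fun u => by
      show (u : E ⧸ M) ∈ Subgroup.center (E ⧸ M) ↔ _
      rw [Subgroup.mem_center_iff]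
      constructor
      · intro h' v
        rw [← QuotientGroup.eq, QuotientGroup.mk_mul, QuotientGroup.mk_mul]
        exact h' _
      · intro h' q
        obtain ⟨v, rfl⟩ := QuotientGroup.mk_surjective q
        rw [← QuotientGroup.mk_mul, ← QuotientGroup.mk_mul, QuotientGroup.eq]
        exact h' v
    have hCn : C.Normal := inferInstance
    have hCτ : ∀ u ∈ C, τ u ∈ C := fun u hu => by
      rw [hCiff] at hu ⊢
      intro v
      have h1 := hMτ _ (hu (τ v))
      rwa [map_mul, map_inv, map_mul, map_mul, hτ] at h1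
    rcases hup C hCn hCτ (fun u hu => (hCiff u).2 fun v => by
        rw [show (v * u)⁻¹ * (u * v) = u⁻¹ * (v⁻¹ * u * v) by group]
        exact mul_mem (inv_mem hu) (by simpa using hMn.conj_mem u hu v⁻¹)) with h1 | h1
    · exfalso
      have := hX.center_nontrivial
      obtain ⟨⟨q, hq⟩, hq1⟩ := exists_ne (1 : Subgroup.center (E ⧸ M))
      obtain ⟨u, rfl⟩ := QuotientGroup.mk_surjective q
      have h2 : u ∈ C := hq
      rw [h1] at h2
      exact hq1 (Subtype.ext ((hmem u).2 h2))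
    · intro x y
      obtain ⟨u, rfl⟩ := QuotientGroup.mk_surjective x
      have h2 : u ∈ C := h1 ▸ Subgroup.mem_top u
      exact (Subgroup.mem_center_iff.1 h2 y).symm
  -- of exponent two
  have hsq : ∀ x : E ⧸ M, x * x = 1 := by
    let sq : E ⧸ M →* E ⧸ M :=
      MonoidHom.mk' (fun x => x * x) fun x y => by rw [mul_assoc, ← mul_assoc y, hcomm y x, mul_assoc x y, ← mul_assoc]
    let S : Subgroup E := sq.range.comap (QuotientGroup.mk' M)
    have hSτ : ∀ u ∈ S, τ u ∈ S := by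
      rintro u ⟨q, hq⟩
      obtain ⟨v, rfl⟩ := QuotientGroup.mk_surjective q
      have h1 : (v * v)⁻¹ * u ∈ M := by
        rw [← QuotientGroup.eq, QuotientGroup.mk_mul]
        exact hq
      have h2 := hMτ _ h1
      rw [map_mul, map_inv, map_mul, ← QuotientGroup.eq, QuotientGroup.mk_mul] at h2
      exact ⟨(τ v : E ⧸ M), h2⟩
    have hSn : S.Normal :=
      (Subgroup.Normal.comap ⟨fun x hx q => by rwa [hcomm q x, mul_inv_cancel_right]⟩ _)
    rcases hup S hSn hSτ (fun u hu => ⟨1, by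
        show (1 : E ⧸ M) * 1 = (u : E ⧸ M)
        rw [one_mul, (hmem u).2 hu]⟩) with h1 | h1
    · intro x
      obtain ⟨u, rfl⟩ := QuotientGroup.mk_surjective x
      have h2 : u * u ∈ S := ⟨(u : E ⧸ M), by simp [sq]⟩
      rw [h1] at h2
      rw [← QuotientGroup.mk_mul]
      exact (hmem _).2 h2
    · exfalso
      obtain ⟨n, hn⟩ := IsPGroup.iff_card.1 hX
      have hn0 : n ≠ 0 := fun h0 => by
        rw [h0, pow_zero] at hn
        exact (Finite.one_lt_card (α := E ⧸ M)).ne' hn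
      obtain ⟨t, ht⟩ := exists_prime_orderOf_dvd_card' (G := E ⧸ M) 2 (hn ▸ dvd_pow_self 2 hn0)
      have hsurj : Function.Surjective sq := fun q => by
        obtain ⟨u, rfl⟩ := QuotientGroup.mk_surjective q
        have h2 : u ∈ S := h1 ▸ Subgroup.mem_top u
        exact h2
      have h3 := (Finite.injective_iff_surjective.2 hsurj) (show sq t = sq 1 by
        show t * t = 1 * 1
        rw [one_mul, ← pow_two, ← ht, pow_orderOf_eq_one])
      rw [h3, orderOf_one] at ht
      omega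
  -- a fixed element
  obtain ⟨u, huM, huτ⟩ : ∃ u, u ∉ M ∧ u⁻¹ * τ u ∈ M := by
    obtain ⟨v, hv⟩ : ∃ v, v ∉ M := by
      by_contra hcon
      push Not at hcon
      exact hMtop (Subgroup.eq_top_iff' M |>.2 hcon)
    by_cases hw : v * τ v ∈ M
    · refine ⟨v, hv, ?_⟩
      have h1 : (v : E ⧸ M) * (τ v : E ⧸ M) = 1 := by rw [← QuotientGroup.mk_mul]; exact (hmem _).2 hw
      rw [← QuotientGroup.eq]
      exact mul_left_cancel ((hsq _).trans h1.symm)
    · refine ⟨v * τ v, hw, ?_⟩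
      rw [map_mul, hτ, ← QuotientGroup.eq, QuotientGroup.mk_mul, QuotientGroup.mk_mul]
      exact hcomm _ _
  -- `M` and `u` generate
  let M' : Subgroup E := (Subgroup.zpowers (u : E ⧸ M)).comap (QuotientGroup.mk' M)
  have hM'τ : ∀ w ∈ M', τ w ∈ M' := by
    rintro w ⟨l, hl⟩
    have h1 : (u ^ l)⁻¹ * w ∈ M := by
      rw [← QuotientGroup.eq, QuotientGroup.mk_zpow]
      exact hl
    have h2 := hMτ _ h1
    rw [map_mul, map_inv, map_zpow, ← QuotientGroup.eq, QuotientGroup.mk_zpow,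
      ← (QuotientGroup.eq.2 huτ : (u : E ⧸ M) = (τ u : E ⧸ M))] at h2
    exact ⟨l, h2⟩
  rcases hup M' (Subgroup.Normal.comap ⟨fun x hx q => by rwa [hcomm q x, mul_inv_cancel_right]⟩ _) hM'τ
    (fun w hw => by rw [Subgroup.mem_comap, QuotientGroup.mk'_apply, (hmem w).2 hw]; exact one_mem _) with h1 | h1
  · exact absurd (h1 ▸ (Subgroup.mem_zpowers (u : E ⧸ M)) : u ∈ M) huM
  · refine ⟨M, hMn, ?_, hMτ⟩
    have h2 : Subgroup.zpowers (u : E ⧸ M) = ⊤ := by
      rw [eq_top_iff]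
      intro q _
      obtain ⟨w, rfl⟩ := QuotientGroup.mk_surjective q
      exact (show w ∈ M' from h1 ▸ Subgroup.mem_top w)
    show Nat.card (E ⧸ M) = 2
    rw [← Subgroup.card_top, ← h2, Nat.card_zpowers]
    exact orderOf_eq_prime (by rw [sq]; exact hsq _) (fun h' => huM ((hmem u).1 h'))

end Cfsg.Lib.RankOne
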