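import Cfsg.Agent.RankOne.SharpPGL
import Cfsg.Agent.RankOne.QuaternionAuto
import Cfsg.Agent.Transfer.Frobenius
import Mathlib

/-! In a sharply triply transitive group of degree `p ^ f + 1` with `p` odd and `f` odd the two-point
stabiliser is abelian. -/

set_option autoImplicit false
set_option linter.unusedSectionVars false

open MulAction

namespace Cfsg.Lib.RankOne

open Cfsg.Lib.OddChar.Zassenhaus

theorem odd_geom_quotient {q : ℕ} (hq : Odd q) (k : ℕ) : ∃ S : ℕ, q ^ k - 1 = (q - 1) * S ∧ S % 2 = k % 2 := by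
  induction k with
  | zero => exact ⟨0, by simp, rfl⟩
  | succ k ih =>
    obtain ⟨S, hS, hpar⟩ := ih
    refine ⟨q * S + 1, ?_, ?_⟩
    · obtain ⟨r, rfl⟩ : ∃ r, q = r + 1 := ⟨q - 1, by obtain ⟨m, hm⟩ := hq; omega⟩
      rw [Nat.add_sub_cancel] at hS ⊢
      have h1 : 1 ≤ (r + 1) ^ k := Nat.one_le_pow _ _ (Nat.succ_pos r)
      obtain ⟨P, hP⟩ : ∃ P, (r + 1) ^ k = P + 1 := ⟨(r + 1) ^ k - 1, by omega⟩
      rw [hP, Nat.add_sub_cancel] at hS
      rw [pow_succ, hP, hS, show (r * S + 1) * (r + 1) = (r * ((r + 1) * S + 1)) + 1 by ring, Nat.add_sub_cancel]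
    · obtain ⟨m, hm⟩ := hq
      rw [Nat.add_mod, Nat.mul_mod, show q % 2 = 1 by omega, one_mul, Nat.mod_mod]
      omega

/-- A finite field of odd degree over the prime field has no automorphism of `2`-power order. -/
theorem no_two_power_automorphism {F : Type*} [Field F] [Fintype F] {p f : ℕ} (hp : p.Prime) (hf : Odd f)
    (hF : Fintype.card F = p ^ f) (σ : F →+* F) {i : ℕ} (hi : ∀ a, σ^[2 ^ i] a = a) : ∀ a, σ a = a := by
  induction i generalizing σ with
  | zero => simpa using hi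
  | succ i ih =>
    -- the square is the identity
    have h2 : ∀ a, σ (σ a) = a := by
      have h3 : ∀ a, (σ.comp σ) a = a := ih (σ.comp σ) fun a => by
        rw [show ⇑(σ.comp σ) = σ^[2] from rfl, ← Function.iterate_mul, ← pow_succ']
        exact hi a
      exact h3
    by_contra hne
    push Not at hne
    obtain ⟨x, hx⟩ := hne
    let K : AddSubgroup F :=
      { carrier := {a | σ a = a}
        zero_mem' := map_zero σ
        add_mem' := fun {a b} ha hb => by show σ (a + b) = a + b; rw [map_add, show σ a = a from ha, show σ b = b from hb]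
        neg_mem' := fun {a} ha => by show σ (-a) = -a; rw [map_neg, show σ a = a from ha] }
    have hxs : x - σ x ≠ 0 := sub_ne_zero.2 (Ne.symm hx)
    have hbij : Function.Bijective fun q : K × K => (q.1 : F) + q.2 * x := by
      constructor
      · rintro ⟨a, b⟩ ⟨a', b'⟩ h
        have h1 : (a : F) + b * x = a' + b' * x := h
        have h3 := congrArg σ h1
        rw [map_add, map_add, map_mul, map_mul, show σ a = a from a.2, show σ b = b from b.2,
          show σ a' = a' from a'.2, show σ b' = b' from b'.2] at h3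
        have h4 : ((b : F) - b') * (x - σ x) = 0 := by linear_combination h1 - h3
        have h5 : (b : F) = b' := sub_eq_zero.1 ((mul_eq_zero.1 h4).resolve_right hxs)
        have h6 : (a : F) = a' := by rw [h5] at h1; exact add_right_cancel h1
        exact Prod.ext (Subtype.ext h6) (Subtype.ext h5)
      · intro y
        set b := (y - σ y) / (x - σ x) with hb
        have hbK : σ b = b := by
          rw [hb, map_div₀, map_sub, map_sub, h2, h2, ← neg_sub y (σ y), ← neg_sub x (σ x), neg_div_neg_eq]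
        have haK : σ (y - b * x) = y - b * x := by
          rw [map_sub, map_mul, hbK]
          have h6 : b * (x - σ x) = y - σ y := div_mul_cancel₀ _ hxs
          linear_combination h6
        exact ⟨⟨⟨y - b * x, haK⟩, ⟨b, hbK⟩⟩, by show y - b * x + b * x = y; ring⟩
    have h3 := Nat.card_congr (Equiv.ofBijective _ hbij)
    rw [Nat.card_prod, Nat.card_eq_fintype_card (α := F), hF] at h3
    obtain ⟨j, -, hj⟩ := (Nat.dvd_prime_pow hp).1 (Dvd.intro _ h3 : Nat.card K ∣ p ^ f)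
    rw [hj, ← pow_add] at h3
    obtain ⟨m, hm⟩ := hf
    have := Nat.pow_right_injective hp.two_le h3
    omega

variable {G Ω : Type*} [Group G] [Finite G] [MulAction G Ω] [Fintype Ω]
variable {a b : Ω}

theorem sharp_comm_of_odd_exponent (hZ : Cfsg.IsZassenhausGroup G Ω) (hab : a ≠ b)
    (hd : Nat.card (stab₂ G a b) + 2 = Fintype.card Ω) {p f : ℕ} (hp : p.Prime) (hp2 : p ≠ 2) (hf : Odd f)
    (hΩ : Fintype.card Ω = p ^ f + 1) :
    ∀ x ∈ stab₂ G a b, ∀ y ∈ stab₂ G a b, x * y = y * x := by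
  classical
  have := hZ.1
  have h2f : Fact (Nat.Prime 2) := ⟨Nat.prime_two⟩
  have hpf : Fact p.Prime := ⟨hp⟩
  obtain ⟨h, hh⟩ : ∃ h, Fintype.card Ω = h + 1 :=
    ⟨_, (Nat.sub_add_cancel (Fintype.card_pos_iff.mpr ⟨a⟩)).symm⟩
  have hh2 := two_le hZ hab hh
  obtain ⟨H, hHa, hHc, hHf⟩ := exists_kernel hZ hab
  have hn := kernel_normal hZ hab hh hHa hHc hHf
  have hfpf := fpf hab hZ hHa hHf
  obtain ⟨hHab, p', f', hp', hf', hexp, hHp'⟩ := kernel_elementary hZ hab (by omega) hHa hHc hHf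
  have hHcard : Nat.card H = p ^ f := by omega
  have hpp : p' = p := by
    have h1 : p ∣ p' ^ f' := by
      rw [← hHp', hHcard]; exact dvd_pow_self p (by obtain ⟨m, hm⟩ := hf; omega)
    exact ((Nat.prime_dvd_prime_iff_eq hp hp').1 (hp.dvd_of_dvd_pow h1)).symm
  rw [hpp] at hexp
  have hHcomm : ∀ u ∈ H, ∀ v ∈ H, u * v = v * u := fun u hu v hv =>
    congrArg Subtype.val (hHab.is_comm.comm (⟨u, hu⟩ : H) ⟨v, hv⟩)
  set E := stab₂ G a b with hE
  have hEN : E ≤ Subgroup.normalizer (H : Set G) := fun x hx =>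
    Subgroup.mem_normalizer_fintype fun u hu => hn x hx.1 u hu
  have hHne : H ≠ ⊥ := fun h' => by rw [h', Subgroup.card_bot] at hHc; omega
  have hpodd : Odd p := hp.odd_of_ne_two hp2
  have hEcard : Nat.card E + 1 = p ^ f := by omega
  have hev : Even (Nat.card E) := by
    obtain ⟨m, hm⟩ := hpodd.pow (n := f)
    exact ⟨m, by omega⟩
  -- the Sylow `2`-subgroups are cyclic
  have hcyc : ∀ A : Subgroup E, IsPGroup 2 A → IsCyclic A := by
    intro A hA
    rcases (hfpf.mono (Subgroup.map_subtype_le A)).isCyclic_or_quaternion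
      ((Subgroup.map_subtype_le A).trans hEN) hHne (hA.map E.subtype) with h1 | ⟨-, n, ⟨eq'⟩⟩
    · exact (Subgroup.equivMapOfInjective A E.subtype E.subtype_injective).symm.isCyclic.mp h1
    let eq := (Subgroup.equivMapOfInjective A E.subtype E.subtype_injective).trans eq'
    rcases Nat.eq_zero_or_pos n with rfl | hn1
    · have : IsCyclic (QuaternionGroup (2 ^ 0)) := QuaternionGroup.quaternionGroup_one_isCyclic
      exact eq.symm.isCyclic.mp this
    exfalso
    obtain ⟨n, rfl⟩ : ∃ k, n = k + 1 := ⟨n - 1, by omega⟩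
    have h4 : 4 ∣ Nat.card E := by
      have h1 : Nat.card A ∣ Nat.card E := Subgroup.card_subgroup_dvd_card A
      rw [Nat.card_congr eq.toEquiv, Nat.card_eq_fintype_card, QuaternionGroup.card] at h1
      exact (Dvd.intro _ rfl).trans h1
    have hp4 : p % 4 ≠ 3 := by
      intro h3
      obtain ⟨m, hm⟩ := hf
      have h1 : p ^ f % 4 = 3 := by
        rw [hm, pow_succ, pow_mul, Nat.mul_mod, Nat.pow_mod, show p ^ 2 % 4 = 1 by rw [Nat.pow_mod, h3], one_pow, h3]
        all_goals norm_num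
      omega
    obtain ⟨r, hr⟩ := (ZMod.exists_sq_eq_neg_one_iff (p := p)).2 hp4
    set m := r.val with hm
    have hm1 : ∀ v ∈ H, v ^ (m * m) = v⁻¹ := fun v hv => by
      have h1 : ((m * m + 1 : ℕ) : ZMod p) = 0 := by
        push_cast; rw [hm, ZMod.natCast_zmod_val, ← hr, neg_add_cancel]
      obtain ⟨c, hc⟩ := (ZMod.natCast_eq_zero_iff _ _).1 h1
      refine eq_inv_of_mul_eq_one_left ?_
      rw [← pow_succ, hc, pow_mul, hexp v hv, one_pow]
    set i : G := ((eq.symm (QuaternionGroup.a ((2 ^ n : ℕ) : ZMod (2 * 2 ^ (n + 1))))  : E) : G) with hi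
    set j : G := ((eq.symm (QuaternionGroup.xa 0) : E) : G) with hj
    have hiE : i ∈ E := SetLike.coe_mem _
    have hjE : j ∈ E := SetLike.coe_mem _
    have hval : ((2 ^ n : ℕ) : ZMod (2 * 2 ^ (n + 1))) + ((2 ^ n : ℕ) : ZMod (2 * 2 ^ (n + 1))) ≠ 0 := by
      rw [← Nat.cast_add, ne_eq, ZMod.natCast_eq_zero_iff]
      intro hd'
      have := Nat.le_of_dvd (by positivity) hd'
      rw [pow_succ] at this
      have := Nat.two_pow_pos n
      omega
    have hji : j * i = i⁻¹ * j := by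
      rw [eq_inv_mul_iff_mul_eq]
      simp only [hi, hj, ← Subgroup.coe_mul, ← map_mul, QuaternionGroup.xa_mul_a, QuaternionGroup.a_mul_xa]
      simp
    have hii : i * i ≠ 1 := by
      intro h1
      rw [hi, ← Subgroup.coe_mul, ← Subgroup.coe_mul, ← map_mul, OneMemClass.coe_eq_one, OneMemClass.coe_eq_one,
        MulEquiv.map_eq_one_iff, QuaternionGroup.a_mul_a, QuaternionGroup.one_def, QuaternionGroup.a.injEq] at h1
      exact hval h1
    have hi4 : i * i * (i * i) = 1 := by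
      simp only [hi, ← Subgroup.coe_mul, ← map_mul, QuaternionGroup.a_mul_a]
      rw [OneMemClass.coe_eq_one, OneMemClass.coe_eq_one, MulEquiv.map_eq_one_iff, QuaternionGroup.one_def,
        QuaternionGroup.a.injEq, ← Nat.cast_add, ← Nat.cast_add, ZMod.natCast_eq_zero_iff,
        show 2 ^ n + 2 ^ n + (2 ^ n + 2 ^ n) = 2 * 2 ^ (n + 1) by rw [pow_succ]; ring]
    have hiv := inverts_of_fpf hi4 (hn _ (mul_mem hiE hiE).1)
      (fun u hu hc => hfpf.eq_one (mul_mem hiE hiE) hii hu hc)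
    let I : H → H := fun v => ⟨i * v * i⁻¹, hn i hiE.1 v v.2⟩
    let J : H → H := fun v => ⟨j * v * j⁻¹, hn j hjE.1 v v.2⟩
    have hII : ∀ v : H, I (I v) = v⁻¹ := fun v => Subtype.ext (by
      show i * (i * (v : G) * i⁻¹) * i⁻¹ = (v : G)⁻¹
      rw [← hiv v v.2]; group)
    have hImul : ∀ v w : H, I (v * w) = I v * I w := fun v w => Subtype.ext (by
      show i * ((v : G) * w) * i⁻¹ = i * v * i⁻¹ * (i * w * i⁻¹)
      group)
    let Ih : H →* H := MonoidHom.mk' I hImul
    let Jh : H →* H := MonoidHom.mk' J fun v w => Subtype.ext (by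
      show j * ((v : G) * w) * j⁻¹ = j * v * j⁻¹ * (j * w * j⁻¹)
      group)
    have hIJ : ∀ v : H, Ih (Jh v) = Jh (Ih v)⁻¹ := fun v => by
      rw [map_inv]
      refine eq_inv_of_mul_eq_one_left ?_
      apply Subtype.ext
      show i * (j * (v : G) * j⁻¹) * i⁻¹ * (j * (i * v * i⁻¹) * j⁻¹) = 1
      have e1 : i * j = j * i⁻¹ := by
        calc i * j = i * (j * i) * i⁻¹ := by group
          _ = i * (i⁻¹ * j) * i⁻¹ := by rw [hji]
          _ = j * i⁻¹ := by group
      rw [show i * (j * (v : G) * j⁻¹) * i⁻¹ = (i * j) * v * (i * j)⁻¹ by group, e1,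
        show j * i⁻¹ * (v : G) * (j * i⁻¹)⁻¹ * (j * (i * v * i⁻¹) * j⁻¹) = j * (i⁻¹ * v * i * (i * v * i⁻¹)) * j⁻¹ by group,
        show i⁻¹ * (v : G) * i * (i * v * i⁻¹) = i⁻¹ * (v * (i * i * v * (i * i)⁻¹)) * i by group, hiv v v.2]
      group
    have hHc' : ∀ v w : H, v * w = w * v := fun v w => Subtype.ext (hHcomm v v.2 w w.2)
    have hcm : ∀ v w : H, Commute v w := hHc'
    let A' : Subgroup H :=
      { carrier := {v | Ih v = v ^ m}
        one_mem' := by show Ih 1 = 1 ^ m; rw [map_one, one_pow]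
        mul_mem' := fun {v w} hv hw => by
          show Ih (v * w) = (v * w) ^ m
          rw [map_mul, show Ih v = _ from hv, show Ih w = _ from hw, (hcm v w).mul_pow]
        inv_mem' := fun {v} hv => by show Ih v⁻¹ = v⁻¹ ^ m; rw [map_inv, show Ih v = _ from hv, inv_pow] }
    let B' : Subgroup H :=
      { carrier := {v | Ih v = (v ^ m)⁻¹}
        one_mem' := by show Ih 1 = (1 ^ m)⁻¹; rw [map_one, one_pow, inv_one]
        mul_mem' := fun {v w} hv hw => by
          show Ih (v * w) = ((v * w) ^ m)⁻¹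
          rw [map_mul, show Ih v = _ from hv, show Ih w = _ from hw, (hcm v w).mul_pow, mul_inv_rev]
          exact hHc' _ _
        inv_mem' := fun {v} hv => by show Ih v⁻¹ = (v⁻¹ ^ m)⁻¹; rw [map_inv, show Ih v = _ from hv, inv_pow] }
    have hm1' : ∀ v : H, v ^ (m * m) = v⁻¹ := fun v => Subtype.ext (by
      rw [SubgroupClass.coe_pow, hm1 v v.2]; rfl)
    have hAB : Nat.card A' = Nat.card B' := by
      have hJinj : Function.Injective Jh := fun v w h => Subtype.ext
        (mul_left_cancel (mul_right_cancel (congrArg Subtype.val h : j * (v : G) * j⁻¹ = j * w * j⁻¹)))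
      refine le_antisymm
        (Nat.card_le_card_of_injective (fun v : A' => (⟨Jh v, ?_⟩ : B'))
          fun v w h => Subtype.ext (hJinj (congrArg Subtype.val h)))
        (Nat.card_le_card_of_injective (fun v : B' => (⟨Jh v, ?_⟩ : A'))
          fun v w h => Subtype.ext (hJinj (congrArg Subtype.val h)))
      · show Ih (Jh v) = (Jh v ^ m)⁻¹
        rw [hIJ, show Ih (v : H) = _ from v.2, map_inv, map_pow]
      · show Ih (Jh v) = Jh v ^ m
        rw [hIJ, show Ih (v : H) = _ from v.2, inv_inv, map_pow]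
    have hHpow : ∀ v : H, v ^ p = 1 := fun v => Subtype.ext (hexp v v.2)
    have hm0 : ((2 * m : ℕ) : ZMod p) ≠ 0 := by
      push_cast
      rw [hm, ZMod.natCast_zmod_val]
      intro h1
      rcases mul_eq_zero.1 h1 with h1 | h1
      · have h2 : ((2 : ℕ) : ZMod p) = 0 := by exact_mod_cast h1
        exact hp2 ((Nat.prime_dvd_prime_iff_eq hp Nat.prime_two).1 ((ZMod.natCast_eq_zero_iff _ _).1 h2))
      · rw [h1, mul_zero] at hr; exact neg_ne_zero.2 one_ne_zero hr
    obtain ⟨k, hk⟩ : ∃ k, ∀ v : H, v ^ (2 * m * k) = v := by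
      refine ⟨(((2 * m : ℕ) : ZMod p)⁻¹).val, fun v => ?_⟩
      have h1 : ((2 * m * (((2 * m : ℕ) : ZMod p)⁻¹).val : ℕ) : ZMod p) = ((1 : ℕ) : ZMod p) := by
        rw [Nat.cast_mul, ZMod.natCast_zmod_val, mul_inv_cancel₀ hm0, Nat.cast_one]
      rw [ZMod.natCast_eq_natCast_iff] at h1
      conv_rhs => rw [← pow_one v]
      exact pow_eq_pow_iff_modEq.2 (h1.of_dvd (orderOf_dvd_of_pow_eq_one (hHpow v)))
    have hbij : Function.Bijective fun q : A' × B' => (q.1 : H) * q.2 := by
      constructor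
      · rintro ⟨x, y⟩ ⟨x', y'⟩ hq
        have h1 : (x : H) * y = x' * y' := hq
        have h2 : ((x'⁻¹ * x : A') : H) = ((y' * y⁻¹ : B') : H) := by
          rw [Subgroup.coe_mul, Subgroup.coe_inv, Subgroup.coe_mul, Subgroup.coe_inv, eq_mul_inv_iff_mul_eq,
            mul_assoc, h1, inv_mul_cancel_left]
        set v := ((x'⁻¹ * x : A') : H) with hv
        have e1 : Ih v = v ^ m := (x'⁻¹ * x).2
        have e2 : Ih v = (v ^ m)⁻¹ := by rw [h2]; exact (y' * y⁻¹).2
        have h3 : v ^ (2 * m) = 1 := by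
          rw [two_mul, pow_add]
          exact mul_eq_one_iff_eq_inv.2 (e1.symm.trans e2)
        have h4 : x'⁻¹ * x = 1 := Subtype.ext (by
          show v = 1
          rw [← hk v, pow_mul, h3, one_pow])
        rw [inv_mul_eq_one] at h4
        subst h4
        exact Prod.ext rfl (Subtype.ext (mul_left_cancel h1))
      · intro v
        have ha0 : v ^ m * Ih v ∈ A' := by
          show Ih (v ^ m * Ih v) = (v ^ m * Ih v) ^ m
          rw [map_mul, map_pow, show Ih (Ih v) = _ from hII v, (hcm _ _).mul_pow, ← pow_mul, hm1']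
          exact hHc' _ _
        have hb0 : v ^ m * (Ih v)⁻¹ ∈ B' := by
          show Ih (v ^ m * (Ih v)⁻¹) = ((v ^ m * (Ih v)⁻¹) ^ m)⁻¹
          rw [map_mul, map_pow, map_inv, show Ih (Ih v) = _ from hII v, inv_inv, (hcm _ _).mul_pow, ← pow_mul, hm1',
            mul_inv_rev, inv_inv, inv_pow, inv_inv]
        refine ⟨(⟨_, pow_mem ha0 k⟩, ⟨_, pow_mem hb0 k⟩), ?_⟩
        show (v ^ m * Ih v) ^ k * (v ^ m * (Ih v)⁻¹) ^ k = v
        rw [← (hcm _ _).mul_pow, show v ^ m * Ih v * (v ^ m * (Ih v)⁻¹) = v ^ (2 * m) by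
          rw [mul_assoc, ← mul_assoc (Ih v), hHc' (Ih v) (v ^ m), mul_assoc, mul_inv_cancel, mul_one, two_mul, pow_add],
          ← pow_mul, hk]
    have h5 := Nat.card_congr (Equiv.ofBijective _ hbij)
    rw [Nat.card_prod, ← hAB, hHcard] at h5
    obtain ⟨l, -, hl⟩ := (Nat.dvd_prime_pow hp).1 (Dvd.intro _ h5 : Nat.card A' ∣ p ^ f)
    rw [hl, ← pow_add] at h5
    obtain ⟨w, hw⟩ := hf
    have := Nat.pow_right_injective hp.two_le h5
    omega
  -- the normal `2`-complement
  have hnil : Cfsg.HasNormalPComplement 2 E :=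
    Cfsg.Lib.Transfer.hasNormalPComplement_of_frobenius fun Q hQ g hg hcop => by
      have := hcyc Q hQ
      obtain ⟨k, hk⟩ := IsPGroup.iff_card.1 hQ
      have hodd : Odd (orderOf (Q.normalizerMonoidHom ⟨g, hg⟩)) :=
        (Nat.coprime_two_right.1 hcop).of_dvd_nat ((orderOf_map_dvd _ _).trans (by rw [Subgroup.orderOf_mk]))
      have h1 : (⟨g, hg⟩ : Subgroup.normalizer (Q : Set E)) ∈ Q.normalizerMonoidHom.ker :=
        mulAut_cyclic_two hk _ hodd
      rw [Subgroup.normalizerMonoidHom_ker] at h1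
      exact h1
  obtain ⟨P, N, hN, hc⟩ := hnil
  obtain ⟨hNc, kN, hNi⟩ := Cfsg.Lib.Transfer.complement_props hc
  have hmemN := Cfsg.Lib.Transfer.mem_iff_coprime_orderOf hNc hNi
  -- a swapping involution inverts the complement
  obtain ⟨X, hX1, -, hX3, -⟩ := swappers_of_even hZ hab hev
  obtain ⟨s, hs⟩ : X.Nonempty := Finset.card_pos.1 (by omega)
  obtain ⟨hsa, hsb, hs2, c, hsc⟩ := hX3 s hs
  have hca : c ≠ a := fun h' => hab (by rw [h'] at hsc; exact hsc.symm.trans hsa)
  have hcb : c ≠ b := fun h' => hab (by rw [h'] at hsc; exact (hsc.symm.trans hsb).symm)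
  have hsi : s⁻¹ = s := inv_eq_of_mul_eq_one_right hs2
  have hsE : ∀ u ∈ E, s * u * s⁻¹ ∈ E := fun u hu => ⟨by
      show (s * u * s⁻¹) • a = a
      rw [hsi, mul_smul, mul_smul, hsa, show u • b = b from hu.2, hsb], by
      show (s * u * s⁻¹) • b = b
      rw [hsi, mul_smul, mul_smul, hsb, show u • a = a from hu.1, hsa]⟩
  have hs1 : s ≠ 1 := fun h' => hab (by rw [h', one_smul] at hsa; exact hsa)
  set N' : Subgroup G := N.map E.subtype with hN'
  have hN'E : N' ≤ E := Subgroup.map_subtype_le N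
  have hN'mem : ∀ u (hu : u ∈ E), u ∈ N' ↔ (orderOf u).Coprime 2 := fun u hu => by
    rw [show orderOf u = orderOf (⟨u, hu⟩ : E) from (Subgroup.orderOf_coe (⟨u, hu⟩ : E)), ← hmemN]
    constructor
    · rintro ⟨v, hv, hvu⟩
      rwa [show (⟨u, hu⟩ : E) = v from Subtype.ext hvu.symm]
    · intro hv
      exact ⟨_, hv, rfl⟩
  have hsN : ∀ u ∈ N', s * u * s⁻¹ ∈ N' := fun u hu => by
    rw [hN'mem _ (hsE u (hN'E hu)), show orderOf (s * u * s⁻¹) = orderOf u from (MulAut.conj s).orderOf_eq u]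
    exact (hN'mem u (hN'E hu)).1 hu
  have hinvN : ∀ u ∈ N', s * u * s⁻¹ = u⁻¹ := inverts_of_fpf hs2 hsN fun u hu hcom => by
    have hu2 : u * u = 1 := by
      have hsu : ∀ x : Ω, s • x = x → s • (u • x) = u • x := fun x hx => by
        rw [← mul_smul, hcom, mul_smul, hx]
      have hfa : u • a = a := (hN'E hu).1
      have hfb : u • b = b := (hN'E hu).2
      refine eq_one_of_three hZ hab hca hcb ?_ ?_ ?_
      · rw [mul_smul, hfa, hfa]
      · rw [mul_smul, hfb, hfb]
      rw [mul_smul]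
      rcases eq_or_ne (u • c) c with h1 | h1
      · rw [h1, h1]
      by_contra h2
      exact hs1 (eq_one_of_three hZ h1.symm h2
        (fun h3 => h1 (smul_left_cancel u h3)) hsc (hsu c hsc) (hsu _ (hsu c hsc)))
    exact orderOf_eq_one_iff.1 (Nat.eq_one_of_dvd_coprimes ((hN'mem u (hN'E hu)).1 hu).symm
      (orderOf_dvd_of_pow_eq_one (by rw [sq]; exact hu2)) dvd_rfl)
  have hNcomm : ∀ u ∈ N', ∀ v ∈ N', u * v = v * u := fun u hu v hv => by
    have h1 := hinvN _ (mul_mem hu hv)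
    rw [show s * (u * v) * s⁻¹ = (s * u * s⁻¹) * (s * v * s⁻¹) by group, hinvN u hu, hinvN v hv, ← mul_inv_rev,
      inv_inj] at h1
    exact h1.symm
  -- the complement acts irreducibly
  have hN'n : ∀ e ∈ E, ∀ u ∈ N', e * u * e⁻¹ ∈ N' := fun e he u hu => by
    rw [hN'mem _ (mul_mem (mul_mem he (hN'E hu)) (inv_mem he)),
      show orderOf (e * u * e⁻¹) = orderOf u from (MulAut.conj e).orderOf_eq u]
    exact (hN'mem u (hN'E hu)).1 hu
  have hirr : ∀ W : Subgroup G, W ≤ H → (∀ u ∈ N', ∀ x ∈ W, u * x * u⁻¹ ∈ W) → W = ⊥ ∨ W = H := by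
    by_contra hcon
    push Not at hcon
    obtain ⟨W₀, hW₀H, hW₀inv, hW₀1, hW₀ne⟩ := hcon
    let Inv : Subgroup G → Prop := fun W => ∀ u ∈ N', ∀ x ∈ W, u * x * u⁻¹ ∈ W
    have := Fintype.ofFinite (Subgroup G)
    obtain ⟨U, hU, hUmin⟩ := Finset.exists_min_image
      ((Finset.univ : Finset (Subgroup G)).filter fun W => W ≤ H ∧ W ≠ ⊥ ∧ Inv W) (fun W => Nat.card W)
      ⟨W₀, Finset.mem_filter.2 ⟨Finset.mem_univ _, hW₀H, hW₀1, hW₀inv⟩⟩
    simp only [Finset.mem_filter, Finset.mem_univ, true_and] at hU hUmin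
    obtain ⟨hUH, hUne, hUinv⟩ := hU
    have hUlt : Nat.card U < Nat.card H :=
      lt_of_le_of_lt (hUmin W₀ ⟨hW₀H, hW₀1, hW₀inv⟩) (lt_of_le_of_ne (Subgroup.card_le_of_le hW₀H)
        (fun h' => hW₀ne (Subgroup.eq_of_le_of_card_ge hW₀H h'.ge)))
    obtain ⟨x, hx, hx1⟩ := (Subgroup.bot_or_exists_ne_one U).resolve_left hUne
    let EU : Subgroup E := (Subgroup.normalizer (U : Set G)).subgroupOf E
    have hEU : ∀ e : E, e ∈ EU ↔ (e : G) * x * (e : G)⁻¹ ∈ U := by
      intro e
      constructor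
      · intro he
        exact (Subgroup.mem_normalizer_iff.1 he x).1 hx
      · intro he
        let U' := U.map (MulAut.conj (e : G)).toMonoidHom
        have hU'c : Nat.card U' = Nat.card U :=
          (Nat.card_congr (Subgroup.equivMapOfInjective U _ (MulAut.conj (e : G)).injective).toEquiv).symm
        have hinf : U ⊓ U' = U := Subgroup.eq_of_le_of_card_ge inf_le_left (hUmin _ ⟨inf_le_left.trans hUH,
          fun h' => hx1 (conj_eq_one_iff.1 (Subgroup.mem_bot.1
            (h' ▸ Subgroup.mem_inf.2 ⟨he, x, hx, rfl⟩ : (e : G) * x * (e : G)⁻¹ ∈ (⊥ : Subgroup G)))),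
          fun u hu y hy => by
            obtain ⟨hy1, w, hw, rfl⟩ := hy
            refine ⟨hUinv u hu _ hy1, ((e : G)⁻¹ * u * e) * w * ((e : G)⁻¹ * u * e)⁻¹, hUinv _ ?_ w hw, ?_⟩
            · have := hN'n _ (inv_mem e.2) u hu
              rwa [inv_inv] at this
            · show (e : G) * (_ * w * _⁻¹) * (e : G)⁻¹ = u * ((e : G) * w * (e : G)⁻¹) * u⁻¹
              group⟩)
        have hUU' : U = U' := Subgroup.eq_of_le_of_card_ge (inf_eq_left.1 hinf) hU'c.le
        refine Subgroup.mem_normalizer_fintype fun y hy => ?_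
        rw [SetLike.mem_coe, hUU']
        exact ⟨y, hy, rfl⟩
    -- the orbit of `x` is all of `H`
    let orb : E → {v : H // v ≠ 1} := fun e => ⟨⟨(e : G) * x * (e : G)⁻¹, hn e e.2.1 x (hUH hx)⟩,
      fun h' => hx1 (conj_eq_one_iff.1 (congrArg Subtype.val h'))⟩
    have horb : Function.Bijective orb := by
      refine Function.Injective.bijective_of_nat_card_le ?_ ?_
      · intro e e' h'
        have h1 : (e : G) * x * (e : G)⁻¹ = (e' : G) * x * (e' : G)⁻¹ :=
          congrArg (fun q : {v : H // v ≠ 1} => ((q : H) : G)) h'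
        by_contra hne
        refine hx1 (hfpf.eq_one (mul_mem (inv_mem e'.2) e.2)
          (fun h'' => hne (Subtype.ext (inv_mul_eq_one.1 h'').symm)) (hUH hx) ?_)
        calc (e' : G)⁻¹ * e * x = (e' : G)⁻¹ * ((e : G) * x * (e : G)⁻¹) * e := by group
          _ = (e' : G)⁻¹ * ((e' : G) * x * (e' : G)⁻¹) * e := by rw [h1]
          _ = _ := by group
      · have := Fintype.ofFinite H
        rw [Nat.card_eq_fintype_card (α := {v : H // v ≠ 1}), Fintype.card_subtype_compl, Fintype.card_subtype_eq,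
          ← Nat.card_eq_fintype_card, hHcard]
        omega
    have hEUcard : Nat.card EU + 1 = Nat.card U := by
      have hb : Function.Bijective fun e : EU => (⟨⟨_, (hEU e).1 e.2⟩,
          fun h' => hx1 (conj_eq_one_iff.1 (congrArg Subtype.val h'))⟩ : {v : U // v ≠ 1}) := by
        constructor
        · intro e e' h'
          exact Subtype.ext (horb.1 (Subtype.ext (Subtype.ext (congrArg (fun q : {v : U // v ≠ 1} => ((q : U) : G)) h'))))
        · rintro ⟨⟨v, hv⟩, hv1⟩
          obtain ⟨e, he⟩ := horb.2 ⟨⟨v, hUH hv⟩, fun h2 => hv1 (Subtype.ext (show v = 1 from congrArg (fun q : H => (q : G)) h2))⟩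
          have he' : (e : G) * x * (e : G)⁻¹ = v := congrArg (fun q : {v : H // v ≠ 1} => ((q : H) : G)) he
          exact ⟨⟨e, (hEU e).2 (he'.symm ▸ hv)⟩, Subtype.ext (Subtype.ext he')⟩
      rw [Nat.card_congr (Equiv.ofBijective _ hb)]
      have := Fintype.ofFinite U
      rw [Nat.card_eq_fintype_card (α := {v : U // v ≠ 1}), Fintype.card_subtype_compl, Fintype.card_subtype_eq,
        ← Nat.card_eq_fintype_card]
      have : 0 < Nat.card U := Nat.card_pos
      omega
    have hNle : N ≤ EU := fun u hu => (hEU u).2 (hUinv _ ⟨u, hu, rfl⟩ x hx)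
    obtain ⟨t, -, ht⟩ := (Nat.dvd_prime_pow Nat.prime_two).1 (hNi ▸ Subgroup.index_dvd_of_le hNle)
    obtain ⟨d, -, hd'⟩ := (Nat.dvd_prime_pow hp).1 (hHcard ▸ Subgroup.card_dvd_of_le hUH)
    have hmul := EU.card_mul_index
    rw [ht] at hmul
    have hd0 : d ≠ 0 := fun h0 => hUne (Subgroup.card_eq_one.1 (by rw [hd', h0, pow_zero]))
    have hdf : d ∣ f := by
      have h1 : p ^ d - 1 ∣ p ^ f - 1 := ⟨2 ^ t, by
        rw [show p ^ d - 1 = Nat.card EU by omega, hmul]; omega⟩
      have h2 := Nat.gcd_eq_left h1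
      rw [Nat.pow_sub_one_gcd_pow_sub_one] at h2
      have h3 : p ^ Nat.gcd d f = p ^ d := by
        have := Nat.one_le_pow (Nat.gcd d f) p hp.pos
        have := Nat.one_le_pow d p hp.pos
        omega
      exact Nat.gcd_eq_left_iff_dvd.1 (Nat.pow_right_injective hp.two_le h3)
    obtain ⟨r, hr⟩ := hdf
    obtain ⟨S, hS, hSpar⟩ := odd_geom_quotient (hpodd.pow (n := d)) r
    rw [← pow_mul, ← hr] at hS
    have hS2 : S = 2 ^ t := by
      refine Nat.eq_of_mul_eq_mul_left (show 0 < p ^ d - 1 by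
        have := Nat.one_lt_pow hd0 hp.one_lt
        omega) ?_
      rw [← hS, show p ^ d - 1 = Nat.card EU by omega, hmul]
      omega
    have hr2 : r % 2 = 1 := by
      rw [hr] at hf
      exact Nat.odd_iff.1 (Nat.Odd.of_mul_right hf)
    rcases Nat.eq_zero_or_pos t with rfl | ht0
    · rw [pow_zero, mul_one] at hmul
      omega
    · obtain ⟨t, rfl⟩ : ∃ k, t = k + 1 := ⟨t - 1, by omega⟩
      rw [pow_succ] at hS2
      omega
  -- the field
  obtain ⟨F, _, _, ι, χ, hFcard, hι, hι0, hιadd, hχ0, hχinj, hχone, hχmul, hgen⟩ :=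
    exists_irreducible_coords H N' hHab hNcomm (fun u hu x hx => hn u (hN'E hu).1 x hx)
      (fun u hu hu1 x hx hc => hfpf.eq_one (hN'E hu) hu1 hx hc) (by omega) hirr
  have hPcyc : IsCyclic (P : Subgroup E) := hcyc _ P.2
  obtain ⟨y₀, hy₀⟩ := hPcyc.exists_generator
  set y : G := ((y₀ : E) : G) with hy
  have hyE : y ∈ E := SetLike.coe_mem _
  let L : F → F := fun a => (Equiv.ofBijective ι hι).symm ⟨y * ι a * y⁻¹, hn y hyE.1 _ (ι a).2⟩
  have hL : ∀ a, (ι (L a) : G) = y * ι a * y⁻¹ := fun a =>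
    congrArg Subtype.val ((Equiv.ofBijective ι hι).apply_symm_apply _)
  have hιinj : ∀ a b : F, (ι a : G) = ι b → a = b := fun a b h' => hι.1 (Subtype.ext h')
  have hLadd : ∀ a b, L (a + b) = L a + L b := fun a b => hιinj _ _ (by
    rw [hL, hιadd, hιadd, Subgroup.coe_mul, Subgroup.coe_mul, hL, hL]; group)
  have hyn : ∀ u : N', y * u * y⁻¹ ∈ N' := fun u => hN'n y hyE u u.2
  have hLmul : ∀ (u : N') (a : F), L (χ u * a) = χ ⟨_, hyn u⟩ * L a := fun u a => hιinj _ _ (by
    rw [hL, hχmul, hχmul, hL]; group)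
  set c0 := L 1 with hc0
  have hc00 : c0 ≠ 0 := by
    intro h'
    have h1 := hL 1
    rw [← hc0, h', hι0, Subgroup.coe_one, eq_comm, conj_eq_one_iff] at h1
    exact one_ne_zero (hι.1 ((Subtype.ext h1 : ι 1 = 1).trans hι0.symm))
  let σ₀ : F → F := fun a => L a / c0
  have hσχ : ∀ u : N', σ₀ (χ u) = χ ⟨_, hyn u⟩ := fun u => by
    show L (χ u) / c0 = _
    rw [← mul_one (χ u), hLmul, mul_div_assoc, div_self hc00, mul_one]
  have hσ1 : σ₀ 1 = 1 := div_self hc00
  have hσadd : ∀ a b, σ₀ (a + b) = σ₀ a + σ₀ b := fun a b => by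
    show L (a + b) / c0 = _; rw [hLadd, add_div]
  have hσ0 : σ₀ 0 = 0 := by
    have := hσadd 0 0
    rw [add_zero] at this
    exact left_eq_add.1 this
  have hσmul : ∀ a b, σ₀ (a * b) = σ₀ a * σ₀ b := by
    let R : Subring F :=
      { carrier := {a | ∀ b, σ₀ (a * b) = σ₀ a * σ₀ b}
        one_mem' := fun b => by rw [one_mul, hσ1, one_mul]
        mul_mem' := fun {a a'} ha ha' b => by rw [mul_assoc, ha, ha', ha, mul_assoc]
        zero_mem' := fun b => by rw [zero_mul, hσ0, zero_mul]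
        add_mem' := fun {a a'} ha ha' b => by rw [add_mul, hσadd, ha, ha', hσadd, add_mul]
        neg_mem' := fun {a} ha b => by
          have hneg : ∀ x, σ₀ (-x) = -σ₀ x := fun x => eq_neg_of_add_eq_zero_left (by
            rw [← hσadd, neg_add_cancel, hσ0])
          rw [neg_mul, hneg, ha, hneg, neg_mul] }
    refine fun a => hgen R (fun u b => ?_) a
    rw [hσχ]
    show L (χ u * b) / c0 = _
    rw [hLmul, mul_div_assoc]
  let σ : F →+* F :=
    { toFun := σ₀, map_one' := hσ1, map_mul' := hσmul, map_zero' := hσ0, map_add' := hσadd }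
  have hiter : ∀ (l : ℕ) (u : N'), σ^[l] (χ u) =
      χ ⟨y ^ l * u * (y ^ l)⁻¹, hN'n _ (pow_mem hyE l) u u.2⟩ := by
    intro l
    induction l with
    | zero => intro u; simp
    | succ l ih =>
      intro u
      rw [Function.iterate_succ_apply, show σ (χ u) = _ from hσχ u, ih]
      congr 1
      apply Subtype.ext
      show y ^ l * (y * u * y⁻¹) * (y ^ l)⁻¹ = y ^ (l + 1) * u * (y ^ (l + 1))⁻¹
      rw [pow_succ]; group
  obtain ⟨i, hi⟩ := IsPGroup.iff_orderOf.1 P.2 y₀
  have hyord : y ^ 2 ^ i = 1 := by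
    rw [← hi, hy, ← SubgroupClass.coe_pow, ← SubgroupClass.coe_pow, pow_orderOf_eq_one]; rfl
  have hper : ∀ a, σ^[2 ^ i] a = a := by
    have heq : ∀ l, σ^[l] = ⇑(σ ^ l : F →+* F) := fun l => (RingHom.coe_pow σ l).symm
    let R : Subring F := RingHom.eqLocus (σ ^ (2 ^ i)) (RingHom.id F)
    intro a
    rw [heq]
    refine hgen R (fun u => ?_) a
    show (σ ^ (2 ^ i)) (χ u) = χ u
    rw [← heq, hiter]
    congr 1
    exact Subtype.ext (by
      show y ^ 2 ^ i * (u : G) * (y ^ 2 ^ i)⁻¹ = u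
      rw [hyord, one_mul, inv_one, mul_one])
  have hσid := no_two_power_automorphism hp hf (hFcard.trans hHcard) σ hper
  have hyc : ∀ u ∈ N', y * u = u * y := fun u hu => by
    have h1 : χ ⟨_, hyn ⟨u, hu⟩⟩ = χ ⟨u, hu⟩ := (hσχ ⟨u, hu⟩).symm.trans (hσid _)
    exact mul_inv_eq_iff_eq_mul.1 (congrArg Subtype.val (hχinj h1))
  -- everything commutes
  have hdec : ∀ x ∈ E, ∃ u ∈ N', ∃ l : ℤ, x = u * y ^ l := by
    intro x hx
    obtain ⟨⟨n, q⟩, hnq⟩ := hc.2 ⟨x, hx⟩
    obtain ⟨l, hl⟩ := Subgroup.mem_zpowers_iff.1 (hy₀ q)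
    refine ⟨((n : E) : G), ⟨n, n.2, rfl⟩, l, ?_⟩
    rw [hy, ← SubgroupClass.coe_zpow, ← SubgroupClass.coe_zpow, hl]
    exact (congrArg Subtype.val hnq).symm
  intro x hx x' hx'
  obtain ⟨u, hu, l, rfl⟩ := hdec x hx
  obtain ⟨u', hu', l', rfl⟩ := hdec x' hx'
  have c1 : Commute u u' := hNcomm u hu u' hu'
  have c2 : Commute u (y ^ l') := (show Commute u y from (hyc u hu).symm).zpow_right l'
  have c3 : Commute (y ^ l) u' := (show Commute y u' from hyc u' hu').zpow_left l
  have c4 : Commute (y ^ l) (y ^ l') := Commute.zpow_zpow_self y l l'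
  exact ((c1.mul_right c2).mul_left (c3.mul_right c4)).eq

end Cfsg.Lib.RankOne
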