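import Cfsg.Agent.RankOne.QuaternionAuto
import Cfsg.Agent.Transfer.Frobenius
import Mathlib

/-! The possible two-point stabilisers of even order of a simple sharply triply transitive group:
they contain a quaternion subgroup of order eight and a large abelian subgroup centralising it. -/

set_option autoImplicit false
set_option linter.unusedSectionVars false

namespace Cfsg.Lib.RankOne

open Subgroup
open scoped commutatorElement

/-- The properties of a two-point stabiliser `E` used here; `τ` is induced by an involution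
interchanging the two points. -/
structure SharpStab {E : Type*} [Group E] (τ : MulAut E) : Prop where
  invol : ∀ u, τ (τ u) = u
  fixed : ∀ u, τ u = u → u * u = 1
  two : ¬ Cfsg.HasNormalPComplement 2 E
  pgroup : ∀ (p : ℕ) (A : Subgroup E), p.Prime → IsPGroup p A →
    IsCyclic A ∨ (p = 2 ∧ ∃ n : ℕ, Nonempty (A ≃* QuaternionGroup (2 ^ n)))
  cyclic_of_comm : ∀ A : Subgroup E, IsMulCommutative A → IsCyclic A
  inverted : ∃ I : Set E, Nat.card E ≤ 2 * I.ncard ∧
    ∀ u ∈ I, τ u = u⁻¹ ∧ ∀ v : E, v ^ 3 = 1 → u * v = v * u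

/-- An automorphism of a cyclic group of `3`-power order which fixes an element of order three has
`3`-power order. -/
theorem pow_three_mulAut {P : Type*} [Group P] [Finite P] [IsCyclic P] {k : ℕ}
    (hP : Nat.card P = 3 ^ (k + 1)) (ψ : MulAut P) {w : P} (hw : orderOf w = 3) (hψ : ψ w = w) :
    ψ ^ 3 ^ (k + 1) = 1 := by
  obtain ⟨y, hy⟩ := IsCyclic.exists_generator (α := P)
  have hoy : orderOf y = 3 ^ (k + 1) := (orderOf_eq_card_of_forall_mem_zpowers hy).trans hP
  obtain ⟨i, hi⟩ := mem_zpowers_iff.1 (hy (ψ y))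
  obtain ⟨j, hj⟩ := mem_zpowers_iff.1 (hy w)
  have hi1 : (3 : ℤ) ∣ i - 1 := by
    have h1 : y ^ (i * j) = y ^ j := by rw [zpow_mul, hi, ← map_zpow, hj, hψ]
    have h2 : y ^ ((i - 1) * j) = 1 := by
      rw [sub_mul, one_mul, zpow_sub, h1, mul_inv_cancel]
    have h3 : w ^ (i - 1) = 1 := by rw [← hj, ← zpow_mul, mul_comm, h2]
    rw [← orderOf_dvd_iff_zpow_eq_one, hw] at h3
    exact h3
  have hiter : ∀ n : ℕ, (ψ ^ n) y = y ^ (i ^ n) := by
    intro n
    induction n with
    | zero => simp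
    | succ n ih => rw [pow_succ', MulAut.mul_apply, ih, map_zpow, ← hi, ← zpow_mul, pow_succ' i n]
  refine MulEquiv.ext fun g => ?_
  obtain ⟨n, rfl⟩ := mem_zpowers_iff.1 (hy g)
  rw [map_zpow, hiter, MulAut.one_apply]
  congr 1
  have h4 := dvd_sub_pow_of_dvd_sub (p := 3) (a := i) (b := (1 : ℤ)) (by exact_mod_cast hi1) (k + 1)
  rw [one_pow] at h4
  have h5 : y ^ (i ^ 3 ^ (k + 1) - 1) = 1 := by
    rw [← orderOf_dvd_iff_zpow_eq_one, hoy]
    push_cast
    exact (pow_dvd_pow (3 : ℤ) (Nat.le_succ (k + 1))).trans (by exact_mod_cast h4)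
  rwa [zpow_sub, zpow_one, mul_inv_eq_one] at h5

/-- A group of order eight with noncommuting elements. -/
theorem quaternion_not_comm {R : Type*} [Group R] (eq : R ≃* QuaternionGroup 2) :
    ∃ r s : R, r * s ≠ s * r := by
  refine ⟨eq.symm (QuaternionGroup.a 1), eq.symm (QuaternionGroup.xa 0), fun h => ?_⟩
  rw [← map_mul, ← map_mul] at h
  exact absurd (eq.symm.injective h) (by decide)

theorem mul_two_eq_one : ∀ x y : Multiplicative (ZMod 2), x * y = 1 → y = x := by decide

variable {E : Type*} [Group E] [Finite E] {τ : MulAut E}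

/-- If `u * τ u` is always a product of commutators there is no normal `2`-complement. -/
theorem not_two_nilpotent_of_comm (hinvol : ∀ u, τ (τ u) = u) (hfixed : ∀ u, τ u = u → u * u = 1)
    (hcomm : ∀ u, u * τ u ∈ _root_.commutator E)
    (hpg : ∀ (p : ℕ) (A : Subgroup E), p.Prime → IsPGroup p A →
      IsCyclic A ∨ (p = 2 ∧ ∃ n : ℕ, Nonempty (A ≃* QuaternionGroup (2 ^ n))))
    (hncyc : ∀ Q : Sylow 2 E, ¬ IsCyclic (Q : Subgroup E)) : ¬ Cfsg.HasNormalPComplement 2 E := by
  classical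
  have : Fact (Nat.Prime 2) := ⟨Nat.prime_two⟩
  rintro ⟨P, N, hN, hc⟩
  obtain ⟨hNc, k, hNi⟩ := Cfsg.Lib.Transfer.complement_props hc
  rcases hpg 2 (P : Subgroup E) Nat.prime_two P.2 with h | ⟨-, n, ⟨eq⟩⟩
  · exact hncyc P h
  have hn : 1 ≤ n := by
    by_contra h
    obtain rfl : n = 0 := by omega
    have : IsCyclic (QuaternionGroup (2 ^ 0)) := QuaternionGroup.quaternionGroup_one_isCyclic
    exact hncyc P (eq.symm.isCyclic.mp this)
  let e : E ⧸ N ≃* QuaternionGroup (2 ^ n) := hc.symm.QuotientMulEquiv.trans eq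
  have hmem : ∀ u : E, u ∈ N ↔ τ u ∈ N := fun u => by
    rw [Cfsg.Lib.Transfer.mem_iff_coprime_orderOf hNc hNi, Cfsg.Lib.Transfer.mem_iff_coprime_orderOf hNc hNi,
      MulEquiv.orderOf_eq]
  have hmap : N.map τ.toMonoidHom = N := by
    ext u
    constructor
    · rintro ⟨v, hv, rfl⟩
      exact (hmem v).1 hv
    · intro hu
      exact ⟨τ u, (hmem u).1 hu, hinvol u⟩
  let α : MulAut (QuaternionGroup (2 ^ n)) := e.symm.trans ((QuotientGroup.congr N N τ hmap).trans e)
  have hα : ∀ u : E, α (e (u : E ⧸ N)) = e ((τ u : E) : E ⧸ N) := fun u => by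
    show e (QuotientGroup.congr N N τ hmap (e.symm (e (u : E ⧸ N)))) = _
    rw [MulEquiv.symm_apply_apply]
    rfl
  have hsurj : ∀ g : QuaternionGroup (2 ^ n), ∃ u : E, e (u : E ⧸ N) = g := fun g => by
    obtain ⟨u, hu⟩ := QuotientGroup.mk_surjective (e.symm g)
    exact ⟨u, by rw [hu, MulEquiv.apply_symm_apply]⟩
  obtain ⟨g, hg, hg2⟩ := exists_fixed_of_involutive hn α
    (fun g => by obtain ⟨u, rfl⟩ := hsurj g; rw [hα, hα, hinvol])
    (fun f g => by
      obtain ⟨u, rfl⟩ := hsurj g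
      rw [hα]
      let F : E →* Multiplicative (ZMod 2) := f.comp (e.toMonoidHom.comp (QuotientGroup.mk' N))
      have h1 : F (u * τ u) = 1 := Abelianization.commutator_subset_ker F (hcomm u)
      rw [map_mul] at h1
      exact mul_two_eq_one _ _ h1)
  -- the coset of `g` has an element fixed by `τ`
  let C := {u : E // e (u : E ⧸ N) = g}
  have hC : ∀ u : C, e ((τ u.1 : E) : E ⧸ N) = g := fun u => by rw [← hα, u.2, hg]
  let σ : Equiv.Perm C := Function.Involutive.toPerm (fun u => ⟨τ u.1, hC u⟩)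
    fun u => Subtype.ext (hinvol u.1)
  have := Fintype.ofFinite C
  obtain ⟨u₀, hu₀⟩ := hsurj g
  have hcard : ¬ 2 ∣ Fintype.card C := by
    rw [← Nat.card_eq_fintype_card, Nat.card_congr (show C ≃ N from
      { toFun := fun u => ⟨u₀⁻¹ * u.1, by
          rw [← QuotientGroup.eq]
          exact e.injective (hu₀.trans u.2.symm)⟩
        invFun := fun v => ⟨u₀ * v.1, by
          rw [← hu₀]
          congr 1
          rw [QuotientGroup.eq]
          simp⟩
        left_inv := fun u => Subtype.ext (by simp)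
        right_inv := fun v => Subtype.ext (by simp) })]
    exact fun h2 => Nat.not_coprime_of_dvd_of_dvd one_lt_two h2 dvd_rfl hNc
  obtain ⟨u, hu⟩ := Equiv.Perm.exists_fixed_point_of_prime (p := 2) (n := 1) hcard (σ := σ)
    (Equiv.ext fun u => Subtype.ext (hinvol u.1))
  refine hg2 ?_
  have h1 := hfixed u.1 (congrArg Subtype.val hu)
  rw [← u.2, ← map_mul, ← QuotientGroup.mk_mul, h1, QuotientGroup.mk_one, map_one]

namespace SharpStab

/-- Frobenius' criterion gives a quaternion group of order eight with an automorphism of order three. -/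
theorem exists_q8 (hS : SharpStab τ) :
    ∃ (R : Subgroup E) (g : E) (hg : g ∈ normalizer (R : Set E)), Odd (orderOf g) ∧
      Nonempty (R ≃* QuaternionGroup 2) ∧ R.normalizerMonoidHom ⟨g, hg⟩ ≠ 1 ∧
      R.normalizerMonoidHom ⟨g, hg⟩ ^ 3 = 1 := by
  classical
  have : Fact (Nat.Prime 2) := ⟨Nat.prime_two⟩
  by_contra hno
  refine hS.two (Cfsg.Lib.Transfer.hasNormalPComplement_of_frobenius fun R hR g hg hcop => ?_)
  by_contra hgc
  have hodd : Odd (orderOf g) := Nat.coprime_two_right.1 hcop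
  have hne : R.normalizerMonoidHom ⟨g, hg⟩ ≠ 1 := fun h => by
    have h1 : (⟨g, hg⟩ : normalizer (R : Set E)) ∈ R.normalizerMonoidHom.ker := h
    rw [normalizerMonoidHom_ker] at h1
    exact hgc h1
  have hφ : Odd (orderOf (R.normalizerMonoidHom ⟨g, hg⟩)) :=
    hodd.of_dvd_nat ((orderOf_map_dvd _ _).trans (by rw [Subgroup.orderOf_mk]))
  obtain ⟨hQ, h3⟩ := odd_auto_quaternion hR
    ((hS.pgroup 2 R Nat.prime_two hR).imp id fun h => h.2) _ hφ hne
  exact hno ⟨R, g, hg, hodd, hQ, hne, h3⟩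

theorem normalizerHom_apply {R : Subgroup E} {g : E} (hg : g ∈ normalizer (R : Set E)) (r : R) :
    ((R.normalizerMonoidHom ⟨g, hg⟩ r : R) : E) = g * r * g⁻¹ := rfl

/-- The inverted elements generate. -/
theorem generated (hS : SharpStab τ) : ∃ I : Set E, closure I = ⊤ ∧
    ∀ u ∈ I, τ u = u⁻¹ ∧ ∀ v : E, v ^ 3 = 1 → u * v = v * u := by
  classical
  obtain ⟨I, hI, hinv⟩ := hS.inverted
  refine ⟨I, ?_, hinv⟩
  set M := closure I with hM
  by_contra htop
  have hidx2 : 2 ≤ M.index := by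
    have h1 : M.index ≠ 1 := fun h => htop (index_eq_one.1 h)
    have h0 := Subgroup.index_ne_zero_of_finite (H := M)
    omega
  have hsub : I ⊆ (M : Set E) := subset_closure
  have hle := Set.ncard_le_ncard hsub
  have hMc : (M : Set E).ncard = Nat.card M := (Nat.card_coe_set_eq _).symm
  have hprod := M.card_mul_index
  have hpos : 0 < Nat.card M := Nat.card_pos
  have hidx : M.index = 2 := by
    by_contra hne
    have h3 : Nat.card M * 3 ≤ Nat.card E := hprod ▸ Nat.mul_le_mul le_rfl (by omega)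
    omega
  have hIM : I = (M : Set E) := Set.eq_of_subset_of_ncard_le hsub (by rw [hidx] at hprod; omega)
  have hinvM : ∀ m ∈ M, τ m = m⁻¹ := fun m hm => (hinv m (hIM ▸ hm)).1
  have hcomm : ∀ x ∈ M, ∀ y ∈ M, x * y = y * x := fun x hx y hy => by
    have h1 := hinvM _ (mul_mem hx hy)
    rw [map_mul, hinvM x hx, hinvM y hy, ← mul_inv_rev, inv_inj] at h1
    exact h1.symm
  have hMn : M.Normal := normal_of_index_eq_two hidx
  obtain ⟨R, g, hg, hodd, ⟨eq⟩, hne, -⟩ := hS.exists_q8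
  have hgM : g ∈ M := by
    obtain ⟨m, hm⟩ := hodd
    have h1 : (g ^ (m + 1)) ^ 2 = g := by
      rw [← pow_mul, show (m + 1) * 2 = (2 * m + 1) + 1 by ring, pow_succ, ← hm, pow_orderOf_eq_one, one_mul]
    rw [← h1]
    exact M.sq_mem_of_index_two hidx _
  have hR : ∀ r : R, (r : E) ∈ M := fun r => by
    have h1 : M.subgroupOf R = ⊤ := eq_top_of_odd_auto eq _
      (hodd.of_dvd_nat ((orderOf_map_dvd _ _).trans (by rw [Subgroup.orderOf_mk]))) hne _ fun r => by
        show ((r⁻¹ * R.normalizerMonoidHom ⟨g, hg⟩ r : R) : E) ∈ M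
        rw [Subgroup.coe_mul, Subgroup.coe_inv, normalizerHom_apply, ← mul_assoc, ← mul_assoc]
        refine mul_mem ?_ (inv_mem hgM)
        simpa using hMn.conj_mem g hgM (r : E)⁻¹
    have h2 : r ∈ M.subgroupOf R := h1 ▸ mem_top r
    exact h2
  obtain ⟨r, s, hrs⟩ := quaternion_not_comm eq
  exact hrs (Subtype.ext (hcomm _ (hR r) _ (hR s)))

/-- Elements of order three are central. -/
theorem three_central (hS : SharpStab τ) {v : E} (hv : v ^ 3 = 1) (u : E) : u * v = v * u := by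
  obtain ⟨I, htop, hinv⟩ := hS.generated
  have hle : closure I ≤ centralizer {v} := (closure_le _).2 fun w hw =>
    mem_centralizer_singleton_iff.2 ((hinv w hw).2 v hv)
  exact mem_centralizer_singleton_iff.1 (hle (htop ▸ mem_top u))

/-- A `3'`-element of odd order centralises every `2`-subgroup it normalises. -/
theorem centralize_of_coprime (hS : SharpStab τ) {R : Subgroup E} (hR : IsPGroup 2 R) {g : E}
    (hg : g ∈ normalizer (R : Set E)) (h2 : (orderOf g).Coprime 2) (h3 : (orderOf g).Coprime 3) :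
    g ∈ centralizer (R : Set E) := by
  by_contra hgc
  have hne : R.normalizerMonoidHom ⟨g, hg⟩ ≠ 1 := fun h => by
    have h1 : (⟨g, hg⟩ : normalizer (R : Set E)) ∈ R.normalizerMonoidHom.ker := h
    rw [normalizerMonoidHom_ker] at h1
    exact hgc h1
  have hd : orderOf (R.normalizerMonoidHom ⟨g, hg⟩) ∣ orderOf g :=
    (orderOf_map_dvd _ _).trans (by rw [Subgroup.orderOf_mk])
  obtain ⟨-, hcube⟩ := odd_auto_quaternion hR ((hS.pgroup 2 R Nat.prime_two hR).imp id fun h => h.2) _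
    ((Nat.coprime_two_right.1 h2).of_dvd_nat hd) hne
  refine hne (orderOf_eq_one_iff.1 ?_)
  exact Nat.eq_one_of_dvd_coprimes h3.symm (orderOf_dvd_of_pow_eq_one hcube) hd

/-- The structure of the stabiliser. -/
theorem decomposition (hS : SharpStab τ) :
    ∃ R D : Subgroup E, Nonempty (R ≃* QuaternionGroup 2) ∧ IsMulCommutative D ∧
      Odd (Nat.card D) ∧ 3 ∣ Nat.card D ∧ Nat.card E = 24 * Nat.card D ∧
      ∀ d ∈ D, ∀ r ∈ R, d * r = r * d := by
  classical
  have h2f : Fact (Nat.Prime 2) := ⟨Nat.prime_two⟩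
  have h3f : Fact (Nat.Prime 3) := ⟨Nat.prime_three⟩
  obtain ⟨R, g, hg, hgodd, ⟨eqR⟩, hne, hcube⟩ := hS.exists_q8
  set φ := R.normalizerMonoidHom ⟨g, hg⟩ with hφ
  have hφodd : Odd (orderOf φ) :=
    hgodd.of_dvd_nat ((orderOf_map_dvd _ _).trans (by rw [Subgroup.orderOf_mk]))
  have h3E : 3 ∣ Nat.card E := by
    have h1 : orderOf φ = 3 := orderOf_eq_prime hcube hne
    refine h1 ▸ ((orderOf_map_dvd _ _).trans ?_)
    rw [Subgroup.orderOf_mk]
    exact orderOf_dvd_natCard g
  obtain ⟨P⟩ : Nonempty (Sylow 3 E) := inferInstance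
  have hPc : IsCyclic (P : Subgroup E) :=
    (hS.pgroup 3 _ Nat.prime_three P.2).resolve_right fun h => by omega
  obtain ⟨k, hk⟩ : ∃ k, Nat.card (P : Subgroup E) = 3 ^ (k + 1) := by
    refine ⟨(Nat.card E).factorization 3 - 1, ?_⟩
    rw [P.card_eq_multiplicity]
    congr 1
    have := Nat.prime_three.factorization_pos_of_dvd Nat.card_pos.ne' h3E
    omega
  obtain ⟨w, hw⟩ := exists_prime_orderOf_dvd_card' (G := (P : Subgroup E)) 3
    (hk ▸ dvd_pow_self 3 (Nat.succ_ne_zero k))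
  have hwc : ∀ u : E, u * w = w * u := hS.three_central (by
    have h1 := pow_orderOf_eq_one (w : E)
    rwa [Subgroup.orderOf_coe, hw] at h1)
  -- the normaliser of a Sylow `3`-subgroup centralises it
  have hNC : normalizer ((P : Subgroup E) : Set E) ≤ centralizer ((P : Subgroup E) : Set E) := by
    intro n hn
    set σ := (P : Subgroup E).normalizerMonoidHom with hσ
    have h1 : σ ⟨n, hn⟩ ^ 3 ^ (k + 1) = 1 := by
      refine pow_three_mulAut hk _ hw (Subtype.ext ?_)
      rw [hσ, normalizerHom_apply, hwc, mul_inv_cancel_right]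
    let P' := (P : Subgroup E).subgroupOf (normalizer ((P : Subgroup E) : Set E))
    have h2 : σ ⟨n, hn⟩ ^ P'.index = 1 := by
      rw [← map_pow]
      have h3 : ∀ x, x ∈ P' → σ x = 1 := fun x hx => MulEquiv.ext fun r => Subtype.ext (by
        rw [hσ, show x = ⟨(x : E), x.2⟩ from rfl, normalizerHom_apply, MulAut.one_apply]
        have : IsMulCommutative (P : Subgroup E) := hPc.isMulCommutative
        have h4 : (x : E) * r = r * x := congrArg Subtype.val
          (mul_comm' (⟨(x : E), hx⟩ : (P : Subgroup E)) r)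
        rw [h4, mul_inv_cancel_right])
      exact h3 _ (P'.pow_index_mem _)
    have h4 : P'.index ∣ (P : Subgroup E).index := relIndex_dvd_index_of_le le_normalizer
    have h5 : orderOf (σ ⟨n, hn⟩) = 1 := Nat.eq_one_of_dvd_coprimes
      ((Nat.prime_three.coprime_iff_not_dvd.2 P.not_dvd_index).pow_left (k + 1))
      (orderOf_dvd_of_pow_eq_one h1) ((orderOf_dvd_of_pow_eq_one h2).trans h4)
    have h6 : (⟨n, hn⟩ : normalizer ((P : Subgroup E) : Set E)) ∈ σ.ker := orderOf_eq_one_iff.1 h5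
    rw [hσ, normalizerMonoidHom_ker] at h6
    exact h6
  set K := (MonoidHom.transferSylow P hNC).ker with hKdef
  have hKP : K.IsComplement' (P : Subgroup E) := MonoidHom.ker_transferSylow_isComplement' P hNC
  obtain ⟨hKc, j, hKi⟩ := Cfsg.Lib.Transfer.complement_props hKP
  have hKn : K.Normal := inferInstance
  have hmemK : ∀ u : E, u ∈ K ↔ (orderOf u).Coprime 3 :=
    Cfsg.Lib.Transfer.mem_iff_coprime_orderOf hKc hKi
  -- `K` has a normal `2`-complement
  have hK2 : Cfsg.HasNormalPComplement 2 K :=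
    Cfsg.Lib.Transfer.hasNormalPComplement_of_frobenius fun Q hQ x hx hcop => by
      have hxn : (x : E) ∈ normalizer ((Q.map K.subtype : Subgroup E) : Set E) := by
        refine mem_normalizer_fintype fun y hy => ?_
        obtain ⟨q, hq, rfl⟩ := hy
        exact ⟨x * q * x⁻¹, (mem_normalizer_iff.1 hx q).1 hq, rfl⟩
      have h1 := hS.centralize_of_coprime (hQ.map K.subtype) hxn (by rwa [Subgroup.orderOf_coe])
        ((hmemK _).1 x.2)
      intro q hq
      exact Subtype.ext (h1 q ⟨q, hq, rfl⟩)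
  obtain ⟨O', hO'n, hO'c, i, hO'i⟩ := Cfsg.Lib.Transfer.hasNormalPComplement_iff.1 hK2
  set O := O'.map K.subtype with hO
  have hmemO : ∀ u : E, u ∈ O ↔ (orderOf u).Coprime 2 ∧ (orderOf u).Coprime 3 := by
    intro u
    constructor
    · rintro ⟨v, hv, rfl⟩
      refine ⟨?_, (hmemK _).1 v.2⟩
      rw [coe_subtype, Subgroup.orderOf_coe]
      exact (Cfsg.Lib.Transfer.mem_iff_coprime_orderOf hO'c hO'i v).1 hv
    · rintro ⟨h2, h3⟩
      exact ⟨⟨u, (hmemK u).2 h3⟩, (Cfsg.Lib.Transfer.mem_iff_coprime_orderOf hO'c hO'i _).2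
        (by rwa [Subgroup.orderOf_mk]), rfl⟩
  have hconj : ∀ u v : E, orderOf (u * v * u⁻¹) = orderOf v := fun u v => (MulAut.conj u).orderOf_eq v
  have hOn : O.Normal := ⟨fun v hv u => by rw [hmemO, hconj]; exact (hmemO v).1 hv⟩
  have hOτ : ∀ o ∈ O, τ o ∈ O := fun o ho => by rw [hmemO, MulEquiv.orderOf_eq]; exact (hmemO o).1 ho
  -- `τ` inverts `O`
  have hτO : ∀ o ∈ O, τ o = o⁻¹ := by
    let t : O →* O :=
      { toFun := fun o => ⟨τ o, hOτ o o.2⟩
        map_one' := Subtype.ext (map_one τ)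
        map_mul' := fun o o' => Subtype.ext (map_mul τ _ _) }
    have ht : MonoidHom.FixedPointFree (t : O →* O) := fun o ho => by
      have h1 := hS.fixed o (congrArg Subtype.val ho)
      refine Subtype.ext (orderOf_eq_one_iff.1 ?_)
      exact Nat.eq_one_of_dvd_coprimes ((hmemO _).1 o.2).1.symm
        (orderOf_dvd_of_pow_eq_one (by rw [sq]; exact h1)) dvd_rfl
    intro o ho
    exact congrArg Subtype.val
      (congrFun (ht.coe_eq_inv_of_involutive fun o => Subtype.ext (hS.invol o)) ⟨o, ho⟩)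
  have hOcomm : IsMulCommutative O := ⟨⟨fun x y => by
    have h1 := hτO _ (mul_mem x.2 y.2)
    rw [map_mul, hτO x x.2, hτO y y.2, ← mul_inv_rev, inv_inj] at h1
    exact Subtype.ext h1.symm⟩⟩
  have hOcyc : IsCyclic O := hS.cyclic_of_comm O hOcomm
  let σO : E →* MulAut O := MulAut.conjNormal
  have hAut : ∀ f f' : MulAut O, f * f' = f' * f := fun f f' =>
    (IsCyclic.mulAutMulEquiv O).injective (by rw [map_mul, map_mul, mul_comm])
  have hσsq : ∀ u : E, σO u * σO u = 1 := by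
    have hστ : ∀ u : E, σO (τ u) = σO u := fun u => MulEquiv.ext fun o => Subtype.ext (by
      show ((MulAut.conjNormal (τ u) o : O) : E) = (MulAut.conjNormal u o : O)
      rw [MulAut.conjNormal_apply, MulAut.conjNormal_apply]
      have h1 : u * o * u⁻¹ ∈ O := hOn.conj_mem o o.2 u
      have h2 := hτO _ h1
      rw [map_mul, map_mul, map_inv, hτO o o.2] at h2
      have h3 := congrArg (·⁻¹) h2
      simpa [mul_assoc] using h3)
    obtain ⟨I, htop, hinv⟩ := hS.generated
    intro u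
    have hu : u ∈ closure I := htop ▸ mem_top u
    induction hu using Subgroup.closure_induction with
    | mem w hw =>
      have h1 := hστ w
      rw [(hinv w hw).1, map_inv] at h1
      rw [mul_eq_one_iff_eq_inv, h1]
    | one => simp
    | mul x y _ _ hx hy =>
      rw [map_mul, mul_assoc, ← mul_assoc (σO y), hAut (σO y) (σO x), mul_assoc (σO x) (σO y), ← mul_assoc, hx, hy,
        mul_one]
    | inv x _ hx => rw [map_inv, ← mul_inv_rev, hx, inv_one]
  have hσodd : ∀ u : E, Odd (orderOf u) → σO u = 1 := fun u hu => orderOf_eq_one_iff.1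
    (Nat.eq_one_of_dvd_coprimes (Nat.coprime_two_left.2 hu)
      (orderOf_dvd_of_pow_eq_one (by rw [sq]; exact hσsq u)) (orderOf_map_dvd σO u))
  -- `R` centralises `O` and lies in `K`
  have hR8 : Nat.card R = 8 := by
    rw [Nat.card_congr eqR.toEquiv, Nat.card_eq_fintype_card, QuaternionGroup.card]
  have hσR : ∀ r : R, σO r = 1 := fun r => by
    have h1 : σO.ker.subgroupOf R = ⊤ := eq_top_of_odd_auto eqR φ hφodd hne _ fun r => by
      show ((r⁻¹ * φ r : R) : E) ∈ σO.ker
      rw [MonoidHom.mem_ker, Subgroup.coe_mul, Subgroup.coe_inv, hφ, normalizerHom_apply]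
      simp [hσodd g hgodd]
    have h2 : r ∈ σO.ker.subgroupOf R := h1 ▸ mem_top r
    exact h2
  have hOc : ∀ u : E, σO u = 1 → ∀ o ∈ O, u * o = o * u := fun u hu o ho => by
    have h1 := congrArg Subtype.val (DFunLike.congr_fun hu (⟨o, ho⟩ : O))
    rw [MulAut.conjNormal_apply, MulAut.one_apply, mul_inv_eq_iff_eq_mul] at h1
    exact h1
  have hRord : ∀ r : R, (orderOf (r : E)).Coprime 3 := fun r => by
    rw [Subgroup.orderOf_coe]
    exact (show Nat.Coprime 8 3 by norm_num).coprime_dvd_left (hR8 ▸ orderOf_dvd_natCard r)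
  have hr4 : ∀ r : R, (r : E) ^ 8 = 1 := fun r => by
    have h1 : r ^ 8 = 1 := hR8 ▸ pow_card_eq_one'
    exact congrArg Subtype.val h1
  have hRK : R ≤ K := fun r hr => (hmemK r).2 (hRord ⟨r, hr⟩)
  have hdisj : ∀ o ∈ O, o ^ 8 = 1 → o = 1 := fun o ho h8 => orderOf_eq_one_iff.1
    (Nat.eq_one_of_dvd_coprimes (((hmemO o).1 ho).1.pow_right 3).symm (orderOf_dvd_of_pow_eq_one h8) dvd_rfl)
  have hOK : O ≤ K := map_subtype_le _
  -- the quotient of `K` by `O` has order eight
  have hcardK : Nat.card K = Nat.card O * 8 := by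
    obtain ⟨Q⟩ : Nonempty (Sylow 2 K) := inferInstance
    have hcQ : O'.IsComplement' (Q : Subgroup K) :=
      Cfsg.Lib.Transfer.isComplement'_sylow_of_coprime_index hO'c hO'i Q
    let eQ : K ⧸ O' ≃* ((Q : Subgroup K).map K.subtype) := hcQ.symm.QuotientMulEquiv.trans
      (equivMapOfInjective _ K.subtype K.subtype_injective)
    let c : MulAut K := MulAut.conjNormal g
    have hc : ∀ (m : ℕ) (x : K), (((c ^ m) x : K) : E) = g ^ m * x * (g ^ m)⁻¹ := fun m x => by
      show (((MulAut.conjNormal g : MulAut K) ^ m) x : E) = _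
      rw [← map_pow, MulAut.conjNormal_apply]
    have hcO : O'.map c.toMonoidHom = O' := by
      have hiff : ∀ x : K, x ∈ O' ↔ c x ∈ O' := fun x => by
        rw [Cfsg.Lib.Transfer.mem_iff_coprime_orderOf hO'c hO'i,
          Cfsg.Lib.Transfer.mem_iff_coprime_orderOf hO'c hO'i, MulEquiv.orderOf_eq]
      ext x
      constructor
      · rintro ⟨y, hy, rfl⟩
        exact (hiff y).1 hy
      · intro hx
        exact ⟨c.symm x, (hiff _).2 (by rwa [MulEquiv.apply_symm_apply]), MulEquiv.apply_symm_apply c x⟩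
    let ψ : MulAut (K ⧸ O') := QuotientGroup.congr O' O' c hcO
    have hψ : ∀ (m : ℕ) (x : K), (ψ ^ m) (x : K ⧸ O') = (((c ^ m) x : K) : K ⧸ O') := by
      intro m
      induction m with
      | zero => intro x; rfl
      | succ m ih =>
        intro x
        rw [pow_succ, MulAut.mul_apply, show ψ (x : K ⧸ O') = ((c x : K) : K ⧸ O') from rfl, ih, pow_succ,
          MulAut.mul_apply]
    have hψodd : Odd (orderOf ψ) := hgodd.of_dvd_nat (orderOf_dvd_of_pow_eq_one (MulEquiv.ext fun x => by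
      obtain ⟨x, rfl⟩ := QuotientGroup.mk_surjective x
      rw [hψ, MulAut.one_apply, show (c ^ orderOf g) x = x from Subtype.ext (by
        rw [hc, pow_orderOf_eq_one, one_mul, inv_one, mul_one])]))
    have hψne : ψ ≠ 1 := fun h => hne (MulEquiv.ext fun r => Subtype.ext (by
      rw [hφ, normalizerHom_apply, MulAut.one_apply]
      have h1 : ((c ⟨r, hRK r.2⟩ : K) : K ⧸ O') = ((⟨r, hRK r.2⟩ : K) : K ⧸ O') :=
        DFunLike.congr_fun h ((⟨r, hRK r.2⟩ : K) : K ⧸ O')
      rw [QuotientGroup.eq] at h1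
      have h2 : ((c ⟨r, hRK r.2⟩)⁻¹ * ⟨r, hRK r.2⟩ : K).1 ∈ O := ⟨_, h1, rfl⟩
      have h3 : ((φ r)⁻¹ * r : R).1 = 1 := hdisj _ (by
        have h4 : ((φ r)⁻¹ * r : R).1 = ((c ⟨r, hRK r.2⟩)⁻¹ * ⟨r, hRK r.2⟩ : K).1 := by
          simp only [Subgroup.coe_mul, Subgroup.coe_inv, hφ, normalizerHom_apply]
          rw [show ((c ⟨r, hRK r.2⟩ : K) : E) = g * r * g⁻¹ from MulAut.conjNormal_apply _ _]
        rw [h4]
        exact h2) (hr4 _)
      rw [Subgroup.coe_mul, Subgroup.coe_inv, inv_mul_eq_one, hφ, normalizerHom_apply] at h3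
      exact h3))
    have hQp : IsPGroup 2 ((Q : Subgroup K).map K.subtype) := Q.2.map _
    have hKOp : IsPGroup 2 (K ⧸ O') := hQp.of_equiv eQ.symm
    have hshape : IsCyclic (K ⧸ O') ∨ ∃ n : ℕ, Nonempty ((K ⧸ O') ≃* QuaternionGroup (2 ^ n)) := by
      rcases hS.pgroup 2 _ Nat.prime_two hQp with h | ⟨-, n, ⟨e'⟩⟩
      · exact Or.inl (eQ.symm.isCyclic.mp h)
      · exact Or.inr ⟨n, ⟨eQ.trans e'⟩⟩
    obtain ⟨⟨e8⟩, -⟩ := odd_auto_quaternion hKOp hshape ψ hψodd hψne
    have h8 : Nat.card (K ⧸ O') = 8 := by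
      rw [Nat.card_congr e8.toEquiv, Nat.card_eq_fintype_card, QuaternionGroup.card]
    rw [Subgroup.card_eq_card_quotient_mul_card_subgroup O', h8, mul_comm, hO,
      Nat.card_congr (equivMapOfInjective O' K.subtype K.subtype_injective).toEquiv]
  -- `K` is the direct product of `O` and `R`
  have hdec : ∀ x ∈ K, ∃ o ∈ O, ∃ r ∈ R, x = o * r := by
    let f : O × R → K := fun q => ⟨q.1 * q.2, mul_mem (hOK q.1.2) (hRK q.2.2)⟩
    have hf : Function.Injective f := by
      rintro ⟨o, r⟩ ⟨o', r'⟩ h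
      have h1 : (o : E) * r = o' * r' := congrArg Subtype.val h
      have h2 : (o' : E)⁻¹ * o = ((r' * r⁻¹ : R) : E) := by
        rw [Subgroup.coe_mul, Subgroup.coe_inv, eq_mul_inv_iff_mul_eq, mul_assoc, h1, inv_mul_cancel_left]
      have h3 : (o' : E)⁻¹ * o = 1 := hdisj _ (mul_mem (inv_mem o'.2) o.2) (h2 ▸ hr4 _)
      rw [inv_mul_eq_one] at h3
      rw [h3] at h1
      rw [Subtype.ext (mul_left_cancel h1), Subtype.ext h3.symm]
    have hb := hf.bijective_of_nat_card_le (by rw [Nat.card_prod, hR8, hcardK])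
    intro x hx
    obtain ⟨⟨o, r⟩, hor⟩ := hb.2 ⟨x, hx⟩
    exact ⟨o, o.2, r, r.2, (congrArg Subtype.val hor).symm⟩
  -- `R` is normal
  have hRn : ∀ u : E, ∀ r ∈ R, u * r * u⁻¹ ∈ R := by
    intro u r hr
    obtain ⟨o, ho, s, hs, hos⟩ := hdec _ (hKn.conj_mem r (hRK hr) u)
    have hc : Commute o s := (hOc s (hσR ⟨s, hs⟩) o ho).symm
    have h8 : (u * r * u⁻¹) ^ 8 = 1 := by rw [conj_pow, hr4 ⟨r, hr⟩, mul_one, mul_inv_cancel]
    rw [hos, hc.mul_pow, hr4 ⟨s, hs⟩, mul_one] at h8
    rw [hos, hdisj o ho h8, one_mul]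
    exact hs
  have hnorm : ∀ u : E, u ∈ normalizer (R : Set E) := fun u => mem_normalizer_fintype (hRn u)
  obtain ⟨x, hx⟩ := hPc.exists_generator
  have hxodd : Odd (orderOf (x : E)) := by
    rw [Subgroup.orderOf_coe, orderOf_eq_card_of_forall_mem_zpowers hx, hk]
    exact Odd.pow (by decide)
  have hxord : orderOf (x : E) = 3 ^ (k + 1) := by
    rw [Subgroup.orderOf_coe, orderOf_eq_card_of_forall_mem_zpowers hx, hk]
  set Φ : E →* MulAut R := R.normalizerMonoidHom.comp
    ((MonoidHom.id E).codRestrict _ hnorm) with hΦ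
  have hΦa : ∀ (u : E) (r : R), ((Φ u r : R) : E) = u * r * u⁻¹ := fun u r => rfl
  have hΦx : Φ (x : E) ^ 3 = 1 := by
    by_cases h1 : Φ (x : E) = 1
    · rw [h1, one_pow]
    exact (odd_auto_quaternion (IsPGroup.of_card (n := 3) hR8) (Or.inr ⟨1, ⟨eqR⟩⟩) _
      (hxodd.of_dvd_nat (orderOf_map_dvd _ _)) h1).2
  have hk1 : 1 ≤ k := by
    by_contra hk0
    obtain rfl : k = 0 := by omega
    have hxc : ∀ u : E, u * x = x * u := hS.three_central (by
      have h1 := pow_orderOf_eq_one (x : E)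
      rw [hxord] at h1
      simpa using h1)
    -- then conjugation by `g` would be inner on `R`
    have hsup : K ⊔ zpowers (x : E) = ⊤ := by
      rw [← hKP.sup_eq_top]
      congr 1
      refine le_antisymm (zpowers_le.2 x.2) fun y hy => ?_
      obtain ⟨m, hm⟩ := mem_zpowers_iff.1 (hx ⟨y, hy⟩)
      exact mem_zpowers_iff.2 ⟨m, congrArg Subtype.val hm⟩
    have hrange : Φ g ∈ R.map Φ := by
      have h1 : (⊤ : Subgroup E) ≤ (R.map Φ).comap Φ := by
        rw [← hsup, sup_le_iff, zpowers_le]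
        refine ⟨fun y hy => ?_, ?_⟩
        · obtain ⟨o, ho, r, hr, rfl⟩ := hdec y hy
          refine ⟨r, hr, ?_⟩
          rw [map_mul, show Φ o = 1 from MulEquiv.ext fun s => Subtype.ext (by
            rw [hΦa, MulAut.one_apply, ← hOc s (hσR s) o ho, mul_inv_cancel_right]), one_mul]
        · rw [mem_comap, show Φ (x : E) = 1 from MulEquiv.ext fun s => Subtype.ext (by
            rw [hΦa, MulAut.one_apply, ← hxc, mul_inv_cancel_right])]
          exact one_mem _
      exact h1 (mem_top g)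
    obtain ⟨r, hr, hrg⟩ := hrange
    have h8 : φ ^ 8 = 1 := by
      show Φ g ^ 8 = 1
      rw [← hrg, ← map_pow, hr4 ⟨r, hr⟩, map_one]
    exact hne (orderOf_eq_one_iff.1 (Nat.eq_one_of_dvd_coprimes ((Nat.coprime_two_left.2 hφodd).pow_left 3)
      (orderOf_dvd_of_pow_eq_one h8) dvd_rfl))
  -- the abelian group
  set y : E := (x : E) ^ 3 with hy
  have hyodd : Odd (orderOf y) := hxodd.of_dvd_nat (orderOf_pow_dvd 3)
  let F : O × zpowers y →* E := MonoidHom.mk' (fun q => q.1 * q.2) fun q q' => by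
    have h1 : ∀ (o : O) (v : zpowers y), (v : E) * o = o * v := fun o v => by
      obtain ⟨m, hm⟩ := mem_zpowers_iff.1 v.2
      refine hOc _ ?_ o o.2
      rw [← hm, map_zpow, hσodd y hyodd, one_zpow]
    simp only [Prod.fst_mul, Prod.snd_mul, Subgroup.coe_mul]
    rw [mul_assoc (q.1 : E), mul_assoc (q.1 : E), ← mul_assoc (q'.1 : E), ← h1 q'.1 q.2, mul_assoc]
  have hFinj : Function.Injective F := by
    rintro ⟨o, v⟩ ⟨o', v'⟩ h
    have h1 : (o : E) * v = o' * v' := h
    have h2 : ((o'⁻¹ * o : O) : E) = ((v' * v⁻¹ : zpowers y) : E) := by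
      rw [Subgroup.coe_mul, Subgroup.coe_inv, Subgroup.coe_mul, Subgroup.coe_inv, eq_mul_inv_iff_mul_eq,
        mul_assoc, h1, inv_mul_cancel_left]
    have h3 : (o'⁻¹ * o : O) = 1 := by
      refine Subtype.ext (orderOf_eq_one_iff.1 (Nat.eq_one_of_dvd_coprimes
        (((hmemO _).1 (o'⁻¹ * o).2).2.pow_right (k + 1)) dvd_rfl ?_))
      rw [h2, ← hxord]
      exact (orderOf_dvd_of_mem_zpowers (v' * v⁻¹).2).trans (orderOf_pow_dvd 3)
    rw [inv_mul_eq_one] at h3
    subst h3
    rw [Subtype.ext (mul_left_cancel h1)]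
  have hycard : Nat.card (zpowers y) = 3 ^ k := by
    rw [Nat.card_zpowers, hy, orderOf_pow' _ (by norm_num : (3 : ℕ) ≠ 0), hxord,
      Nat.gcd_eq_right (dvd_pow_self 3 (Nat.succ_ne_zero k)), pow_succ, Nat.mul_div_cancel _ (by norm_num)]
  have hDcard : Nat.card F.range = Nat.card O * 3 ^ k := by
    rw [← Nat.card_congr (MonoidHom.ofInjective hFinj).toEquiv, Nat.card_prod, hycard]
  refine ⟨R, F.range, ⟨eqR⟩, ?_, ?_, ?_, ?_, ?_⟩
  · refine ⟨⟨fun u v => ?_⟩⟩
    obtain ⟨⟨o, w₁⟩, hu⟩ := u.2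
    obtain ⟨⟨o', w₂⟩, hv⟩ := v.2
    apply Subtype.ext
    rw [Subgroup.coe_mul, Subgroup.coe_mul, ← hu, ← hv, ← map_mul, ← map_mul, Prod.mk_mul_mk, Prod.mk_mul_mk,
      mul_comm' o o', mul_comm' w₁ w₂]
  · rw [hDcard]
    refine Odd.mul ?_ (Odd.pow (by decide))
    rw [hO, Nat.card_congr (equivMapOfInjective O' K.subtype K.subtype_injective).toEquiv.symm]
    exact Nat.coprime_two_right.1 hO'c
  · rw [hDcard]
    exact Dvd.dvd.mul_left (dvd_pow_self 3 (by omega)) _
  · rw [hDcard, ← hKP.card_mul, hcardK, hk]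
    ring
  · rintro _ ⟨⟨o, v⟩, rfl⟩ r hr
    show (o : E) * v * r = r * (o * v)
    have h1 : (v : E) * r = r * v := by
      obtain ⟨m, hm⟩ := mem_zpowers_iff.1 v.2
      have h2 : Φ (v : E) = 1 := by rw [← hm, map_zpow, hy, map_pow, hΦx, one_zpow]
      have h3 := congrArg Subtype.val (DFunLike.congr_fun h2 (⟨r, hr⟩ : R))
      rw [hΦa, MulAut.one_apply, mul_inv_eq_iff_eq_mul] at h3
      exact h3
    rw [mul_assoc, h1, ← mul_assoc, ← hOc r (hσR ⟨r, hr⟩) o o.2, mul_assoc]

end SharpStab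

end Cfsg.Lib.RankOne
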