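import Mathlib

/-! Jordan's theorem on sharply multiply transitive permutation groups: the degrees of the sharply
`k`-transitive groups with `k ≥ 4`, by counting involutions. -/

set_option autoImplicit false
set_option linter.unusedSectionVars false

open MulAction

namespace Cfsg.Lib.SharpJordan

variable {α : Type*} [Fintype α] [DecidableEq α] {G : Subgroup (Equiv.Perm α)}

theorem eq_one_of_fixes {k : ℕ} (hsharp : ∀ x : Fin k ↪ α, stabilizer G x = ⊥) (x : Fin k ↪ α) {g : G}
    (hg : ∀ i, g • x i = x i) : g = 1 := by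
  have h1 : g ∈ stabilizer G x := mem_stabilizer_iff.2 (DFunLike.ext _ _ fun i => hg i)
  rwa [hsharp x, Subgroup.mem_bot] at h1

theorem exists_map {k : ℕ} (hG : IsMultiplyPretransitive G α k) (x y : Fin k ↪ α) :
    ∃ g : G, ∀ i, g • x i = y i := by
  obtain ⟨g, hg⟩ := MulAction.exists_smul_eq G x y
  exact ⟨g, fun i => DFunLike.congr_fun hg i⟩

theorem card_group {k : ℕ} (hG : IsMultiplyPretransitive G α k)
    (hsharp : ∀ x : Fin k ↪ α, stabilizer G x = ⊥) (x : Fin k ↪ α) :
    Nat.card G = (Fintype.card α).descFactorial k := by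
  have hbij : Function.Bijective fun g : G => g • x := by
    refine ⟨fun g h hgh => ?_, fun y => MulAction.exists_smul_eq G x y⟩
    have h1 : h⁻¹ * g ∈ stabilizer G x := by
      rw [mem_stabilizer_iff, mul_smul, inv_smul_eq_iff]
      exact hgh
    rw [hsharp x, Subgroup.mem_bot, inv_mul_eq_one] at h1
    exact h1.symm
  rw [Nat.card_congr (Equiv.ofBijective _ hbij), Nat.card_eq_fintype_card, Fintype.card_embedding_eq,
    Fintype.card_fin]

/-- An embedding of four points. -/
def quad (a b c d : α) (h : a ≠ b ∧ a ≠ c ∧ a ≠ d ∧ b ≠ c ∧ b ≠ d ∧ c ≠ d) : Fin 4 ↪ α :=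
  ⟨![a, b, c, d], by
    obtain ⟨h1, h2, h3, h4, h5, h6⟩ := h
    intro i j hij
    fin_cases i <;> fin_cases j <;>
      simp_all [Matrix.cons_val_zero, Matrix.cons_val_one, eq_comm]⟩

section Four

variable (hG : IsMultiplyPretransitive G α 4) (hsharp : ∀ x : Fin 4 ↪ α, stabilizer G x = ⊥)
include hG hsharp

theorem eq_one_of_four {a b c d : α} (h : a ≠ b ∧ a ≠ c ∧ a ≠ d ∧ b ≠ c ∧ b ≠ d ∧ c ≠ d) {g : G}
    (ha : g • a = a) (hb : g • b = b) (hc : g • c = c) (hd : g • d = d) : g = 1 := by
  refine eq_one_of_fixes hsharp (quad a b c d h) fun i => ?_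
  fin_cases i <;> first | exact ha | exact hb | exact hc | exact hd

theorem exists_unique_map {a b c d a' b' c' d' : α}
    (h : a ≠ b ∧ a ≠ c ∧ a ≠ d ∧ b ≠ c ∧ b ≠ d ∧ c ≠ d)
    (h' : a' ≠ b' ∧ a' ≠ c' ∧ a' ≠ d' ∧ b' ≠ c' ∧ b' ≠ d' ∧ c' ≠ d') :
    ∃! g : G, g • a = a' ∧ g • b = b' ∧ g • c = c' ∧ g • d = d' := by
  obtain ⟨g, hg⟩ := exists_map hG (quad a b c d h) (quad a' b' c' d' h')
  refine ⟨g, ⟨hg 0, hg 1, hg 2, hg 3⟩, fun k hk => ?_⟩
  have h1 : g⁻¹ * k = 1 := eq_one_of_four hG hsharp h
    (by rw [mul_smul, hk.1, inv_smul_eq_iff]; exact (hg 0).symm)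
    (by rw [mul_smul, hk.2.1, inv_smul_eq_iff]; exact (hg 1).symm)
    (by rw [mul_smul, hk.2.2.1, inv_smul_eq_iff]; exact (hg 2).symm)
    (by rw [mul_smul, hk.2.2.2, inv_smul_eq_iff]; exact (hg 3).symm)
  exact (inv_mul_eq_one.1 h1).symm

/-- The number of fixed points. -/
def fixedCard (g : G) : ℕ := (Finset.univ.filter fun x : α => g • x = x).card

theorem fixedCard_le {g : G} (hg : g ≠ 1) : (Finset.univ.filter fun x : α => g • x = x).card ≤ 3 := by
  by_contra hcon
  obtain ⟨s, hs, hsc⟩ := Finset.exists_subset_card_eq (n := 4)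
    (s := Finset.univ.filter fun x : α => g • x = x) (by omega)
  refine hg (eq_one_of_fixes hsharp
    ((s.equivFinOfCardEq hsc).symm.toEmbedding.trans (Function.Embedding.subtype _)) fun i => ?_)
  exact (Finset.mem_filter.1 (hs ((s.equivFinOfCardEq hsc).symm i).2)).2

/-- The two double counts. -/
theorem sums [Fintype G] :
    (∑ g ∈ Finset.univ.filter (fun g : G => g ≠ 1 ∧ g * g = 1),
        let m := Fintype.card α - (Finset.univ.filter fun x : α => g • x = x).card
        m * (m - 2)) = (Fintype.card α).descFactorial 4 ∧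
    (∑ g ∈ Finset.univ.filter (fun g : G => g ≠ 1 ∧ g * g = 1),
        let f := (Finset.univ.filter fun x : α => g • x = x).card
        f * (f - 1) * (Fintype.card α - f)) = (Fintype.card α).descFactorial 4 := by
  classical
  let I : Finset G := Finset.univ.filter fun g : G => g ≠ 1 ∧ g * g = 1
  let Q := {q : α × α × α × α //
    q.1 ≠ q.2.1 ∧ q.1 ≠ q.2.2.1 ∧ q.1 ≠ q.2.2.2 ∧ q.2.1 ≠ q.2.2.1 ∧ q.2.1 ≠ q.2.2.2 ∧ q.2.2.1 ≠ q.2.2.2}
  have hQ : Fintype.card Q = (Fintype.card α).descFactorial 4 := by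
    rw [← Fintype.card_fin 4, ← Fintype.card_embedding_eq]
    refine Fintype.card_congr
      { toFun := fun q => quad q.1.1 q.1.2.1 q.1.2.2.1 q.1.2.2.2 q.2
        invFun := fun x => ⟨(x 0, x 1, x 2, x 3), x.injective.ne (by decide), x.injective.ne (by decide),
          x.injective.ne (by decide), x.injective.ne (by decide), x.injective.ne (by decide), x.injective.ne (by decide)⟩
        left_inv := fun q => rfl
        right_inv := fun x => DFunLike.ext _ _ fun i => by fin_cases i <;> rfl }
  have hinv : ∀ g : G, g * g = 1 → ∀ x : α, g • g • x = x := fun g hg x => by rw [← mul_smul, hg, one_smul]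
  constructor
  · -- two transpositions
    let P : G → α × α × α × α → Prop := fun g q =>
      g • q.1 = q.2.1 ∧ g • q.2.1 = q.1 ∧ g • q.2.2.1 = q.2.2.2 ∧ g • q.2.2.2 = q.2.2.1
    have hone : ∀ q : Q, (I.filter fun g => P g q.1).card = 1 := by
      rintro ⟨⟨a, b, c, d⟩, h1, h2, h3, h4, h5, h6⟩
      obtain ⟨g, hg, hu⟩ := exists_unique_map hG hsharp (a := a) (b := b) (c := c) (d := d) (a' := b) (b' := a)
        (c' := d) (d' := c) ⟨h1, h2, h3, h4, h5, h6⟩ ⟨h1.symm, h5, h4, h3, h2, h6.symm⟩
      obtain ⟨g1, g2, g3, g4⟩ := hg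
      refine Finset.card_eq_one.2 ⟨g, Finset.eq_singleton_iff_unique_mem.2 ⟨?_, fun k hk => hu k ?_⟩⟩
      · refine Finset.mem_filter.2 ⟨Finset.mem_filter.2 ⟨Finset.mem_univ _, fun h => ?_, ?_⟩, g1, g2, g3, g4⟩
        · rw [h, one_smul] at g1; exact h1 g1
        · exact eq_one_of_four hG hsharp ⟨h1, h2, h3, h4, h5, h6⟩ (by rw [mul_smul, g1, g2]) (by rw [mul_smul, g2, g1])
            (by rw [mul_smul, g3, g4]) (by rw [mul_smul, g4, g3])
      · exact (Finset.mem_filter.1 hk).2
    rw [← hQ, show Fintype.card Q = ∑ q : Q, (I.filter fun g => P g q.1).card by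
      rw [Finset.sum_congr rfl (fun q _ => hone q), Finset.sum_const, Finset.card_univ, smul_eq_mul, mul_one]]
    simp only [Finset.card_filter]
    rw [Finset.sum_comm]
    refine Finset.sum_congr rfl fun g hg => ?_
    have hg2 := (Finset.mem_filter.1 hg).2.2
    rw [← Finset.card_filter]
    set M : Finset α := Finset.univ.filter fun x : α => g • x ≠ x with hM
    have hMc : M.card = Fintype.card α - (Finset.univ.filter fun x : α => g • x = x).card := by
      have := Finset.card_filter_add_card_filter_not (s := (Finset.univ : Finset α)) (fun x : α => g • x = x)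
      rw [Finset.card_univ] at this
      simp only [hM, ne_eq]
      omega
    show _ * (_ - 2) = _
    rw [← hMc]
    have hgM : ∀ x ∈ M, g • x ∈ M := fun x hx => by
      simp only [hM, Finset.mem_filter, Finset.mem_univ, true_and, ne_eq] at hx ⊢
      exact fun h => hx (smul_left_cancel g h)
    rw [← Finset.sum_const_nat (s := M) (f := fun x => (M \ {x, g • x}).card) (m := M.card - 2) fun x hx => by
      rw [Finset.card_sdiff_of_subset (by
        intro y hy
        simp only [Finset.mem_insert, Finset.mem_singleton] at hy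
        rcases hy with rfl | rfl
        exacts [hx, hgM x hx]),
        Finset.card_pair (Ne.symm (Finset.mem_filter.1 hx).2)]]
    rw [← Finset.card_sigma, ← Finset.card_filter]
    refine Finset.card_bij' (fun p hp => ⟨(p.1, g • p.1, p.2, g • p.2), ?_⟩) (fun q _ => ⟨q.1.1, q.1.2.2.1⟩) ?_ ?_ ?_ ?_
    · simp only [Finset.mem_sigma, Finset.mem_sdiff, Finset.mem_insert, Finset.mem_singleton, not_or, hM,
        Finset.mem_filter, Finset.mem_univ, true_and] at hp
      obtain ⟨h1, h2, h3, h4⟩ := hp
      exact ⟨Ne.symm h1, Ne.symm h3, fun h => h4 (by simp only at h; rw [h, hinv g hg2]), Ne.symm h4,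
        fun h => h3 (smul_left_cancel g h).symm, Ne.symm h2⟩
    · intro p hp
      simp [P, hinv g hg2]
    · rintro ⟨⟨a, b, c, d⟩, h1, h2, h3, h4, h5, h6⟩ hq
      simp only [Finset.mem_filter, Finset.mem_univ, true_and, P] at hq
      obtain ⟨e1, e2, e3, e4⟩ := hq
      simp only [Finset.mem_sigma, Finset.mem_sdiff, Finset.mem_insert, Finset.mem_singleton, not_or, hM,
        Finset.mem_filter, Finset.mem_univ, true_and, e1, e3]
      exact ⟨Ne.symm h1, Ne.symm h6, Ne.symm h2, fun h => h4 h.symm⟩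
    · intro p hp; rfl
    · rintro ⟨⟨a, b, c, d⟩, h⟩ hq
      simp only [Finset.mem_filter, Finset.mem_univ, true_and, P] at hq
      obtain ⟨e1, e2, e3, e4⟩ := hq
      simp [e1, e3]
  · -- one transposition and two fixed points
    let P : G → α × α × α × α → Prop := fun g q =>
      g • q.1 = q.1 ∧ g • q.2.1 = q.2.1 ∧ g • q.2.2.1 = q.2.2.2 ∧ g • q.2.2.2 = q.2.2.1
    have hone : ∀ q : Q, (I.filter fun g => P g q.1).card = 1 := by
      rintro ⟨⟨a, b, c, d⟩, h1, h2, h3, h4, h5, h6⟩
      obtain ⟨g, hg, hu⟩ := exists_unique_map hG hsharp (a := a) (b := b) (c := c) (d := d) (a' := a) (b' := b)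
        (c' := d) (d' := c) ⟨h1, h2, h3, h4, h5, h6⟩ ⟨h1, h3, h2, h5, h4, h6.symm⟩
      obtain ⟨g1, g2, g3, g4⟩ := hg
      refine Finset.card_eq_one.2 ⟨g, Finset.eq_singleton_iff_unique_mem.2 ⟨?_, fun k hk => hu k ?_⟩⟩
      · refine Finset.mem_filter.2 ⟨Finset.mem_filter.2 ⟨Finset.mem_univ _, fun h => ?_, ?_⟩, g1, g2, g3, g4⟩
        · rw [h, one_smul] at g3; exact h6 g3
        · exact eq_one_of_four hG hsharp ⟨h1, h2, h3, h4, h5, h6⟩ (by rw [mul_smul, g1, g1]) (by rw [mul_smul, g2, g2])
            (by rw [mul_smul, g3, g4]) (by rw [mul_smul, g4, g3])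
      · exact (Finset.mem_filter.1 hk).2
    rw [← hQ, show Fintype.card Q = ∑ q : Q, (I.filter fun g => P g q.1).card by
      rw [Finset.sum_congr rfl (fun q _ => hone q), Finset.sum_const, Finset.card_univ, smul_eq_mul, mul_one]]
    simp only [Finset.card_filter]
    rw [Finset.sum_comm]
    refine Finset.sum_congr rfl fun g hg => ?_
    have hg2 := (Finset.mem_filter.1 hg).2.2
    rw [← Finset.card_filter]
    set F : Finset α := Finset.univ.filter fun x : α => g • x = x with hF
    set M : Finset α := Finset.univ.filter fun x : α => ¬ g • x = x with hM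
    have hMc : M.card = Fintype.card α - F.card := by
      have := Finset.card_filter_add_card_filter_not (s := (Finset.univ : Finset α)) (fun x : α => g • x = x)
      rw [Finset.card_univ] at this
      simp only [hM, hF]
      omega
    have hsum : F.card * (F.card - 1) * M.card = (F.offDiag ×ˢ M).card := by
      rw [Finset.card_product, Finset.offDiag_card, Nat.mul_sub, mul_one]
    show _ = _
    rw [← Finset.card_filter]
    rw [← hMc, hsum]
    refine Finset.card_bij' (fun p hp => ⟨(p.1.1, p.1.2, p.2, g • p.2), ?_⟩) (fun q _ => ((q.1.1, q.1.2.1), q.1.2.2.1)) ?_ ?_ ?_ ?_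
    · simp only [Finset.mem_product, Finset.mem_offDiag, hF, hM, Finset.mem_filter, Finset.mem_univ, true_and] at hp
      obtain ⟨⟨h1, h2, h3⟩, h4⟩ := hp
      refine ⟨h3, fun (h : p.1.1 = p.2) => h4 (by rw [← h]; exact h1), fun h => h4 ?_,
        fun (h : p.1.2 = p.2) => h4 (by rw [← h]; exact h2), fun h => h4 ?_, Ne.symm h4⟩
      · rw [← smul_left_cancel g (h1.trans h)]
        exact h1
      · rw [← smul_left_cancel g (h2.trans h)]
        exact h2
    · intro p hp
      simp only [Finset.mem_product, Finset.mem_offDiag, hF, hM, Finset.mem_filter, Finset.mem_univ, true_and] at hp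
      simp [P, hinv g hg2, hp.1.1, hp.1.2.1]
    · rintro ⟨⟨a, b, c, d⟩, h1, h2, h3, h4, h5, h6⟩ hq
      simp only [Finset.mem_filter, Finset.mem_univ, true_and, P] at hq
      obtain ⟨e1, e2, e3, e4⟩ := hq
      simp only [Finset.mem_product, Finset.mem_offDiag, hF, hM, Finset.mem_filter, Finset.mem_univ, true_and, e1, e2, e3]
      exact ⟨h1, Ne.symm h6⟩
    · intro p hp; rfl
    · rintro ⟨⟨a, b, c, d⟩, h⟩ hq
      simp only [Finset.mem_filter, Finset.mem_univ, true_and, P] at hq
      obtain ⟨e1, e2, e3, e4⟩ := hq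
      simp [e3]

theorem fixedCard_parity {g : G} (hg : g * g = 1) :
    Even (Fintype.card α - (Finset.univ.filter fun x : α => g • x = x).card) := by
  have h2 : (g : Equiv.Perm α) * (g : Equiv.Perm α) = 1 := congrArg Subtype.val hg
  have hc : Fintype.card α - (Finset.univ.filter fun x : α => g • x = x).card = (g : Equiv.Perm α).support.card := by
    have := Finset.card_filter_add_card_filter_not (s := (Finset.univ : Finset α)) (fun x : α => g • x = x)
    rw [Finset.card_univ] at this
    have hs : (g : Equiv.Perm α).support = Finset.univ.filter fun x : α => ¬ g • x = x := by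
      ext x
      simp [Equiv.Perm.mem_support]
      rfl
    rw [hs]
    omega
  rw [hc, even_iff_two_dvd, ← Equiv.Perm.sum_cycleType]
  refine Multiset.dvd_sum fun l hl => ?_
  have h3 := (Equiv.Perm.dvd_of_mem_cycleType hl).trans (orderOf_dvd_of_pow_eq_one (n := 2) (by rw [sq]; exact h2))
  have h4 := Equiv.Perm.two_le_of_mem_cycleType hl
  have h5 := Nat.le_of_dvd two_pos h3
  rw [show l = 2 by omega]

/-- Degree at most eleven; at most six for even degree; seven is impossible. -/
theorem degree_bound (h4 : 4 ≤ Fintype.card α) :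
    (Even (Fintype.card α) → Fintype.card α ≤ 6) ∧
      (Odd (Fintype.card α) → Fintype.card α ≤ 11 ∧ Fintype.card α ≠ 7) := by
  classical
  have := Fintype.ofFinite G
  obtain ⟨s1, s2⟩ := sums hG hsharp
  obtain ⟨m, hm⟩ : ∃ m, Fintype.card α = m + 4 := ⟨Fintype.card α - 4, by omega⟩
  rw [hm] at s1 s2
  have hQ : (m + 4).descFactorial 4 = (m + 1) * ((m + 2) * ((m + 3) * (m + 4))) := by
    simp only [Nat.descFactorial_succ, Nat.descFactorial_zero, mul_one, Nat.sub_zero,
      show m + 4 - 1 = m + 3 by omega, show m + 4 - 2 = m + 2 by omega, show m + 4 - 3 = m + 1 by omega]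
  rw [hQ] at s1 s2
  set I : Finset G := Finset.univ.filter fun g : G => g ≠ 1 ∧ g * g = 1 with hI
  set f : G → ℕ := fun g => (Finset.univ.filter fun x : α => g • x = x).card with hf
  have hfI : ∀ g ∈ I, f g ≤ 3 ∧ (m + 4 - f g) % 2 = 0 := fun g hg => by
    obtain ⟨h1, h2⟩ := (Finset.mem_filter.1 hg).2
    refine ⟨fixedCard_le hG hsharp h1, Nat.even_iff.1 ?_⟩
    have := fixedCard_parity hG hsharp h2
    rwa [hm] at this
  change (∑ g ∈ I, (m + 4 - f g) * (m + 4 - f g - 2)) = _ at s1
  change (∑ g ∈ I, f g * (f g - 1) * (m + 4 - f g)) = _ at s2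
  constructor
  · rintro ⟨k, hk⟩
    by_contra hcon
    have key : m * (∑ g ∈ I, f g * (f g - 1) * (m + 4 - f g)) ≤ 2 * (∑ g ∈ I, (m + 4 - f g) * (m + 4 - f g - 2)) := by
      rw [Finset.mul_sum, Finset.mul_sum]
      refine Finset.sum_le_sum fun g hg => ?_
      obtain ⟨h1, h2⟩ := hfI g hg
      obtain hf0 | hf2 : f g = 0 ∨ f g = 2 := by omega
      · simp [hf0]
      · rw [hf2, show m + 4 - 2 = m + 2 by omega, show m + 2 - 2 = m by omega]
        norm_num
        exact le_of_eq (by ring)
    rw [s1, s2] at key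
    have h5 : 0 < (m + 1) * ((m + 2) * ((m + 3) * (m + 4))) := by positivity
    have := Nat.le_of_mul_le_mul_right key h5
    omega
  · rintro ⟨k, hk⟩
    obtain ⟨j, rfl⟩ : ∃ j, m = j + 1 := ⟨m - 1, by omega⟩
    have key : j * (∑ g ∈ I, f g * (f g - 1) * (j + 1 + 4 - f g))
        + 6 * ((j + 4) * (j + 2) * (I.filter fun g => f g = 1).card) =
        6 * (∑ g ∈ I, (j + 1 + 4 - f g) * (j + 1 + 4 - f g - 2)) := by
      rw [Finset.card_filter, Finset.mul_sum, Finset.mul_sum, Finset.mul_sum, Finset.mul_sum, ← Finset.sum_add_distrib]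
      refine Finset.sum_congr rfl fun g hg => ?_
      obtain ⟨h1, h2⟩ := hfI g hg
      obtain hf1 | hf3 : f g = 1 ∨ f g = 3 := by omega
      · simp [hf1]
      · rw [hf3, show j + 1 + 4 - 3 = j + 2 by omega, show j + 2 - 2 = j by omega, if_neg (by norm_num)]
        norm_num
        ring
    rw [s1, s2] at key
    have h5 : 0 < (j + 1 + 1) * ((j + 1 + 2) * ((j + 1 + 3) * (j + 1 + 4))) := by positivity
    refine ⟨?_, fun h7 => ?_⟩
    · have h6 : j * ((j + 1 + 1) * ((j + 1 + 2) * ((j + 1 + 3) * (j + 1 + 4)))) ≤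
          6 * ((j + 1 + 1) * ((j + 1 + 2) * ((j + 1 + 3) * (j + 1 + 4)))) := key ▸ Nat.le_add_right _ _
      have := Nat.le_of_mul_le_mul_right h6 h5
      omega
    · obtain rfl : j = 2 := by omega
      norm_num at key
      omega

/-- Degree nine is impossible. -/
theorem degree_ne_nine : Fintype.card α ≠ 9 := by
  classical
  intro h9
  have := Fact.mk (show Nat.Prime 7 by norm_num)
  obtain ⟨a, b, hab⟩ := Fintype.exists_pair_of_one_lt_card (α := α) (by omega)
  set K : Subgroup G := stabilizer G a ⊓ stabilizer G b with hK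
  obtain ⟨c, hc, d, hd, hcd⟩ := Finset.one_lt_card.1 (show 1 < ((Finset.univ : Finset α) \ {a, b}).card by
    rw [Finset.card_sdiff_of_subset (Finset.subset_univ _), Finset.card_univ, Finset.card_pair hab, h9]
    norm_num)
  simp only [Finset.mem_sdiff, Finset.mem_univ, true_and, Finset.mem_insert, Finset.mem_singleton, not_or] at hc hd
  have hKc : Nat.card K = 42 := by
    let T := (((Finset.univ : Finset α) \ {a, b}).offDiag)
    have hbij : Function.Bijective fun g : K => (⟨((g : G) • c, (g : G) • d), by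
        have hga : (g : G) • a = a := g.2.1
        have hgb : (g : G) • b = b := g.2.2
        simp only [T, Finset.mem_offDiag, Finset.mem_sdiff, Finset.mem_univ, true_and, Finset.mem_insert,
          Finset.mem_singleton, not_or]
        exact ⟨⟨fun h => hc.1 (smul_left_cancel (g : G) (h.trans hga.symm)),
            fun h => hc.2 (smul_left_cancel (g : G) (h.trans hgb.symm))⟩,
          ⟨fun h => hd.1 (smul_left_cancel (g : G) (h.trans hga.symm)),
            fun h => hd.2 (smul_left_cancel (g : G) (h.trans hgb.symm))⟩,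
          fun h => hcd (smul_left_cancel (g : G) h)⟩⟩ : T) := by
      constructor
      · intro g h hgh
        simp only [Subtype.mk.injEq, Prod.mk.injEq] at hgh
        have hga : (g : G) • a = a := g.2.1
        have hgb : (g : G) • b = b := g.2.2
        have hha : (h : G) • a = a := h.2.1
        have hhb : (h : G) • b = b := h.2.2
        refine Subtype.ext (inv_mul_eq_one.1 (eq_one_of_four hG hsharp
          ⟨hab, Ne.symm hc.1, Ne.symm hd.1, Ne.symm hc.2, Ne.symm hd.2, hcd⟩ ?_ ?_ ?_ ?_)).symm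
        · rw [mul_smul, hga, inv_smul_eq_iff, hha]
        · rw [mul_smul, hgb, inv_smul_eq_iff, hhb]
        · rw [mul_smul, hgh.1, inv_smul_smul]
        · rw [mul_smul, hgh.2, inv_smul_smul]
      · rintro ⟨⟨c', d'⟩, ht⟩
        simp only [T, Finset.mem_offDiag, Finset.mem_sdiff, Finset.mem_univ, true_and, Finset.mem_insert,
          Finset.mem_singleton, not_or] at ht
        obtain ⟨g, ⟨g1, g2, g3, g4⟩, -⟩ := exists_unique_map hG hsharp
          (a := a) (b := b) (c := c) (d := d) (a' := a) (b' := b) (c' := c') (d' := d')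
          ⟨hab, Ne.symm hc.1, Ne.symm hd.1, Ne.symm hc.2, Ne.symm hd.2, hcd⟩
          ⟨hab, Ne.symm ht.1.1, Ne.symm ht.2.1.1, Ne.symm ht.1.2, Ne.symm ht.2.1.2, ht.2.2⟩
        exact ⟨⟨g, g1, g2⟩, Subtype.ext (Prod.ext g3 g4)⟩
    rw [Nat.card_congr (Equiv.ofBijective _ hbij), Nat.card_eq_finsetCard]
    simp only [T, Finset.offDiag_card]
    rw [Finset.card_sdiff_of_subset (Finset.subset_univ _), Finset.card_univ, Finset.card_pair hab, h9]
  obtain ⟨u, hu⟩ := exists_prime_orderOf_dvd_card' (G := K) 7 (by rw [hKc]; norm_num)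
  set U : Subgroup K := Subgroup.zpowers u with hU
  have hUc : Nat.card U = 7 := by rw [hU, Nat.card_zpowers, hu]
  have huniq : ∀ v : K, orderOf v = 7 → v ∈ U := by
    intro v hv
    by_contra hvU
    have hinj : Function.Injective fun p : U × Subgroup.zpowers v => (p.1 : K) * p.2 := by
      rintro ⟨x, y⟩ ⟨x', y'⟩ h
      have h1 : (x : K) * y = x' * y' := h
      have h2 : ((x'⁻¹ * x : U) : K) = ((y' * y⁻¹ : Subgroup.zpowers v) : K) := by
        rw [Subgroup.coe_mul, Subgroup.coe_inv, Subgroup.coe_mul, Subgroup.coe_inv, eq_mul_inv_iff_mul_eq,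
          mul_assoc, h1, inv_mul_cancel_left]
      have h3 : (y' * y⁻¹ : Subgroup.zpowers v) = 1 := by
        by_contra hne
        have h4 : Subgroup.zpowers (((y' * y⁻¹ : Subgroup.zpowers v)) : K) = Subgroup.zpowers v := by
          refine Subgroup.eq_of_le_of_card_ge (Subgroup.zpowers_le.2 (SetLike.coe_mem _)) ?_
          rw [Nat.card_zpowers, Nat.card_zpowers, hv]
          have h5 := orderOf_dvd_natCard (y' * y⁻¹)
          rw [Nat.card_zpowers, hv] at h5
          rw [Subgroup.orderOf_coe]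
          rcases (Nat.dvd_prime (by norm_num)).1 h5 with h6 | h6
          · exact absurd (orderOf_eq_one_iff.1 h6) hne
          · exact h6.ge
        exact hvU (Subgroup.zpowers_le.2 (show ((y' * y⁻¹ : Subgroup.zpowers v) : K) ∈ U by rw [← h2]; exact (x'⁻¹ * x).2) (by rw [h4]; exact Subgroup.mem_zpowers v))
      rw [mul_inv_eq_one] at h3
      subst h3
      rw [Subtype.ext (mul_right_cancel h1)]
    have := Nat.card_le_card_of_injective _ hinj
    rw [Nat.card_prod, hUc, Nat.card_zpowers, hv, hKc] at this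
    omega
  have hUn : U.Normal := ⟨fun x hx k => by
    obtain ⟨i, rfl⟩ := Subgroup.mem_zpowers_iff.1 hx
    rw [← conj_zpow]
    exact Subgroup.zpow_mem _ (huniq _ (((MulAut.conj k).orderOf_eq u).trans hu)) i⟩
  -- `u` has one orbit on the other seven points
  have hua : ((u : G)) • a = a := u.2.1
  have hub : ((u : G)) • b = b := u.2.2
  have huc : (u : G) • c ≠ c := by
    intro huc
    set p : Equiv.Perm α := ((u : G) : Equiv.Perm α) with hp
    have hord : orderOf p = 7 := by rw [hp, Subgroup.orderOf_coe, Subgroup.orderOf_coe, hu]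
    have hs : p.support ⊆ Finset.univ \ {a, b, c} := fun x hx => by
      simp only [Finset.mem_sdiff, Finset.mem_univ, true_and, Finset.mem_insert, Finset.mem_singleton, not_or]
      rw [Equiv.Perm.mem_support] at hx
      exact ⟨fun h => hx (h ▸ hua), fun h => hx (h ▸ hub), fun h => hx (h ▸ huc)⟩
    have h1 := Finset.card_le_card hs
    rw [Finset.card_sdiff_of_subset (Finset.subset_univ _), Finset.card_univ, h9,
      Finset.card_eq_three.2 ⟨a, b, c, hab, Ne.symm hc.1, Ne.symm hc.2, rfl⟩, ← Equiv.Perm.sum_cycleType] at h1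
    obtain ⟨l, hl⟩ : ∃ l, l ∈ p.cycleType := Multiset.exists_mem_of_ne_zero fun h0 => by
      rw [Equiv.Perm.cycleType_eq_zero] at h0
      rw [h0, orderOf_one] at hord
      omega
    have h2 := Multiset.single_le_sum (fun x _ => Nat.zero_le x) l hl
    have h3 := Equiv.Perm.dvd_of_mem_cycleType hl
    rw [hord, Nat.dvd_prime (by norm_num)] at h3
    have h4 := Equiv.Perm.two_le_of_mem_cycleType hl
    omega
  have hfree : ∀ i : Fin 7, ((u : G) ^ (i : ℕ)) • c = c → i = 0 := by
    intro i hi
    by_contra h0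
    have h1 : (i : ℕ).Coprime 7 := by
      rw [Nat.coprime_comm, Nat.Prime.coprime_iff_not_dvd (by norm_num)]
      intro hd
      have := Nat.le_of_dvd (Nat.pos_of_ne_zero fun h => h0 (Fin.ext h)) hd
      omega
    obtain ⟨j, hj⟩ := exists_pow_eq_self_of_coprime (x := (u : G)) (n := (i : ℕ))
      (by rw [Subgroup.orderOf_coe, hu]; exact h1)
    apply huc
    rw [← hj]
    exact mem_stabilizer_iff.1 (pow_mem (mem_stabilizer_iff.2 hi) j)
  have hu7 : (u : G) ^ 7 = 1 := by
    have h := pow_orderOf_eq_one (u : G)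
    rwa [Subgroup.orderOf_coe, hu] at h
  have horbit : ∀ x : α, x ≠ a → x ≠ b → ∃ i : ℕ, ((u : G) ^ i) • c = x := by
    let orb : Fin 7 → ↥((Finset.univ : Finset α) \ {a, b}) := fun i => ⟨((u : G) ^ (i : ℕ)) • c, by
      simp only [Finset.mem_sdiff, Finset.mem_univ, true_and, Finset.mem_insert, Finset.mem_singleton, not_or]
      exact ⟨fun h => hc.1 (smul_left_cancel _ (h.trans (mem_stabilizer_iff.1 (pow_mem (mem_stabilizer_iff.2 hua) _)).symm)),
        fun h => hc.2 (smul_left_cancel _ (h.trans (mem_stabilizer_iff.1 (pow_mem (mem_stabilizer_iff.2 hub) _)).symm))⟩⟩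
    have hinj : Function.Injective orb := by
      intro i j hij
      have h1 : ((u : G) ^ (i : ℕ)) • c = ((u : G) ^ (j : ℕ)) • c := congrArg Subtype.val hij
      have h2 : ((u : G) ^ (((i - j : Fin 7)) : ℕ)) • c = c := by
        have h3 : ((u : G) ^ (((i - j : Fin 7)) : ℕ)) = ((u : G) ^ (j : ℕ))⁻¹ * (u : G) ^ (i : ℕ) := by
          rw [eq_inv_mul_iff_mul_eq, ← pow_add, pow_eq_pow_iff_modEq, Subgroup.orderOf_coe, hu, Nat.ModEq, Fin.sub_def]
          simp only
          omega
        rw [h3, mul_smul, h1, inv_smul_smul]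
      exact sub_eq_zero.1 (hfree _ h2)
    have hb := hinj.bijective_of_nat_card_le (by
      rw [Nat.card_eq_finsetCard, Nat.card_fin, Finset.card_sdiff_of_subset (Finset.subset_univ _),
        Finset.card_univ, Finset.card_pair hab, h9])
    intro x hxa hxb
    obtain ⟨i, hi⟩ := hb.2 ⟨x, by simp [hxa, hxb]⟩
    exact ⟨i, congrArg Subtype.val hi⟩
  -- an element commuting with `u` is determined by the image of `c`
  have hdet : ∀ g : G, g * u = u * g → g • c = c → g ^ 2 • a = a ∧ (g = 1) := by
    intro g hg hgc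
    have h1 : ∀ i : ℕ, g • ((u : G) ^ i) • c = ((u : G) ^ i) • c := fun i => by
      rw [← mul_smul, ((show Commute g (u : G) from hg).pow_right i).eq, mul_smul, hgc]
    have h2 : g = 1 := by
      by_contra hne
      have hle := fixedCard_le hG hsharp hne
      have hsub : (Finset.univ : Finset α) \ {a, b} ⊆ Finset.univ.filter fun x : α => g • x = x := by
        intro x hx
        simp only [Finset.mem_sdiff, Finset.mem_univ, true_and, Finset.mem_insert, Finset.mem_singleton, not_or] at hx
        obtain ⟨i, rfl⟩ := horbit x hx.1 hx.2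
        simp [h1 i]
      have := Finset.card_le_card hsub
      rw [Finset.card_sdiff_of_subset (Finset.subset_univ _), Finset.card_univ, Finset.card_pair hab, h9] at this
      omega
    exact ⟨by rw [h2, one_pow, one_smul], h2⟩
  -- every automorphism of `U` is induced by `K`
  let ψ : K →* MulAut U := MulAut.conjNormal
  have hker : Nat.card ψ.ker ≤ 7 := by
    have hpt : ∀ k : ψ.ker, ((k : K) : G) • c ≠ a ∧ ((k : K) : G) • c ≠ b := fun k => by
      have hka : ((k : K) : G) • a = a := (k : K).2.1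
      have hkb : ((k : K) : G) • b = b := (k : K).2.2
      exact ⟨fun h => hc.1 (smul_left_cancel _ (h.trans hka.symm)), fun h => hc.2 (smul_left_cancel _ (h.trans hkb.symm))⟩
    have hcomm : ∀ k : ψ.ker, ((k : K) : G) * u = u * ((k : K) : G) := fun k => by
      have h1 := congrArg (fun q : U => ((q : K) : G))
        (DFunLike.congr_fun (MonoidHom.mem_ker.1 k.2) (⟨u, Subgroup.mem_zpowers u⟩ : U))
      simp only [ψ, MulAut.conjNormal_apply, MulAut.one_apply, Subgroup.coe_mul, Subgroup.coe_inv,
        mul_inv_eq_iff_eq_mul] at h1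
      exact h1
    have h := Nat.card_le_card_of_injective
      (fun k : ψ.ker => (⟨((k : K) : G) • c, by simp [(hpt k).1, (hpt k).2]⟩ : ↥((Finset.univ : Finset α) \ {a, b})))
      fun k k' h => by
        have h1 : ((k : K) : G) • c = ((k' : K) : G) • c := congrArg Subtype.val h
        refine Subtype.ext (Subtype.ext (inv_mul_eq_one.1 (hdet _ ?_ ?_).2).symm)
        · exact ((show Commute _ _ from hcomm k').inv_left.mul_left (hcomm k)).eq
        · rw [mul_smul, h1, inv_smul_smul]
    rwa [Nat.card_eq_finsetCard, Finset.card_sdiff_of_subset (Finset.subset_univ _), Finset.card_univ,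
      Finset.card_pair hab, h9] at h
  have hsurj : ψ.range = ⊤ := by
    apply Subgroup.eq_top_of_card_eq
    have hcyc : IsCyclic U := isCyclic_of_prime_card hUc
    have hA : Nat.card (MulAut U) = 6 := by
      rw [IsCyclic.card_mulAut, hUc, Nat.totient_prime (by norm_num)]
    have h1 := ψ.ker.index_mul_card
    rw [Subgroup.index_ker, hKc] at h1
    have h2 : Nat.card ψ.range ≤ 6 := hA ▸ Nat.card_le_card_of_injective _ Subtype.val_injective
    rw [hA]
    have h3 := Nat.mul_le_mul_left (Nat.card ψ.range) hker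
    omega
  -- an element interchanging `a` and `b` and commuting with `u`
  obtain ⟨s, ⟨hsa, hsb, -, -⟩, -⟩ := exists_unique_map hG hsharp
    (a := a) (b := b) (c := c) (d := d) (a' := b) (b' := a) (c' := c) (d' := d)
    ⟨hab, Ne.symm hc.1, Ne.symm hd.1, Ne.symm hc.2, Ne.symm hd.2, hcd⟩
    ⟨hab.symm, Ne.symm hc.2, Ne.symm hd.2, Ne.symm hc.1, Ne.symm hd.1, hcd⟩
  have hsK : ∀ g ∈ K, s * g * s⁻¹ ∈ K := fun g hg => by
    have ha' : s⁻¹ • a = b := inv_smul_eq_iff.2 hsb.symm
    have hb' : s⁻¹ • b = a := inv_smul_eq_iff.2 hsa.symm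
    exact ⟨by show (s * g * s⁻¹) • a = a; rw [mul_smul, mul_smul, ha', show g • b = b from hg.2, hsb],
      by show (s * g * s⁻¹) • b = b; rw [mul_smul, mul_smul, hb', show g • a = a from hg.1, hsa]⟩
  let σ : MulAut U :=
    MulEquiv.ofBijective (MonoidHom.mk'
      (fun x : U => (⟨⟨s * ((x : K) : G) * s⁻¹, hsK _ (x : K).2⟩, by
        obtain ⟨i, hi⟩ := Subgroup.mem_zpowers_iff.1 x.2
        have h1 : (⟨s * ((u : K) : G) * s⁻¹, hsK _ u.2⟩ : K) ∈ U := huniq _ (by
          rw [← Subgroup.orderOf_coe]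
          exact ((MulAut.conj s).orderOf_eq (u : G)).trans ((Subgroup.orderOf_coe u).trans hu))
        rw [show (⟨s * ((x : K) : G) * s⁻¹, hsK _ (x : K).2⟩ : K) = (⟨s * (u : G) * s⁻¹, hsK _ u.2⟩ : K) ^ i from
          Subtype.ext (by
            rw [SubgroupClass.coe_zpow]
            show s * ((x : K) : G) * s⁻¹ = (s * (u : G) * s⁻¹) ^ i
            rw [conj_zpow, ← SubgroupClass.coe_zpow, hi])]
        exact Subgroup.zpow_mem U h1 i⟩ : U))
      fun x y => Subtype.ext (Subtype.ext (by simp [mul_assoc])))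
      (Finite.injective_iff_bijective.1 fun x y h => by
        have h1 : s * ((x : K) : G) * s⁻¹ = s * ((y : K) : G) * s⁻¹ := congrArg (fun q : U => ((q : K) : G)) h
        exact Subtype.ext (Subtype.ext (mul_left_cancel (mul_right_cancel h1))))
  obtain ⟨k, hk⟩ : σ ∈ ψ.range := hsurj ▸ Subgroup.mem_top σ
  set w : G := ((k : K) : G)⁻¹ * s with hw
  have hka : ((k : K) : G) • a = a := k.2.1
  have hkb : ((k : K) : G) • b = b := k.2.2
  have hwa : w • a = b := by rw [hw, mul_smul, hsa, inv_smul_eq_iff, hkb]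
  have hwb : w • b = a := by rw [hw, mul_smul, hsb, inv_smul_eq_iff, hka]
  have hwu : w * u = u * w := by
    have h1 := congrArg (fun q : U => ((q : K) : G)) (DFunLike.congr_fun hk (⟨u, Subgroup.mem_zpowers u⟩ : U))
    simp only [ψ, σ, MulAut.conjNormal_apply, Subgroup.coe_mul, Subgroup.coe_inv, MulEquiv.ofBijective_apply,
      MonoidHom.mk'_apply] at h1
    rw [hw]
    calc ((k : K) : G)⁻¹ * s * u = ((k : K) : G)⁻¹ * (s * u * s⁻¹) * s := by group
      _ = ((k : K) : G)⁻¹ * (((k : K) : G) * u * ((k : K) : G)⁻¹) * s := by rw [h1]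
      _ = _ := by group
  -- its seventh power fixes seven points
  obtain ⟨i, hi⟩ := horbit (w • c)
    (fun h => hc.2 (smul_left_cancel w (h.trans hwb.symm)))
    (fun h => hc.1 (smul_left_cancel w (h.trans hwa.symm)))
  have hv : ((u : G) ^ i)⁻¹ * w = 1 := by
    refine (hdet _ ?_ ?_).2
    · exact (((show Commute (u : G) (u : G) from Commute.refl _).pow_left i).inv_left.mul_left hwu).eq
    · rw [mul_smul, ← hi, inv_smul_smul]
  rw [inv_mul_eq_one] at hv
  rw [← hv] at hwa
  exact hab ((mem_stabilizer_iff.1 (pow_mem (mem_stabilizer_iff.2 hua) i)).symm.trans hwa)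

theorem degree_four (h4 : 4 ≤ Fintype.card α) :
    Fintype.card α = 4 ∨ Fintype.card α = 5 ∨ Fintype.card α = 6 ∨ Fintype.card α = 11 := by
  obtain ⟨he, ho⟩ := degree_bound hG hsharp h4
  have h9 := degree_ne_nine hG hsharp
  rcases Nat.even_or_odd (Fintype.card α) with h | h
  · have := he h
    rw [Nat.even_iff] at h
    omega
  · have := ho h
    rw [Nat.odd_iff] at h
    omega

end Four

/-- The stabiliser of a point of a sharply `(k+1)`-transitive group, acting on the other points. -/
theorem exists_stab {k : ℕ} (hG : IsMultiplyPretransitive G α (k + 1))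
    (hsharp : ∀ x : Fin (k + 1) ↪ α, stabilizer G x = ⊥) (a : α) :
    ∃ K : Subgroup (Equiv.Perm {x : α // x ≠ a}), IsMultiplyPretransitive K {x : α // x ≠ a} k ∧
      ∀ x : Fin k ↪ {x : α // x ≠ a}, stabilizer K x = ⊥ := by
  classical
  let f : stabilizer G a →* Equiv.Perm {x : α // x ≠ a} := MonoidHom.mk'
    (fun g => ((g : G) : Equiv.Perm α).subtypePerm fun x => by
      have hga : ((g : G) : Equiv.Perm α) a = a := g.2
      exact ⟨fun h e => h (e ▸ hga), fun h e => h (((g : G) : Equiv.Perm α).injective (e.trans hga.symm))⟩)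
    fun g h => Equiv.ext fun x => Subtype.ext rfl
  let ext' : (Fin k ↪ {x : α // x ≠ a}) → (Fin (k + 1) ↪ α) := fun x =>
    ⟨Fin.cons a fun i => (x i : α), by
      rw [Fin.cons_injective_iff]
      exact ⟨fun ⟨i, hi⟩ => (x i).2 hi, Subtype.val_injective.comp x.injective⟩⟩
  refine ⟨f.range, ⟨fun x y => ?_⟩, fun x => ?_⟩
  · obtain ⟨g, hg⟩ := exists_map hG (ext' x) (ext' y)
    have hga : g ∈ stabilizer G a := mem_stabilizer_iff.2 (by simpa [ext'] using hg 0)
    refine ⟨⟨f ⟨g, hga⟩, _, rfl⟩, DFunLike.ext _ _ fun i => Subtype.ext ?_⟩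
    have := hg i.succ
    simp only [ext', Function.Embedding.coeFn_mk, Fin.cons_succ] at this
    exact this
  · rw [Subgroup.eq_bot_iff_forall]
    rintro ⟨_, g, rfl⟩ hp
    have h1 : (g : G) = 1 := by
      refine eq_one_of_fixes hsharp (ext' x) fun i => ?_
      refine Fin.cases ?_ (fun j => ?_) i
      · simpa [ext'] using mem_stabilizer_iff.1 g.2
      · have h2 := congrArg Subtype.val (DFunLike.congr_fun (mem_stabilizer_iff.1 hp) j)
        simp only [ext', Function.Embedding.coeFn_mk, Fin.cons_succ]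
        exact h2
    exact Subtype.ext ((congrArg f (show g = 1 from Subtype.ext h1)).trans (map_one f))

theorem card_ne (a : α) : Fintype.card {x : α // x ≠ a} + 1 = Fintype.card α := by
  have := Fintype.card_pos_iff.2 ⟨a⟩
  rw [Fintype.card_subtype_compl, Fintype.card_subtype_eq]
  omega

theorem degree_five (hG : IsMultiplyPretransitive G α 5) (hsharp : ∀ x : Fin 5 ↪ α, stabilizer G x = ⊥)
    (h5 : 5 ≤ Fintype.card α) :
    Fintype.card α = 5 ∨ Fintype.card α = 6 ∨ Fintype.card α = 7 ∨ Fintype.card α = 12 := by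
  obtain ⟨a⟩ : Nonempty α := Fintype.card_pos_iff.1 (by omega)
  obtain ⟨K, hK, hKs⟩ := exists_stab hG hsharp a
  have hc := card_ne a
  have := degree_four hK hKs (by omega)
  omega

theorem degree_six_ne_thirteen (hG : IsMultiplyPretransitive G α 6) (hsharp : ∀ x : Fin 6 ↪ α, stabilizer G x = ⊥) :
    Fintype.card α ≠ 13 := by
  classical
  intro h13
  have := Fact.mk (show Nat.Prime 13 by norm_num)
  obtain ⟨x₀⟩ : Nonempty (Fin 6 ↪ α) := Function.Embedding.nonempty_of_card_le (by simp [h13])
  have hGc : Nat.card G = 1235520 := by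
    rw [card_group hG hsharp x₀, h13]
    decide
  obtain ⟨P⟩ : Nonempty (Sylow 13 G) := inferInstance
  have hPc : Nat.card (P : Subgroup G) = 13 := by
    rw [P.card_eq_multiplicity, hGc]
    have h : (1235520 : ℕ).factorization 13 = 1 := by
      rw [show (1235520 : ℕ) = 13 * 95040 by norm_num, Nat.factorization_mul (by norm_num) (by norm_num),
        Finsupp.add_apply, Nat.Prime.factorization_self (by norm_num),
        Nat.factorization_eq_zero_of_not_dvd (by norm_num)]
    rw [h, pow_one]
  have hcyc : IsCyclic (P : Subgroup G) := isCyclic_of_prime_card hPc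
  obtain ⟨u, hu⟩ := hcyc.exists_generator
  have hou : orderOf (u : G) = 13 := by
    rw [Subgroup.orderOf_coe, orderOf_eq_card_of_forall_mem_zpowers hu, hPc]
  obtain ⟨c, hc⟩ : ∃ c : α, (u : G) • c ≠ c := by
    by_contra hcon
    push Not at hcon
    have : (u : G) = 1 := eq_one_of_fixes hsharp x₀ fun i => hcon _
    rw [this, orderOf_one] at hou
    omega
  have hinj : Function.Injective fun i : Fin 13 => ((u : G) ^ (i : ℕ)) • c := by
    intro i j hij
    by_contra hne
    have h1 : ((u : G) ^ (((i - j : Fin 13)) : ℕ)) • c = c := by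
      have h3 : ((u : G) ^ (((i - j : Fin 13)) : ℕ)) = ((u : G) ^ (j : ℕ))⁻¹ * (u : G) ^ (i : ℕ) := by
        rw [eq_inv_mul_iff_mul_eq, ← pow_add, pow_eq_pow_iff_modEq, hou, Nat.ModEq, Fin.sub_def]
        simp only
        omega
      rw [h3, mul_smul, show ((u : G) ^ (i : ℕ)) • c = ((u : G) ^ (j : ℕ)) • c from hij, inv_smul_smul]
    have h2 : (((i - j : Fin 13)) : ℕ).Coprime 13 := by
      rw [Nat.coprime_comm, Nat.Prime.coprime_iff_not_dvd (by norm_num)]
      intro hd
      rcases Nat.eq_zero_or_pos (((i - j : Fin 13)) : ℕ) with h | h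
      · exact hne (sub_eq_zero.1 (Fin.ext h))
      · have := Nat.le_of_dvd h hd
        omega
    obtain ⟨k, hk⟩ := exists_pow_eq_self_of_coprime (x := (u : G)) (n := (((i - j : Fin 13)) : ℕ)) (by rw [hou]; exact h2)
    apply hc
    rw [← hk]
    exact mem_stabilizer_iff.1 (pow_mem (mem_stabilizer_iff.2 h1) k)
  have hbij := hinj.bijective_of_nat_card_le (by rw [Nat.card_eq_fintype_card, h13, Nat.card_fin])
  -- the centraliser of `P` is `P`
  set N := Subgroup.normalizer ((P : Subgroup G) : Set G) with hN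
  let ψ := (P : Subgroup G).normalizerMonoidHom
  have hker : Nat.card ψ.ker ≤ 13 := by
    have h := Nat.card_le_card_of_injective (fun g : ψ.ker => ((g : N) : G) • c) fun g g' h => by
      have hcom : ∀ g : ψ.ker, ((g : N) : G) * u = u * ((g : N) : G) := fun g => by
        have h1 := (SetLike.ext_iff.1 (Subgroup.normalizerMonoidHom_ker (H := (P : Subgroup G))) (g : N)).1 g.2
        exact (Subgroup.mem_centralizer_iff.1 h1 u u.2).symm
      have h2 : ∀ z : α, ((g : N) : G) • z = ((g' : N) : G) • z := fun z => by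
        obtain ⟨i, rfl⟩ := hbij.2 z
        show ((g : N) : G) • ((u : G) ^ (i : ℕ)) • c = ((g' : N) : G) • ((u : G) ^ (i : ℕ)) • c
        have e : ∀ k : ψ.ker, ((k : N) : G) • ((u : G) ^ (i : ℕ)) • c = ((u : G) ^ (i : ℕ)) • ((k : N) : G) • c :=
          fun k => by rw [← mul_smul, ((show Commute _ _ from hcom k).pow_right _).eq, mul_smul]
        rw [e g, e g', show ((g : N) : G) • c = ((g' : N) : G) • c from h]
      exact Subtype.ext (Subtype.ext (Subtype.ext (Equiv.ext h2)))
    rwa [Nat.card_eq_fintype_card (α := α), h13] at h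
  have hker13 : 13 ∣ Nat.card ψ.ker := by
    refine (dvd_of_eq hPc.symm).trans <| Subgroup.card_dvd_of_injective (MonoidHom.mk'
      (fun x : (P : Subgroup G) => (⟨⟨x, Subgroup.le_normalizer x.2⟩, by
        rw [Subgroup.normalizerMonoidHom_ker]
        exact Subgroup.mem_centralizer_iff.2 fun y hy => by
          have := hcyc.isMulCommutative
          exact congrArg Subtype.val (mul_comm' (⟨y, hy⟩ : (P : Subgroup G)) x)⟩ : ψ.ker))
      fun x y => Subtype.ext (Subtype.ext rfl)) fun x y h => ?_
    exact Subtype.ext (congrArg (fun q : ψ.ker => ((q : N) : G)) h)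
  have hk13 : Nat.card ψ.ker = 13 := le_antisymm hker (Nat.le_of_dvd Nat.card_pos hker13)
  have hd : Nat.card ψ.range ∣ 12 := by
    have h := Subgroup.card_subgroup_dvd_card ψ.range
    rwa [IsCyclic.card_mulAut, hPc, Nat.totient_prime (by norm_num)] at h
  have h1 := ψ.ker.index_mul_card
  rw [Subgroup.index_ker, hk13] at h1
  have h2 := N.index_mul_card
  rw [hGc, ← h1] at h2
  have h3 : N.index % 13 = 1 := by
    have := card_sylow_modEq_one 13 G
    rw [Sylow.card_eq_index_normalizer P] at this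
    exact this
  have h4 : Nat.card ψ.range ≤ 12 := Nat.le_of_dvd (by norm_num) hd
  have h5 : 0 < Nat.card ψ.range := Nat.card_pos
  interval_cases (Nat.card ψ.range) <;> omega

theorem degree_ge_six {k : ℕ} (hk : 6 ≤ k) :
    ∀ {β : Type*} [Fintype β] [DecidableEq β] (G : Subgroup (Equiv.Perm β)), IsMultiplyPretransitive G β k →
      (∀ x : Fin k ↪ β, stabilizer G x = ⊥) → k ≤ Fintype.card β →
      Fintype.card β = k ∨ Fintype.card β = k + 1 ∨ Fintype.card β = k + 2 := by
  induction k, hk using Nat.le_induction with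
  | base =>
    intro β _ _ G hG hs hn
    obtain ⟨a⟩ : Nonempty β := Fintype.card_pos_iff.1 (by omega)
    obtain ⟨K, hK, hKs⟩ := exists_stab hG hs a
    have hc := card_ne a
    have := degree_five hK hKs (by omega)
    have := degree_six_ne_thirteen hG hs
    omega
  | succ k hk ih =>
    intro β _ _ G hG hs hn
    obtain ⟨a⟩ : Nonempty β := Fintype.card_pos_iff.1 (by omega)
    obtain ⟨K, hK, hKs⟩ := exists_stab hG hs a
    have hc := card_ne a
    have := ih K hK hKs (by omega)
    omega

end Cfsg.Lib.SharpJordan
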